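import Cfsg.Agent.ClosedExc.SLFacts
import Cfsg.Agent.ClosedTwo.Elem
import Cfsg.Agent.Cit.ParabSL2
import Cfsg.Agent.S0215

/-!
# Strongly closed 2-subgroups and subgroups `SL(2,q)`, `q` odd (helper50, S1252)

`φ : SL(2,F) →* G`, `F` a finite field of odd order, kernel contained in `{1, -1}`; `A` strongly closed in a Sylow
2-subgroup of `G`.  `Full A φ` : all elements `φ w`, `w` of 2-power order, are conjugate into `A`.

* `full_of_sq` : one `φ v` with `v * v = -1`;
* `full_of_mem` : one `φ w`, `w ≠ 1, -1` of 2-power order;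
* `full_of_normalizes` : an involution of `Cl A` normalizing but not centralizing the image of `φ`;
* `full_of_swap` : a 2-element `a` in `Cl A` such that the image of `φ` commutes with its conjugate under `a` and with `a²`.
-/

set_option autoImplicit false
set_option linter.unusedSectionVars false

namespace Cfsg.Agent.ClosedExc

open Subgroup Cfsg Cfsg.Agent.ClosedTwo.Elem Cfsg.Agent.Lib.SL2Mat

section pgroup

variable {G : Type*} [Group G]

theorem isPGroup_zpowers {x : G} {k : ℕ} (hx : x ^ 2 ^ k = 1) : IsPGroup 2 ↥(zpowers x) := by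
  rintro ⟨a, ha⟩
  obtain ⟨n, rfl⟩ := mem_zpowers_iff.1 ha
  refine ⟨k, Subtype.ext ?_⟩
  change (x ^ n) ^ 2 ^ k = 1
  rw [← zpow_natCast, ← zpow_mul, mul_comm, zpow_mul, zpow_natCast, hx, one_zpow]

/-- adjoining a 2-element normalizing a 2-group -/
theorem isPGroup_sup_zpowers {P : Subgroup G} (hP : IsPGroup 2 ↥P) {x : G} {k : ℕ} (hx : x ^ 2 ^ k = 1)
    (h : ∀ y ∈ P, x * y * x⁻¹ ∈ P) : IsPGroup 2 ↥(P ⊔ zpowers x : Subgroup G) := by
  rw [sup_comm]
  refine IsPGroup.to_sup_of_normal_right' (isPGroup_zpowers hx) hP ?_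
  rw [zpowers_le, mem_normalizer_iff]
  have hpow : ∀ (n : ℕ), ∀ y ∈ P, x ^ n * y * (x ^ n)⁻¹ ∈ P := by
    intro n
    induction n with
    | zero => intro y hy; simpa using hy
    | succ n ih =>
      intro y hy
      have := h _ (ih y hy)
      rwa [show x * (x ^ n * y * (x ^ n)⁻¹) * x⁻¹ = x ^ (n + 1) * y * (x ^ (n + 1))⁻¹ by
        rw [pow_succ']; group] at this
  have hinv : x⁻¹ = x ^ (2 ^ k - 1) := by
    refine inv_eq_of_mul_eq_one_right ?_
    rw [← pow_succ', Nat.sub_add_cancel Nat.one_le_two_pow, hx]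
  intro y
  refine ⟨h y, fun hy => ?_⟩
  have := hpow (2 ^ k - 1) _ hy
  rw [← hinv] at this
  rwa [show x⁻¹ * (x * y * x⁻¹) * (x⁻¹)⁻¹ = y by group] at this

/-- the case of a cyclic group -/
theorem isPGroup_two {x y : G} {k l : ℕ} (hx : x ^ 2 ^ k = 1) (hy : y ^ 2 ^ l = 1)
    (h : x * y * x⁻¹ ∈ zpowers y) : IsPGroup 2 ↥(zpowers y ⊔ zpowers x : Subgroup G) := by
  refine isPGroup_sup_zpowers (isPGroup_zpowers hy) hx ?_
  intro a ha
  obtain ⟨n, rfl⟩ := mem_zpowers_iff.1 ha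
  rw [← conj_zpow]
  exact zpow_mem h n

/-- All the 2-elements of the image of `φ` are conjugate into `A`. -/
def Full {K : Type*} [Group K] (A : Subgroup G) (φ : K →* G) : Prop :=
  ∀ (w : K) (k : ℕ), w ^ 2 ^ k = 1 → Cl A (φ w)

end pgroup

variable {F : Type*} [Field F] [Fintype F]

local notation "SL2" => Matrix.SpecialLinearGroup (Fin 2) F

variable {G : Type*} [Group G] [Finite G]


variable {S : Sylow 2 G} {A : Subgroup G}

theorem pow_four {v : SL2} (hv : v * v = -1) : v ^ 2 ^ 2 = 1 := by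
  rw [show (2 : ℕ) ^ 2 = 2 * 2 by norm_num, pow_mul, pow_two, pow_two, hv]; simp

theorem neg_one_pow : (-1 : SL2) ^ 2 ^ 1 = 1 := by simp

section

variable (hF : Odd (Fintype.card F)) (hA : IsStronglyClosed A (S : Subgroup G))

include hF hA

/-- **All 2-elements from one element of order 4.** -/
theorem full_of_sq {φ : SL2 →* G} {v : SL2} (hv : v * v = -1) (h : Cl A (φ v)) : Full A φ := by
  have hall : ∀ w : SL2, w * w = -1 → Cl A (φ w) := by
    intro w hw
    obtain ⟨g, rfl⟩ := SL.conj_sq hF hv hw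
    rw [map_mul, map_mul, map_inv]
    exact h.conj _
  intro w k hw
  by_cases h1 : w = 1
  · rw [h1, map_one]; exact cl_one
  by_cases h2 : w = -1
  · rw [h2, ← hv, map_mul, ← pow_two]
    exact h.pow 2
  obtain ⟨y, hy, hyw⟩ := SL.exists_inverting hF hw h1 h2
  have hinv := SL.inv_of_inverting hy hyw
  have hP : IsPGroup 2 ↥(zpowers (φ w) ⊔ zpowers (φ y) : Subgroup G) := by
    refine isPGroup_two (k := 2) (l := k) (by rw [← map_pow, pow_four hy, map_one])
      (by rw [← map_pow, hw, map_one]) ?_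
    rw [← map_mul, ← map_inv, ← map_mul, hinv, map_inv]
    exact inv_mem (mem_zpowers _)
  have hwP : φ w ∈ zpowers (φ w) ⊔ zpowers (φ y) := (le_sup_left : zpowers (φ w) ≤ _) (mem_zpowers _)
  have hyP : φ y ∈ zpowers (φ w) ⊔ zpowers (φ y) := (le_sup_right : zpowers (φ y) ≤ _) (mem_zpowers _)
  have hp : Fact (Nat.Prime 2) := ⟨Nat.prime_two⟩
  have := Cl.mul hA hP (inv_mem hyP) (mul_mem hyP hwP) (hall y hy).inv (by rw [← map_mul]; exact hall _ hyw)
  rwa [inv_mul_cancel_left] at this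

/-- **All 2-elements from one noncentral 2-element.** -/
theorem full_of_mem {φ : SL2 →* G} {w : SL2} {k : ℕ} (hw : w ^ 2 ^ k = 1) (h1 : w ≠ 1) (h2 : w ≠ -1) (h : Cl A (φ w)) :
    Full A φ := by
  obtain ⟨n, hn⟩ := SL.exists_pow_sq hF hw h1 h2
  refine full_of_sq hF hA hn ?_
  rw [map_pow]
  exact h.pow n

/-- **A 2-element `a` moving the image of `φ` to a commuting subgroup.** -/
theorem full_of_swap {φ : SL2 →* G} {a : G} {k : ℕ} (hak : a ^ 2 ^ k = 1) (ha : Cl A a)
    (ha2 : ∀ u : SL2, a * (a * φ u * a⁻¹) * a⁻¹ = φ u)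
    (hcomm : ∀ u u' : SL2, Commute (a * φ u * a⁻¹) (φ u')) : Full A φ := by
  have hp : Fact (Nat.Prime 2) := ⟨Nat.prime_two⟩
  -- an element of square -1
  have hv : (wm (1 : F) one_ne_zero) * (wm (1 : F) one_ne_zero) = -1 :=
    (SL.sq_iff (SL.two_ne hF) _).2 (by rw [wm_00, wm_11, add_zero])
  generalize wm (1 : F) one_ne_zero = v at hv
  obtain ⟨u, hu, huv, hvu, hinv⟩ := SL.exists_quat hF hv
  have hφ4 : ∀ x : SL2, x * x = -1 → (φ x) ^ 2 ^ 2 = 1 := by
    intro x hx
    rw [← map_pow, pow_four hx, map_one]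
  have hcj4 : ∀ x : SL2, x * x = -1 → (a * φ x * a⁻¹) ^ 2 ^ 2 = 1 := by
    intro x hx
    rw [conj_pow, hφ4 x hx]; simp
  -- commutators
  have key : ∀ x : SL2, x * x = -1 → Cl A (a⁻¹ * (φ x * a * (φ x)⁻¹)) := by
    intro x hx
    have hP0 : IsPGroup 2 ↥(zpowers (φ x) ⊔ zpowers (a * φ x * a⁻¹) : Subgroup G) := by
      refine isPGroup_two (hcj4 x hx) (hφ4 x hx) ?_
      rw [(hcomm x x).eq, mul_inv_cancel_right]
      exact mem_zpowers _
    have hP : IsPGroup 2 ↥(zpowers (φ x) ⊔ zpowers (a * φ x * a⁻¹) ⊔ zpowers a : Subgroup G) := by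
      refine isPGroup_sup_zpowers hP0 hak ?_
      have hle : zpowers (φ x) ⊔ zpowers (a * φ x * a⁻¹) ≤
          (zpowers (φ x) ⊔ zpowers (a * φ x * a⁻¹)).comap (MulAut.conj a).toMonoidHom := by
        rw [sup_le_iff, zpowers_le, zpowers_le, mem_comap, mem_comap]
        constructor
        · exact (le_sup_right : zpowers (a * φ x * a⁻¹) ≤ _) (mem_zpowers _)
        · change a * (a * φ x * a⁻¹) * a⁻¹ ∈ _
          rw [ha2]
          exact (le_sup_left : zpowers (φ x) ≤ _) (mem_zpowers _)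
      exact fun y hy => hle hy
    have haP : a ∈ zpowers (φ x) ⊔ zpowers (a * φ x * a⁻¹) ⊔ zpowers a :=
      (le_sup_right : zpowers a ≤ _) (mem_zpowers _)
    have hxP : φ x ∈ zpowers (φ x) ⊔ zpowers (a * φ x * a⁻¹) ⊔ zpowers a :=
      mem_sup_left ((le_sup_left : zpowers (φ x) ≤ _) (mem_zpowers _))
    exact Cl.mul hA hP (inv_mem haP) (mul_mem (mul_mem hxP haP) (inv_mem hxP)) ha.inv (ha.conj _)
  -- `c x = (φ x)^a (φ x)⁻¹`
  have hai : ∀ x : SL2, a⁻¹ * φ x * a = a * φ x * a⁻¹ := by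
    intro x
    have := ha2 x
    rw [show a⁻¹ * φ x * a = a⁻¹ * (a * (a * φ x * a⁻¹) * a⁻¹) * a by rw [this]]
    group
  have hc1 : Cl A ((a * φ v * a⁻¹) * (φ v)⁻¹) := by
    have := key v hv
    rwa [show a⁻¹ * (φ v * a * (φ v)⁻¹) = (a⁻¹ * φ v * a) * (φ v)⁻¹ by group, hai] at this
  -- conjugating by an element of the image taking `v` to `u`
  obtain ⟨g, hg⟩ := SL.conj_sq hF hv hu
  have hc2 : Cl A ((a * φ v * a⁻¹) * (φ u)⁻¹) := by
    have := hc1.conj (φ g)
    have e : φ g * ((a * φ v * a⁻¹) * (φ v)⁻¹) * (φ g)⁻¹ = (a * φ v * a⁻¹) * (φ u)⁻¹ := by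
      rw [← mul_assoc, ← (hcomm v g).eq, ← hg, map_mul, map_mul, map_inv]
      group
    rwa [e] at this
  -- in the 2-group generated by `φ v`, `φ u`, `φ v ^ a`
  have hQ0 : IsPGroup 2 ↥(zpowers (φ v) ⊔ zpowers (φ u) : Subgroup G) := by
    refine isPGroup_two (hφ4 u hu) (hφ4 v hv) ?_
    rw [← map_mul, ← map_inv, ← map_mul, hinv, map_inv]
    exact inv_mem (mem_zpowers _)
  have hQ : IsPGroup 2 ↥(zpowers (φ v) ⊔ zpowers (φ u) ⊔ zpowers (a * φ v * a⁻¹) : Subgroup G) := by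
    refine isPGroup_sup_zpowers hQ0 (hcj4 v hv) ?_
    have hle : zpowers (φ v) ⊔ zpowers (φ u) ≤
        (zpowers (φ v) ⊔ zpowers (φ u)).comap (MulAut.conj (a * φ v * a⁻¹)).toMonoidHom := by
      rw [sup_le_iff, zpowers_le, zpowers_le, mem_comap, mem_comap]
      constructor
      · change (a * φ v * a⁻¹) * φ v * (a * φ v * a⁻¹)⁻¹ ∈ _
        rw [(hcomm v v).eq, mul_inv_cancel_right]
        exact (le_sup_left : zpowers (φ v) ≤ _) (mem_zpowers _)
      · change (a * φ v * a⁻¹) * φ u * (a * φ v * a⁻¹)⁻¹ ∈ _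
        rw [(hcomm v u).eq, mul_inv_cancel_right]
        exact (le_sup_right : zpowers (φ u) ≤ _) (mem_zpowers _)
    exact fun y hy => hle hy
  have hvQ : φ v ∈ zpowers (φ v) ⊔ zpowers (φ u) ⊔ zpowers (a * φ v * a⁻¹) :=
    mem_sup_left ((le_sup_left : zpowers (φ v) ≤ _) (mem_zpowers _))
  have huQ : φ u ∈ zpowers (φ v) ⊔ zpowers (φ u) ⊔ zpowers (a * φ v * a⁻¹) :=
    mem_sup_left ((le_sup_right : zpowers (φ u) ≤ _) (mem_zpowers _))
  have haQ : a * φ v * a⁻¹ ∈ zpowers (φ v) ⊔ zpowers (φ u) ⊔ zpowers (a * φ v * a⁻¹) :=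
    (le_sup_right : zpowers (a * φ v * a⁻¹) ≤ _) (mem_zpowers _)
  have h3 := Cl.mul hA hQ (inv_mem (mul_mem haQ (inv_mem hvQ))) (mul_mem haQ (inv_mem huQ)) hc1.inv hc2
  rw [show ((a * φ v * a⁻¹) * (φ v)⁻¹)⁻¹ * ((a * φ v * a⁻¹) * (φ u)⁻¹) = φ v * (φ u)⁻¹ by group,
    ← map_inv, ← map_mul] at h3
  exact full_of_sq hF hA hvu h3

end

/-! ### an involution normalizing the image of `φ` -/

section twist

theorem mem_zpowers_of_sq {H : Type*} [Group H] [Finite H] {z : H} (hzz : z * z = 1) (hz1 : z ≠ 1) {x : H}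
    (hx : x ∈ zpowers z) : x = 1 ∨ x = z := by
  classical
  have hzo : orderOf z = 2 := orderOf_eq_prime (by rw [pow_two, hzz]) hz1
  rw [mem_zpowers_iff_mem_range_orderOf, hzo] at hx
  simp only [Finset.mem_image, Finset.mem_range] at hx
  obtain ⟨n, hn, rfl⟩ := hx
  interval_cases n
  · left; simp
  · right; simp

theorem neg_one_ne (hF : Odd (Fintype.card F)) : ((-1 : SL2)) ≠ 1 := by
  have h20 := SL.two_ne hF
  intro h
  have : ent (-1 : SL2) 0 0 = ent (1 : SL2) 0 0 := congrArg (fun x => ent x 0 0) h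
  rw [SL.ent_neg, ent_one_00] at this
  exact h20 (by linear_combination -this)

/-- normal subgroups of `SL(2,F)` of odd order modulo `{1, -1}` -/
theorem odd_mod (hF : Odd (Fintype.card F)) {N : Subgroup SL2} (hN : N.Normal) (h1 : -1 ∈ N) {m : ℕ} (hm : Odd m)
    (h : ∀ u ∈ N, u ^ m = 1 ∨ u ^ m = -1) : ∀ u ∈ N, u = 1 ∨ u = -1 := by
  have hne := neg_one_ne (F := F) hF
  have hn2 : (-1 : SL2) * (-1) = 1 := by simp
  set z : N := ⟨-1, h1⟩ with hz
  have hzz : z * z = 1 := Subtype.ext hn2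
  have hz1 : z ≠ 1 := fun h => hne (congrArg Subtype.val h)
  have hzo : orderOf z = 2 := orderOf_eq_prime (by rw [pow_two, hzz]) hz1
  have hzc : ∀ x : N, z * x = x * z := fun x => Subtype.ext (by
    change (-1 : SL2) * x.1 = x.1 * (-1); rw [neg_one_mul, mul_neg_one])
  have hZn : (zpowers z).Normal := by
    refine ⟨fun x hx g => ?_⟩
    rcases mem_zpowers_of_sq hzz hz1 hx with rfl | rfl
    · simp
    · rw [← hzc, mul_inv_cancel_right]; exact mem_zpowers _
  -- the index is odd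
  have hidx : (Nat.card (zpowers z)).Coprime (zpowers z).index := by
    rw [Nat.card_zpowers, hzo, Nat.coprime_two_left]
    by_contra hc
    rw [Nat.not_odd_iff_even, even_iff_two_dvd] at hc
    have : Fact (Nat.Prime 2) := ⟨Nat.prime_two⟩
    obtain ⟨x, hx⟩ := exists_prime_orderOf_dvd_card' (G := N ⧸ zpowers z) 2 hc
    induction x using QuotientGroup.induction_on with
    | H x =>
      have h3 : ((x : N) : N ⧸ zpowers z) ^ m = 1 := by
        rw [← QuotientGroup.mk_pow, QuotientGroup.eq_one_iff]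
        rcases h x.1 x.2 with h4 | h4
        · rw [show x ^ m = 1 from Subtype.ext h4]; exact one_mem _
        · rw [show x ^ m = z from Subtype.ext h4]; exact mem_zpowers _
      have h4 : 2 ∣ m := by rw [← hx]; exact orderOf_dvd_of_pow_eq_one h3
      exact (Nat.not_even_iff_odd.2 hm) (even_iff_two_dvd.2 h4)
  obtain ⟨C, hC⟩ := exists_right_complement'_of_coprime hidx
  have hcard : Nat.card (zpowers z) * Nat.card C = Nat.card N := hC.card_mul_card
  have hCodd : Odd (Nat.card C) := by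
    have h2 : (zpowers z).index = Nat.card C := by
      have h3 := (zpowers z).card_mul_index
      rw [← hcard] at h3
      exact Nat.eq_of_mul_eq_mul_left Nat.card_pos h3
    rw [← h2]
    rw [Nat.card_zpowers, hzo, Nat.coprime_two_left] at hidx
    exact hidx
  have hzC : z ∉ C := by
    intro hzC
    have h2 : orderOf z ∣ Nat.card C := C.orderOf_dvd_natCard hzC
    rw [hzo] at h2
    exact (Nat.not_even_iff_odd.2 hCodd) (even_iff_two_dvd.2 h2)
  have hCm : ∀ x : N, x ∈ C ↔ x ^ m = 1 := by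
    intro x
    have hx := h x.1 x.2
    constructor
    · intro hxC
      rcases hx with h4 | h4
      · exact Subtype.ext h4
      · exfalso
        have h5 : x ^ m = z := Subtype.ext h4
        exact hzC (h5 ▸ pow_mem hxC m)
    · intro hxm
      have htop : x ∈ zpowers z ⊔ C := by rw [hC.sup_eq_top]; exact mem_top _
      obtain ⟨y, hy, c, hc, rfl⟩ := mem_sup_of_normal_left.1 htop
      rcases mem_zpowers_of_sq hzz hz1 hy with rfl | rfl
      · rwa [one_mul]
      · exfalso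
        have h5 : (z * c) ^ m = z ^ m * c ^ m := (show Commute z c from hzc c).mul_pow m
        have h6 : z ^ m = z := by
          obtain ⟨k, rfl⟩ := hm
          rw [pow_succ, pow_mul, pow_two, hzz, one_pow, one_mul]
        rw [h5, h6] at hxm
        have h7 : z = (c ^ m)⁻¹ := eq_inv_of_mul_eq_one_left hxm
        exact hzC (h7 ▸ inv_mem (pow_mem hc m))
  have hCn : (C.map N.subtype).Normal := by
    refine ⟨?_⟩
    rintro _ ⟨x, hx, rfl⟩ g
    have hx1 := (hCm x).1 hx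
    refine ⟨⟨g * x.1 * g⁻¹, hN.conj_mem _ x.2 g⟩, ?_, rfl⟩
    rw [SetLike.mem_coe, hCm]
    refine Subtype.ext ?_
    change (g * x.1 * g⁻¹) ^ m = 1
    rw [conj_pow, show x.1 ^ m = 1 from congrArg Subtype.val hx1, mul_one, mul_inv_cancel]
  have hle : C.map N.subtype ≤ oddCore SL2 := by
    refine Lib.Cores.le_pPrimeCore hCn ?_
    rw [Nat.coprime_two_right]
    rw [card_map_of_injective N.subtype_injective]
    exact hCodd
  rw [Cit.ParabSL2.oddCore_sl hF, le_bot_iff, map_eq_bot_iff_of_injective _ N.subtype_injective] at hle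
  intro u hu
  have htop : (⟨u, hu⟩ : N) ∈ zpowers z ⊔ C := by rw [hC.sup_eq_top]; exact mem_top _
  rw [hle, sup_bot_eq] at htop
  rcases mem_zpowers_of_sq hzz hz1 htop with h3 | h3
  · exact Or.inl (congrArg Subtype.val h3)
  · exact Or.inr (congrArg Subtype.val h3)

variable {H : Type*} [Group H] [Finite H]

/-- **An involution acting nontrivially on a normal `SL(2,q)`.** -/
theorem exists_twist (hF : Odd (Fintype.card F)) {φ : SL2 →* H} (hker : ∀ u, φ u = 1 → u = 1 ∨ u = -1)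
    {a : H} (haa : a * a = 1) (hn : φ.range.Normal) (hgen : φ.range ⊔ zpowers a = ⊤)
    (hc : ∃ u, a * φ u ≠ φ u * a) :
    ∃ (g : H) (u : SL2) (k : ℕ), a * (g * a * g⁻¹) = φ u ∧ u ^ 2 ^ k = 1 ∧ u ≠ 1 ∧ u ≠ -1 := by
  by_contra hno
  have H' : ∀ (g : H) (u : SL2) (k : ℕ), a * (g * a * g⁻¹) = φ u → u ^ 2 ^ k = 1 → u = 1 ∨ u = -1 := by
    intro g u k h1 h2
    by_contra h3
    rw [not_or] at h3
    exact hno ⟨g, u, k, h1, h2, h3.1, h3.2⟩
  have hai : a⁻¹ = a := inv_eq_of_mul_eq_one_right haa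
  have hzcen : ∀ u : SL2, φ (-1) * φ u = φ u * φ (-1) := by
    intro u
    rw [← map_mul, ← map_mul, neg_one_mul, mul_neg_one]
  let θ : H →* MulAut φ.range := MulAut.conjNormal
  have hθ : ∀ g : H, θ g = 1 ↔ ∀ u, g * φ u = φ u * g := by
    intro g
    constructor
    · intro h u
      have h1 : ((θ g ⟨φ u, u, rfl⟩ : φ.range) : H) = φ u := by rw [h]; rfl
      rw [MulAut.conjNormal_apply] at h1
      exact mul_inv_eq_iff_eq_mul.1 h1
    · intro h
      ext ⟨x, u, rfl⟩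
      change ((θ g ⟨φ u, _⟩ : φ.range) : H) = φ u
      rw [MulAut.conjNormal_apply]
      exact mul_inv_eq_iff_eq_mul.2 (h u)
  have hθφ : ∀ u : SL2, θ (φ u) = 1 ↔ u = 1 ∨ u = -1 := by
    intro u
    constructor
    · intro h
      refine SL.eq_of_central hF fun u' => ?_
      have h1 := (hθ _).1 h u'
      rw [← map_mul, ← map_mul] at h1
      have h2 : φ (u * u' * (u' * u)⁻¹) = 1 := by rw [map_mul, h1, ← map_mul, mul_inv_cancel, map_one]
      rcases hker _ h2 with h3 | h3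
      · left; exact mul_inv_eq_one.1 h3
      · right
        rw [mul_inv_eq_iff_eq_mul] at h3
        rw [h3, neg_one_mul]
    · rintro (rfl | rfl)
      · rw [map_one, map_one]
      · exact (hθ _).2 hzcen
  have hθa : θ a ≠ 1 := by
    intro h
    obtain ⟨u, hu⟩ := hc
    exact hu ((hθ a).1 h u)
  -- conjugates of `a`
  have hcj : ∀ g : H, ∃ u, a * (g * a * g⁻¹) = φ u := by
    intro g
    have hg : g ∈ φ.range ⊔ zpowers a := by rw [hgen]; exact mem_top _
    obtain ⟨y, hy, b, hb, rfl⟩ := mem_sup_of_normal_left.1 hg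
    obtain ⟨n, rfl⟩ := mem_zpowers_iff.1 hb
    have e : a * (y * a ^ n * a * (y * a ^ n)⁻¹) = (a * y * a⁻¹) * y⁻¹ := by
      rw [hai]
      have h1 : a ^ n * a * (a ^ n)⁻¹ = a := by
        rw [← zpow_add_one, ← zpow_neg, ← zpow_add]; simp
      calc a * (y * a ^ n * a * (y * a ^ n)⁻¹) = a * (y * (a ^ n * a * (a ^ n)⁻¹) * y⁻¹) := by group
        _ = a * y * a * y⁻¹ := by rw [h1]; group
    rw [e]
    obtain ⟨u, hu⟩ := φ.range.mul_mem (hn.conj_mem y hy a) (inv_mem hy)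
    exact ⟨u, hu.symm⟩
  have : Fact (Nat.Prime 2) := ⟨Nat.prime_two⟩
  have hfin : Finite φ.range := inferInstance
  set a' : θ.range := ⟨θ a, a, rfl⟩ with ha'
  have ha'a : a' * a' = 1 := Subtype.ext (by
    change θ a * θ a = 1
    rw [← map_mul, haa, map_one])
  have ha'1 : a' ≠ 1 := fun h => hθa (congrArg Subtype.val h)
  have ha'o : orderOf a' = 2 := orderOf_eq_prime (by rw [pow_two, ha'a]) ha'1
  have hfR : Finite θ.range := inferInstance
  obtain ⟨P, hP⟩ := (isPGroup_zpowers (x := a') (k := 1) (by rw [pow_one, pow_two, ha'a])).exists_le_sylow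
  have haP : a' ∈ P := hP (mem_zpowers _)
  obtain ⟨N, hNn, hNodd, hN⟩ := S0215.result P a' ha'o haP (by
    rintro ⟨_, g, rfl⟩ hg
    obtain ⟨u, hu⟩ := hcj g
    have h1 : a' * (⟨θ g, g, rfl⟩ * a' * (⟨θ g, g, rfl⟩ : θ.range)⁻¹) ∈ P := mul_mem haP hg
    obtain ⟨k, hk⟩ := P.2 ⟨_, h1⟩
    have h2 : (θ (φ u)) ^ 2 ^ k = 1 := by
      have h3 := congrArg (fun x : P => ((x : θ.range) : MulAut φ.range)) hk
      change (θ a * (θ g * θ a * (θ g)⁻¹)) ^ 2 ^ k = 1 at h3
      rw [← map_inv, ← map_mul, ← map_mul, ← map_mul, hu] at h3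
      exact h3
    rw [← map_pow, ← map_pow, hθφ] at h2
    have h4 : u ^ 2 ^ (k + 1) = 1 := by
      rw [pow_succ, pow_mul]
      rcases h2 with h2 | h2
      · rw [h2, one_pow]
      · rw [h2]; simp
    have h5 := (hθφ u).2 (H' g u (k + 1) hu h4)
    rw [← hu, map_mul] at h5
    refine Subtype.ext ?_
    change θ g * θ a * (θ g)⁻¹ = θ a
    rw [← map_inv, ← map_mul, ← map_mul]
    have h6 := eq_inv_of_mul_eq_one_right h5
    rw [h6, ← map_inv, hai])
  set ψ : SL2 →* θ.range := θ.rangeRestrict.comp φ with hψ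
  have hN' : (N.comap ψ).Normal := hNn.comap ψ
  have hmod : ∀ u ∈ N.comap ψ, u = 1 ∨ u = -1 := by
    refine odd_mod hF hN' ?_ hNodd ?_
    · rw [mem_comap]
      have : ψ (-1) = 1 := Subtype.ext ((hθφ _).2 (Or.inr rfl))
      rw [this]; exact one_mem _
    · intro u hu
      rw [mem_comap] at hu
      have h1 : (⟨ψ u, hu⟩ : N) ^ Nat.card N = 1 := pow_card_eq_one'
      have h2 := congrArg (fun x : N => ((x : θ.range) : MulAut φ.range)) h1
      change (θ (φ u)) ^ Nat.card N = 1 at h2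
      rw [← map_pow, ← map_pow] at h2
      exact (hθφ _).1 h2
  -- `a` centralizes the image
  have hcomm : ∀ w : SL2, ∃ w' : SL2, (w' = 1 ∨ w' = -1) ∧ a * φ w * a⁻¹ = φ w' * φ w := by
    intro w
    obtain ⟨w', hw'⟩ : ∃ w', φ w' = a * φ w * a⁻¹ * (φ w)⁻¹ :=
      φ.range.mul_mem (hn.conj_mem _ ⟨w, rfl⟩ a) (inv_mem ⟨w, rfl⟩)
    refine ⟨w', hmod w' ?_, ?_⟩
    · rw [mem_comap]
      have h1 := hN (ψ w)
      have h2 : ψ w' = a' * ψ w * a'⁻¹ * (ψ w)⁻¹ := by
        refine Subtype.ext ?_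
        change θ (φ w') = θ a * θ (φ w) * (θ a)⁻¹ * (θ (φ w))⁻¹
        rw [hw']
        simp only [map_mul, map_inv]
      rw [h2]; exact h1
    · rw [hw', inv_mul_cancel_right]
  have hunip : ∀ w : SL2, ent w 0 0 + ent w 1 1 = 2 → a * φ w = φ w * a := by
    intro w hw
    obtain ⟨w', h1 | h1, h2⟩ := hcomm w
    · rw [h1, map_one, one_mul] at h2
      exact mul_inv_eq_iff_eq_mul.1 h2
    · have h3 := SL.pow_card_of_trace hF hw
      have h4 : (a * φ w * a⁻¹) ^ Fintype.card F = 1 := by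
        rw [conj_pow, ← map_pow, h3, map_one, mul_one, mul_inv_cancel]
      rw [h2, h1, ← map_mul, ← map_pow, neg_one_mul, hF.neg_pow, h3] at h4
      rw [h1, h4, one_mul] at h2
      exact mul_inv_eq_iff_eq_mul.1 h2
  obtain ⟨u, hu⟩ := hc
  apply hu
  obtain ⟨b1, b2, b3, b4, rfl⟩ := exists_up_lo u
  have hup : ∀ b : F, Commute a (φ (up b)) := fun b => hunip _ (by rw [up_00, up_11]; norm_num)
  have hlo : ∀ b : F, Commute a (φ (lo b)) := fun b => hunip _ (by rw [lo_00, lo_11]; norm_num)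
  have := (((hup b1).mul_right (hlo b2)).mul_right (hup b3)).mul_right (hlo b4)
  rw [← map_mul, ← map_mul, ← map_mul] at this
  exact this.eq

end twist

/-- **An involution `a` of `Cl A` normalizing but not centralizing the image of `φ`.** -/
theorem full_of_normalizes {φ : SL2 →* G} (hF : Odd (Fintype.card F)) (hA : IsStronglyClosed A (S : Subgroup G))
    (hker : ∀ u, φ u = 1 → u = 1 ∨ u = -1) {a : G} (haa : a * a = 1) (ha : Cl A a)
    (hn : ∀ u, ∃ v, a * φ u * a⁻¹ = φ v) (hc : ∃ u, a * φ u ≠ φ u * a) : Full A φ := by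
  have hai : a⁻¹ = a := inv_eq_of_mul_eq_one_right haa
  set H : Subgroup G := φ.range ⊔ zpowers a with hH
  have hφH : ∀ u, φ u ∈ H := fun u => (le_sup_left : φ.range ≤ H) ⟨u, rfl⟩
  have haH : a ∈ H := (le_sup_right : zpowers a ≤ H) (mem_zpowers a)
  set φ' : SL2 →* H := φ.codRestrict H hφH with hφ'
  set a' : H := ⟨a, haH⟩ with ha'
  have hmap : φ'.range.map H.subtype = φ.range := by
    ext x
    constructor
    · rintro ⟨_, ⟨u, rfl⟩, rfl⟩
      exact ⟨u, rfl⟩
    · rintro ⟨u, rfl⟩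
      exact ⟨φ' u, ⟨u, rfl⟩, rfl⟩
  have hHn : H ≤ normalizer (φ.range : Set G) := by
    refine sup_le le_normalizer ?_
    rw [zpowers_le, mem_normalizer_iff]
    have key : ∀ x, x ∈ φ.range → a * x * a⁻¹ ∈ φ.range := by
      rintro _ ⟨u, rfl⟩
      obtain ⟨v, hv⟩ := hn u
      exact ⟨v, hv.symm⟩
    intro x
    refine ⟨key x, fun hx => ?_⟩
    have h1 := key _ hx
    rw [hai] at h1
    rwa [show a * (a * x * a) * a = (a * a) * x * (a * a) by group, haa, one_mul, mul_one] at h1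
  have hnorm : φ'.range.Normal := by
    refine ⟨?_⟩
    rintro _ ⟨u, rfl⟩ ⟨g, hg⟩
    have h1 : g * φ u * g⁻¹ ∈ φ.range := (mem_normalizer_iff.1 (hHn hg) _).1 ⟨u, rfl⟩
    obtain ⟨v, hv⟩ := h1
    exact ⟨v, Subtype.ext hv⟩
  have hgen : φ'.range ⊔ zpowers a' = ⊤ := by
    apply map_injective H.subtype_injective
    rw [Subgroup.map_sup, hmap, MonoidHom.map_zpowers, ← MonoidHom.range_eq_map, range_subtype]
    rfl
  obtain ⟨g, u, k, h1, h2, h3, h4⟩ := exists_twist hF (φ := φ') (a := a')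
    (fun u hu => hker u (congrArg Subtype.val hu)) (Subtype.ext haa) hnorm hgen (by
      obtain ⟨u, hu⟩ := hc
      exact ⟨u, fun h => hu (congrArg Subtype.val h)⟩)
  have h5 : a * (g.1 * a * g.1⁻¹) = φ u := congrArg Subtype.val h1
  refine full_of_mem hF hA h2 h3 h4 ?_
  rw [← h5]
  refine Cl.mul_invol hA haa ?_ (k := k) ?_ ha (ha.conj _)
  · rw [show g.1 * a * g.1⁻¹ * (g.1 * a * g.1⁻¹) = g.1 * (a * a) * g.1⁻¹ by group, haa, mul_one, mul_inv_cancel]
  · rw [h5, ← map_pow, h2, map_one]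

end Cfsg.Agent.ClosedExc
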