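import Mathlib
import Cfsg.Agent.ClosedTwo.Torus
import Cfsg.Agent.Nodes.Reps
import Cfsg.Agent.ClosedExc.RankOne
import Cfsg.Agent.Nodes.RGDChev
import Cfsg.Agent.ClosedTwo.Row

-- merged: Cfsg.Agent.ClosedExc.RankCount
section

/-!
# Conjugates of a root group in the rank one group (helper50, S1252)

* `mem_T_of_norm` : an element of `⟨X x, X (-x)⟩` normalizing `X x` and `X (-x)` lies in `T`;
* `card_conj` : `X x` has `|X x| + 1` conjugates under `⟨X x, X (-x)⟩`;
* `exists_m'` : a representative of the reflection in the root `x` in `⟨X x, X (-x)⟩`.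
-/

set_option autoImplicit false
set_option linter.unusedSectionVars false

namespace Cfsg.Agent.ClosedExc.Rk

open CoxeterSystem Cfsg.Agent.ChevalleyStructure.CoxeterGeom Cfsg.Agent.Tits.Roots Cfsg.Agent.Tits.Core
  Cfsg.Agent.Tits.RootComb
  Cfsg.Agent.Nodes.Reps Cfsg.Agent.Nodes.BNOf Cfsg.Agent.Nodes.StabComb
  Cfsg.Agent.Nodes.Bruhat Cfsg.Agent.Nodes.OppDec Cfsg.Agent.Nodes.FreeTorus Cfsg.Agent.ClosedTwo.Torus

variable {I W Y : Type*} [Fintype I] [DecidableEq I] [Group W] [Group Y] {M : CoxeterMatrix I}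
  {cs : CoxeterSystem M W} {C : I → I → ℤ} {h : IsCartan M C} {p : ℕ} {T : Subgroup Y} {n : I → Y}
  {X : (I → ℤ) → Subgroup Y}

theorem X_le_LL (x : I → ℤ) : X x ≤ LL X x := le_sup_left

theorem X_neg_le_LL (x : I → ℤ) : X (-x) ≤ LL X x := le_sup_right

/-- the negative roots other than `-α_i` -/
def NegNe (cs : CoxeterSystem M W) (h : IsCartan M C) (i : I) : Set (I → ℤ) :=
  {x | IsRoot cs h x ∧ x ≤ 0 ∧ x ≠ -sr i}

variable (R : RGD cs h p T n X)

include R

theorem T_norm_LL {x : I → ℤ} (hx : IsRoot cs h x) {t : Y} (ht : t ∈ T) : cj t (LL X x) = LL X x := by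
  unfold LL
  rw [cj_sup, R.tor x hx t ht, R.tor (-x) hx.neg t ht]

theorem rp_cj_LL {w : W} {g : Y} (hg : Rp cs R.nsys w g) {x : I → ℤ} (hx : IsRoot cs h x) :
    cj g (LL X x) = LL X (rep cs h w x) := by
  unfold LL
  rw [cj_sup, R.conj_rp hg hx, R.conj_rp hg hx.neg, map_neg]

/-- `X (±α_i)` normalizes the join over `NegNe i`. -/
theorem X_norm_NegNe (i : I) {x : I → ℤ} (hx : x = sr i ∨ x = -sr i) :
    X x ≤ Subgroup.normalizer (RGD.Sup X (NegNe cs h i) : Set Y) := by
  have hr : IsRoot cs h x := by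
    rcases hx with rfl | rfl
    · exact isRoot_sr cs h i
    · exact (isRoot_sr cs h i).neg
  have hk0 : ∀ k, k ≠ i → x k = 0 := by
    intro k hk
    rcases hx with rfl | rfl
    · exact sr_ne hk
    · rw [Pi.neg_apply, sr_ne hk, neg_zero]
  refine R.le_normalizer hr ?_
  rintro y ⟨hy, hy0, hyi⟩
  have hny : -y ≠ sr i := fun e => hyi (by rw [← e, neg_neg])
  obtain ⟨k, hk, hk1⟩ := RGD.exists_coeff hy.neg (neg_nonneg.2 hy0) hny
  rw [Pi.neg_apply, neg_pos] at hk1
  refine ⟨hy, Or.inr ⟨?_, ?_⟩⟩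
  · intro e
    have h1 := congrFun e k
    rw [hk0 k hk, Pi.neg_apply] at h1
    omega
  · intro z hz
    have hz2 := hz
    obtain ⟨hzr, m, a, b, hm, ha, hb, he⟩ := hz
    have h1 := congrFun he k
    rw [Pi.smul_apply, Pi.add_apply, Pi.smul_apply, Pi.smul_apply, smul_eq_mul, smul_eq_mul, smul_eq_mul,
      hk0 k hk, mul_zero, zero_add] at h1
    have h2 : z k < 0 := by
      have h3 : b * y k < 0 := mul_neg_of_pos_of_neg hb hk1
      rw [← h1] at h3
      exact neg_of_mul_neg_right h3 hm.le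
    refine ⟨hzr, ?_, ?_⟩
    · rcases hzr.pos_or_neg with h3 | h3
      · exact absurd (h3 k) (not_le.2 h2)
      · exact h3
    · intro e
      rw [e, Pi.neg_apply, sr_ne hk, neg_zero] at h2
      exact lt_irrefl _ h2

theorem LL_norm_NegNe (i : I) : LL X (sr i) ≤ Subgroup.normalizer (RGD.Sup X (NegNe cs h i) : Set Y) :=
  sup_le (X_norm_NegNe R i (Or.inl rfl)) (X_norm_NegNe R i (Or.inr rfl))

theorem LL_norm_PosNe (i : I) : LL X (sr i) ≤ Subgroup.normalizer (RGD.Sup X (RGD.PosNe cs h i) : Set Y) := by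
  refine sup_le (R.X_le_normalizer_V i) ?_
  have hnN : n i ∈ Subgroup.normalizer (RGD.Sup X (RGD.PosNe cs h i) : Set Y) := by
    rw [mem_normalizer_iff_cj]
    exact R.cj_n_V i
  have h2 : cj (n i) (X (sr i)) = X (-sr i) := by rw [R.conj i _ (isRoot_sr cs h i), rep_simple_sr]
  rw [← h2]
  rintro _ ⟨u, hu, rfl⟩
  exact mul_mem (mul_mem hnN (R.X_le_normalizer_V i hu)) (inv_mem hnN)

theorem UN_eq (i : I) : UN cs h X = X (-sr i) ⊔ RGD.Sup X (NegNe cs h i) := by
  apply le_antisymm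
  · refine RGD.Sup_le fun z hz => ?_
    by_cases hz0 : z = -sr i
    · subst hz0; exact le_sup_left
    · exact le_trans (RGD.le_Sup (S := NegNe cs h i) ⟨hz.1, hz.2, hz0⟩) le_sup_right
  · exact sup_le (X_le_UN (isRoot_sr cs h i).neg (neg_nonpos.2 (sr_nonneg i))) (RGD.Sup_mono fun z hz => ⟨hz.1, hz.2.1⟩)

variable [Finite W]

/-- the normalizer of the negative unipotent group -/
theorem mem_BN_of_norm (hG : GG cs h T X = ⊤) {g : Y} (hg : cj g (UN cs h X) = UN cs h X) : g ∈ BN cs h T X := by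
  obtain ⟨k, hk⟩ := exists_rp cs R.nsys (w0 cs)
  rw [← cj_B R hk]
  rw [mem_cj, ← Cfsg.Agent.Nodes.NormalForm.normalizer_U R, hG, inf_top_eq, mem_normalizer_iff_cj]
  have h1 : cj k (RGD.Sup X (RGD.Pos cs h)) = UN cs h X := cj_U R hk
  rw [mul_assoc, cj_mul, cj_mul, h1, hg, ← h1, cj_inv_cj]

theorem cj_UN_of_norm (i : I) {g : Y} (hg : g ∈ LL X (sr i)) (h1 : cj g (X (-sr i)) = X (-sr i)) :
    cj g (UN cs h X) = UN cs h X := by
  rw [UN_eq R i, cj_sup, h1, mem_normalizer_iff_cj.1 (LL_norm_NegNe R i hg)]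

theorem mem_T_of_norm_simple (hG : GG cs h T X = ⊤) (i : I) {g : Y} (hg : g ∈ LL X (sr i))
    (h1 : cj g (X (sr i)) = X (sr i)) (h2 : cj g (X (-sr i)) = X (-sr i)) : g ∈ T := by
  have hB : g ∈ RGD.B cs h T X := by
    rw [← Cfsg.Agent.Nodes.NormalForm.normalizer_U R, hG, inf_top_eq, mem_normalizer_iff_cj, R.Upos_eq i,
      cj_sup, h1, mem_normalizer_iff_cj.1 (LL_norm_PosNe R i hg)]
  have hBN : g ∈ BN cs h T X := mem_BN_of_norm R hG (cj_UN_of_norm R i hg h2)
  rw [← B_inf_BN R]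
  exact ⟨hB, hBN⟩

omit [Finite W] in
theorem rp_conj_mem_T {w : W} {g : Y} (hg : Rp cs R.nsys w g) {t : Y} : g * t * g⁻¹ ∈ T ↔ t ∈ T :=
  (Subgroup.mem_normalizer_iff.1 hg.mem_normalizer t).symm

/-- **An element of the rank one group normalizing both root groups is in the torus.** -/
theorem mem_T_of_norm (hG : GG cs h T X = ⊤) {x : I → ℤ} (hx : IsRoot cs h x) {g : Y} (hg : g ∈ LL X x)
    (h1 : cj g (X x) = X x) (h2 : cj g (X (-x)) = X (-x)) : g ∈ T := by
  obtain ⟨w, i, rfl⟩ := hx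
  obtain ⟨k, hk⟩ := exists_rp cs R.nsys w
  have hr := isRoot_sr cs h i
  have e1 := rp_cj_LL R hk hr
  have e2 := R.conj_rp hk hr
  have e3 := R.conj_rp hk hr.neg
  rw [map_neg] at e3
  have h3 : k⁻¹ * g * k ∈ LL X (sr i) := by rw [← mem_cj, e1]; exact hg
  have h4 : k⁻¹ * g * k ∈ T := by
    refine mem_T_of_norm_simple R hG i h3 ?_ ?_
    · rw [mul_assoc, cj_mul, cj_mul, e2, h1, ← e2, cj_inv_cj]
    · rw [mul_assoc, cj_mul, cj_mul, e3, h2, ← e3, cj_inv_cj]
  rw [← rp_conj_mem_T R hk] at h4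
  rwa [show k * (k⁻¹ * g * k) * k⁻¹ = g by group] at h4

/-- `X α_i` acts regularly on the conjugates of `X (-α_i)` -/
theorem eq_one_of_norm (hG : GG cs h T X = ⊤) (i : I) {u : Y} (hu : u ∈ X (sr i))
    (h1 : cj u (X (-sr i)) = X (-sr i)) : u = 1 := by
  have hUN := mem_BN_of_norm R hG (cj_UN_of_norm R i (X_le_LL _ hu) h1)
  have h2 : u ∈ RGD.Sup X (RGD.Pos cs h) ⊓ BN cs h T X :=
    ⟨RGD.le_Sup (S := RGD.Pos cs h) ⟨isRoot_sr cs h i, sr_nonneg i⟩ hu, hUN⟩
  rwa [U_inf_BN R, Subgroup.mem_bot] at h2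

/-- The conjugates of `X α_i` under the rank one group. -/
theorem exists_form (i : I) {g : Y} (hg : g ∈ LL X (sr i)) :
    cj g (X (sr i)) = X (sr i) ∨ ∃ u ∈ X (sr i), cj g (X (sr i)) = cj u (X (-sr i)) := by
  have hr := isRoot_sr cs h i
  have hmem : sr i ∈ RootsJ cs h ({i} : Set I) := ⟨hr, fun k hk => sr_ne hk⟩
  have hLJ : g ∈ LJ cs h T X ({i} : Set I) := by
    refine (sup_le (X_le_LJ hmem) (X_le_LJ (RootsJ.neg hmem)) : LL X (sr i) ≤ _) hg
  obtain ⟨w, hw, b₁, hb₁, k, hk, b₂, hb₂, rfl⟩ := exists_cellJ R hLJ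
  have hBJ : ∀ b ∈ BJ cs h T X ({i} : Set I), ∃ u ∈ X (sr i), ∃ t ∈ T, b = u * t := by
    intro b hb
    obtain ⟨v, hv, u, hu, t, ht, rfl⟩ := mem_BJ' R (Set.mem_singleton i) hb
    have hv1 : v = 1 := by
      have : RGD.Sup X (PosJ cs h {i} \ {sr i}) ≤ ⊥ := by
        refine RGD.Sup_le ?_
        rintro z ⟨⟨hz, hz0, hzk⟩, hzi⟩
        exact absurd (hz.eq_sr hz0 i hzk) hzi
      exact Subgroup.mem_bot.1 (this hv)
    exact ⟨u, hu, t, ht, by rw [hv1, one_mul]⟩
  have hfix : ∀ b ∈ BJ cs h T X ({i} : Set I), cj b (X (sr i)) = X (sr i) := by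
    intro b hb
    obtain ⟨u, hu, t, ht, rfl⟩ := hBJ b hb
    rw [cj_mul, R.tor _ hr t ht, cj_eq_of_mem hu]
  have hw' : w = 1 ∨ w = cs.simple i := by
    unfold WJ at hw
    rw [Set.image_singleton] at hw
    have hsq : cs.simple i ^ 2 = 1 := by rw [pow_two, cs.simple_mul_simple_self]
    rw [← Subgroup.zpowers_eq_closure] at hw
    obtain ⟨m, rfl⟩ := Subgroup.mem_zpowers_iff.1 hw
    rcases Int.even_or_odd' m with ⟨c, hc | hc⟩
    · left; rw [hc, zpow_mul, zpow_ofNat, hsq, one_zpow]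
    · right; rw [hc, zpow_add, zpow_mul, zpow_ofNat, hsq, one_zpow, one_mul, zpow_one]
  rcases hw' with rfl | rfl
  · left
    rw [mul_assoc, cj_mul, cj_mul, hfix _ hb₂, R.tor _ hr k hk.mem_of_one, hfix _ hb₁]
  · right
    obtain ⟨u, hu, t, ht, rfl⟩ := hBJ b₁ hb₁
    refine ⟨u, hu, ?_⟩
    rw [mul_assoc, cj_mul, cj_mul k, hfix _ hb₂, R.conj_rp hk hr, rep_simple_sr, cj_mul, R.tor _ hr.neg t ht]

omit [Finite W] in
/-- the conjugates of `X x` -/
theorem exists_m' {x : I → ℤ} {w : W} {i : I} (hx : x = rep cs h w (sr i)) :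
    ∃ m ∈ LL X x, Rp cs R.nsys (w * cs.simple i * w⁻¹) m := by
  obtain ⟨m, hm, hr⟩ := exists_m R i
  obtain ⟨k, hk⟩ := exists_rp cs R.nsys w
  refine ⟨k * m * k⁻¹, ?_, (hk.mul hr).mul hk.inv⟩
  rw [hx, ← rp_cj_LL R hk (isRoot_sr cs h i)]
  exact conj_mem_cj.2 hm

variable [Finite Y]

/-- **The number of conjugates of a root group in the rank one group.** -/
theorem card_conj (hG : GG cs h T X = ⊤) {x : I → ℤ} (hx : IsRoot cs h x) :
    Nat.card (Set.range fun g : LL X x => cj (g : Y) (X x)) = Nat.card (X x) + 1 := by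
  -- the case of a simple root
  have simple : ∀ i, Nat.card (Set.range fun g : LL X (sr i) => cj (g : Y) (X (sr i))) = Nat.card (X (sr i)) + 1 := by
    intro i
    have hr := isRoot_sr cs h i
    obtain ⟨m, hm, hmr⟩ := exists_m R i
    have hm1 : cj m (X (sr i)) = X (-sr i) := by rw [R.conj_rp hmr hr, rep_simple_sr]
    let f : Option (X (sr i)) → Subgroup Y := fun o => o.elim (X (sr i)) fun u => cj (u : Y) (X (-sr i))
    have hf : Function.Injective f := by
      have hne : ∀ u : X (sr i), X (sr i) ≠ cj (u : Y) (X (-sr i)) := by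
        intro u e
        have h1 : cj (u : Y)⁻¹ (X (sr i)) = X (-sr i) := by
          have := congrArg (cj (u : Y)⁻¹) e
          rwa [cj_inv_cj] at this
        rw [cj_eq_of_mem (inv_mem u.2)] at h1
        have h2 := X_inf_X R hr hr.neg (by
          intro e2
          have := congrFun e2 i
          rw [Pi.neg_apply, sr_self] at this
          omega)
        rw [← h1, inf_idem] at h2
        exact X_ne_bot R hr h2
      rintro (_ | u) (_ | v) e
      · rfl
      · exact absurd e (hne v)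
      · exact absurd e.symm (hne u)
      · have e' : cj (u : Y) (X (-sr i)) = cj (v : Y) (X (-sr i)) := e
        have h1 : cj ((v : Y)⁻¹ * u) (X (-sr i)) = X (-sr i) := by
          rw [cj_mul, e', cj_inv_cj]
        have h2 := eq_one_of_norm R hG i (mul_mem (inv_mem v.2) u.2) h1
        have h3 : (u : Y) = v := (inv_mul_eq_one.1 h2).symm
        rw [Subtype.ext h3]
    have hrange : Set.range (fun g : LL X (sr i) => cj (g : Y) (X (sr i))) = Set.range f := by
      ext K
      constructor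
      · rintro ⟨g, rfl⟩
        rcases exists_form R i g.2 with h1 | ⟨u, hu, h1⟩
        · exact ⟨none, h1.symm⟩
        · exact ⟨some ⟨u, hu⟩, h1.symm⟩
      · rintro ⟨o, rfl⟩
        rcases o with _ | u
        · exact ⟨1, by simp [f]⟩
        · refine ⟨⟨(u : Y) * m, mul_mem (X_le_LL _ u.2) hm⟩, ?_⟩
          change cj ((u : Y) * m) (X (sr i)) = cj (u : Y) (X (-sr i))
          rw [cj_mul, hm1]
    rw [hrange, Nat.card_range_of_injective hf, Finite.card_option]
  obtain ⟨w, i, rfl⟩ := hx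
  obtain ⟨k, hk⟩ := exists_rp cs R.nsys w
  have hr := isRoot_sr cs h i
  have e1 := rp_cj_LL R hk hr
  have e2 := R.conj_rp hk hr
  have e3 : Nat.card (X (rep cs h w (sr i))) = Nat.card (X (sr i)) := by rw [← e2, card_cj]
  rw [e3, ← simple i]
  have hrange : Set.range (fun g : LL X (rep cs h w (sr i)) => cj (g : Y) (X (rep cs h w (sr i)))) =
      cj k '' Set.range (fun g : LL X (sr i) => cj (g : Y) (X (sr i))) := by
    ext K
    constructor
    · rintro ⟨⟨g, hg⟩, rfl⟩
      have hg' := hg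
      rw [← e1, mem_cj] at hg'
      refine ⟨_, ⟨⟨k⁻¹ * g * k, hg'⟩, rfl⟩, ?_⟩
      change cj k (cj (k⁻¹ * g * k) (X (sr i))) = cj g (X (rep cs h w (sr i)))
      rw [← e2, ← cj_mul, ← cj_mul]
      congr 1
      group
    · rintro ⟨_, ⟨⟨g, hg⟩, rfl⟩, rfl⟩
      refine ⟨⟨k * g * k⁻¹, by rw [← e1]; exact conj_mem_cj.2 hg⟩, ?_⟩
      change cj (k * g * k⁻¹) (X (rep cs h w (sr i))) = cj k (cj g (X (sr i)))
      rw [← e2, ← cj_mul, ← cj_mul]
      congr 1
      group
  rw [hrange]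
  refine Nat.card_image_of_injective ?_ _
  intro K K' e
  have := congrArg (cj k⁻¹) e
  rwa [cj_inv_cj, cj_inv_cj] at this

end Cfsg.Agent.ClosedExc.Rk

end

-- merged: Cfsg.Agent.ClosedExc.Prod
section

/-!
# Pairwise commuting subgroups (helper50, S1252)

* `card_sup_mul'` : `|K H| |K ∩ H| = |K| |H|`;
* `card_dvd` : the order of the join of pairwise commuting subgroups `L a` with subgroups `K a ≤ L a`;
* `mem_of_prod` : membership by components.
-/

set_option autoImplicit false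
set_option linter.unusedSectionVars false

namespace Cfsg.Agent.ClosedExc.Prod

open Subgroup Cfsg.Agent.Nodes.Reps

variable {G : Type*} [Group G]

theorem card_mul_relIndex' {H K : Subgroup G} (h : H ≤ K) : Nat.card H * H.relIndex K = Nat.card K := by
  rw [Subgroup.relIndex, ← Nat.card_congr (Subgroup.subgroupOfEquivOfLe h).toEquiv]
  exact Subgroup.card_mul_index _

/-- `|K H| |K ∩ H| = |K| |H|` -/
theorem card_sup_mul' {K H : Subgroup G} (h : H ≤ normalizer (K : Set G)) :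
    Nat.card (K ⊔ H : Subgroup G) * Nat.card (K ⊓ H : Subgroup G) = Nat.card K * Nat.card H := by
  have hKn : (K.subgroupOf (K ⊔ H)).Normal :=
    normal_subgroupOf_of_le_normalizer (sup_le le_normalizer h)
  have h1 := relIndex_sup_left (H.subgroupOf (K ⊔ H)) (K.subgroupOf (K ⊔ H))
  rw [← Subgroup.subgroupOf_sup le_sup_left le_sup_right, Subgroup.subgroupOf_self,
    Subgroup.relIndex_subgroupOf le_sup_right, relIndex_top_right] at h1
  have h2 : Nat.card K * K.relIndex H = Nat.card (K ⊔ H : Subgroup G) := by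
    rw [← h1]
    exact card_mul_relIndex' le_sup_left
  have h3 : Nat.card (K ⊓ H : Subgroup G) * K.relIndex H = Nat.card H := by
    rw [← Subgroup.inf_relIndex_right K H]
    exact card_mul_relIndex' inf_le_right
  calc _ = Nat.card (K ⊔ H : Subgroup G) * Nat.card (K ⊓ H : Subgroup G) := rfl
    _ = Nat.card K * (Nat.card (K ⊓ H : Subgroup G) * K.relIndex H) := by rw [← h2]; ring
    _ = _ := by rw [h3]

/-- conjugation by a commuting element -/
theorem cj_eq_of_commute {L : Subgroup G} {x : G} (hc : ∀ y ∈ L, Commute x y) {K : Subgroup G} (hK : K ≤ L) :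
    cj x K = K := by
  ext y
  rw [mem_cj]
  constructor
  · intro hy
    have h1 : x * (x⁻¹ * y * x) = (x⁻¹ * y * x) * x := hc _ (hK hy)
    have h2 : x⁻¹ * y * x = y := by
      have h3 : x * (x⁻¹ * y * x) = y * x := by group
      rw [h3] at h1
      exact (mul_right_cancel h1).symm
    rwa [h2] at hy
  · intro hy
    have h1 : x * y = y * x := hc _ (hK hy)
    rwa [mul_assoc, ← h1, inv_mul_cancel_left]

variable {ι : Type*} {L K : ι → Subgroup G}

section

variable (hc : ∀ a b, a ≠ b → ∀ x ∈ L a, ∀ y ∈ L b, Commute x y)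

include hc

/-- every element of the join acts on each factor as an element of the factor -/
theorem exists_local {x : G} (hx : x ∈ ⨆ a, L a) (a : ι) : ∃ l ∈ L a, ∀ y ∈ L a, x * y * x⁻¹ = l * y * l⁻¹ := by
  induction hx using Subgroup.iSup_induction' with
  | hp b x hx =>
    by_cases hab : b = a
    · subst hab
      exact ⟨x, hx, fun y _ => rfl⟩
    · refine ⟨1, one_mem _, fun y hy => ?_⟩
      rw [(hc b a hab x hx y hy).eq, mul_inv_cancel_right, one_mul, inv_one, mul_one]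
  | h1 => exact ⟨1, one_mem _, fun y _ => rfl⟩
  | hmul x y _ _ h1 h2 =>
    obtain ⟨l1, hl1, e1⟩ := h1
    obtain ⟨l2, hl2, e2⟩ := h2
    refine ⟨l1 * l2, mul_mem hl1 hl2, fun z hz => ?_⟩
    have h3 : l2 * z * l2⁻¹ ∈ L a := mul_mem (mul_mem hl2 hz) (inv_mem hl2)
    have h4 := e1 _ h3
    rw [← e2 z hz] at h4
    rw [show x * y * z * (x * y)⁻¹ = x * (y * z * y⁻¹) * x⁻¹ by group, h4, e2 z hz]
    group

theorem exists_local_cj (hKL : ∀ a, K a ≤ L a) {x : G} (hx : x ∈ ⨆ a, L a) (a : ι) :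
    ∃ l ∈ L a, cj x (K a) = cj l (K a) := by
  obtain ⟨l, hl, e⟩ := exists_local hc hx a
  refine ⟨l, hl, ?_⟩
  ext y
  constructor
  · rintro ⟨z, hz, rfl⟩
    exact ⟨z, hz, (e z (hKL a hz)).symm⟩
  · rintro ⟨z, hz, rfl⟩
    exact ⟨z, hz, e z (hKL a hz)⟩

variable [Finite ι]

theorem exists_prod (hKL : ∀ a, K a ≤ L a) (g : ∀ a, L a) :
    ∃ x ∈ ⨆ a, L a, ∀ a, cj x (K a) = cj (g a : G) (K a) := by
  classical
  have : Fintype ι := Fintype.ofFinite ι
  have key : ∀ s : Finset ι, ∃ x ∈ ⨆ a, L a, (∀ a ∈ s, cj x (K a) = cj (g a : G) (K a)) ∧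
      ∀ a, a ∉ s → ∀ y ∈ L a, Commute x y := by
    intro s
    induction s using Finset.induction_on with
    | empty => exact ⟨1, one_mem _, fun a ha => absurd ha (Finset.notMem_empty a), fun a _ y _ => Commute.one_left y⟩
    | insert b s hb ih =>
      obtain ⟨x, hx, h1, h2⟩ := ih
      refine ⟨(g b : G) * x, mul_mem (le_iSup L b (g b).2) hx, ?_, ?_⟩
      · intro a ha
        rw [cj_mul]
        by_cases hab : a = b
        · subst hab
          rw [cj_eq_of_commute (h2 a hb) (hKL a)]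
        · have ha' : a ∈ s := (Finset.mem_insert.1 ha).resolve_left hab
          rw [h1 a ha']
          have h3 : cj (g b : G) (cj (g a : G) (K a)) = cj (g a : G) (K a) := by
            refine cj_eq_of_commute (L := L a) (fun y hy => hc b a (Ne.symm hab) _ (g b).2 y hy) ?_
            rintro _ ⟨z, hz, rfl⟩
            exact mul_mem (mul_mem (g a).2 (hKL a hz)) (inv_mem (g a).2)
          exact h3
      · intro a ha y hy
        rw [Finset.mem_insert, not_or] at ha
        exact (hc b a (Ne.symm ha.1) _ (g b).2 y hy).mul_left (h2 a ha.2 y hy)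
  obtain ⟨x, hx, h1, -⟩ := key Finset.univ
  exact ⟨x, hx, fun a => h1 a (Finset.mem_univ a)⟩

/-- **The order of the join.** -/
theorem card_dvd [Finite G] (hKL : ∀ a, K a ≤ L a) [Fintype ι] {St : Subgroup G}
    (hSt : ∀ s ∈ St, ∀ a, cj s (K a) = K a) :
    Nat.card ↥((⨆ a, L a) ⊓ St) * ∏ a, Nat.card (Set.range fun g : L a => cj (g : G) (K a)) ∣
      Nat.card ↥(⨆ a, L a) := by
  classical
  set E := ⨆ a, L a with hE
  let F : E → (∀ a, Set.range fun g : L a => cj (g : G) (K a)) := fun x a =>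
    ⟨cj (x : G) (K a), by
      obtain ⟨l, hl, e⟩ := exists_local_cj hc hKL (hE ▸ x.2 : (x : G) ∈ ⨆ a, L a) a
      exact ⟨⟨l, hl⟩, e.symm⟩⟩
  have hF : Function.Surjective F := by
    intro k
    choose g hg using fun a => (k a).2
    obtain ⟨x, hx, e⟩ := exists_prod hc hKL g
    refine ⟨⟨x, hx⟩, ?_⟩
    funext a
    exact Subtype.ext ((e a).trans (hg a))
  let St' : Subgroup E :=
    { carrier := {x | ∀ a, cj (x : G) (K a) = K a}
      one_mem' := fun a => cj_one _
      mul_mem' := fun {x y} hx hy a => by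
        change cj ((x : G) * y) (K a) = K a
        rw [cj_mul, hy a, hx a]
      inv_mem' := fun {x} hx a => by
        change cj (x : G)⁻¹ (K a) = K a
        conv_lhs => rw [← hx a]
        exact cj_inv_cj _ _ }
  have hlift : ∀ x y : E, x⁻¹ * y ∈ St' ↔ F x = F y := by
    intro x y
    constructor
    · intro h
      funext a
      refine Subtype.ext ?_
      change cj (x : G) (K a) = cj (y : G) (K a)
      have h1 : cj ((x : G)⁻¹ * y) (K a) = K a := h a
      rw [cj_mul] at h1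
      conv_lhs => rw [← h1]
      exact cj_cj_inv _ _
    · intro h a
      have h1 : cj (x : G) (K a) = cj (y : G) (K a) := congrArg Subtype.val (congrFun h a)
      change cj ((x : G)⁻¹ * y) (K a) = K a
      rw [cj_mul, ← h1, cj_inv_cj]
  let F' : E ⧸ St' → (∀ a, Set.range fun g : L a => cj (g : G) (K a)) :=
    Quotient.lift F fun x y hxy => (hlift x y).1 (QuotientGroup.leftRel_apply.1 hxy)
  have hF' : Function.Bijective F' := by
    constructor
    · intro x y
      induction x using QuotientGroup.induction_on with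
      | H x =>
        induction y using QuotientGroup.induction_on with
        | H y => exact fun e => QuotientGroup.eq.2 ((hlift x y).2 e)
    · intro k
      obtain ⟨x, hx⟩ := hF k
      exact ⟨(x : E ⧸ St'), hx⟩
  have h1 : Nat.card (E ⧸ St') = ∏ a, Nat.card (Set.range fun g : L a => cj (g : G) (K a)) := by
    rw [Nat.card_congr (Equiv.ofBijective F' hF'), Nat.card_pi]
  have h2 := Subgroup.card_eq_card_quotient_mul_card_subgroup St'
  rw [h1, mul_comm] at h2
  rw [h2]
  refine mul_dvd_mul ?_ dvd_rfl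
  have h3 : St.subgroupOf E ≤ St' := fun x hx a => hSt _ (mem_subgroupOf.1 hx) a
  have h4 : Nat.card ↥(St.subgroupOf E) = Nat.card ↥(E ⊓ St) := by
    rw [← inf_subgroupOf_right, inf_comm St E]
    exact Nat.card_congr (subgroupOfEquivOfLe inf_le_left).toEquiv
  rw [← h4]
  exact card_dvd_of_le h3

/-- **Membership by components.** -/
theorem mem_of_prod {K' : ι → Subgroup G} {T : Subgroup G}
    (hT : ∀ a, ∀ y ∈ L a, cj y (K a) = K a → cj y (K' a) = K' a → y ∈ T)
    (hKL : ∀ a, K a ≤ L a) (hKL' : ∀ a, K' a ≤ L a) {x : G} (hx : x ∈ ⨆ a, L a)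
    (h1 : ∀ a, cj x (K a) = K a) (h2 : ∀ a, cj x (K' a) = K' a) : x ∈ T := by
  classical
  have : Fintype ι := Fintype.ofFinite ι
  have key : ∀ s : Finset ι, ∀ x ∈ ⨆ a ∈ s, L a, (∀ a ∈ s, cj x (K a) = K a ∧ cj x (K' a) = K' a) → x ∈ T := by
    intro s
    induction s using Finset.induction_on with
    | empty =>
      intro x hx _
      have : x = 1 := by simpa using hx
      rw [this]; exact one_mem _
    | insert b s hb ih =>
      intro x hx hK
      rw [Finset.iSup_insert] at hx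
      have hcs : ∀ y ∈ L b, ∀ z ∈ ⨆ a ∈ s, L a, Commute y z := by
        intro y hy z hz
        have hle : (⨆ a ∈ s, L a) ≤ centralizer ({y} : Set G) := by
          refine iSup₂_le fun a ha u hu => ?_
          rw [mem_centralizer_singleton_iff]
          exact (hc b a (fun e => hb (e ▸ ha)) y hy u hu).symm
        exact (mem_centralizer_singleton_iff.1 (hle hz)).symm
      have hn : (⨆ a ∈ s, L a) ≤ normalizer (L b : Set G) := by
        refine le_trans ?_ (centralizer_le_normalizer (s := (L b : Set G)))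
        intro z hz
        rw [mem_centralizer_iff]
        exact fun y hy => (hcs y hy z hz).eq
      have hx' : x ∈ ((L b ⊔ ⨆ a ∈ s, L a : Subgroup G) : Set G) := hx
      rw [coe_mul_of_right_le_normalizer_left _ _ hn, Set.mem_mul] at hx'
      obtain ⟨y, hy, z, hz, rfl⟩ := hx'
      have hz' : z ∈ T := by
        refine ih z hz fun a ha => ?_
        have hab : b ≠ a := fun e => hb (e ▸ ha)
        obtain ⟨e1, e2⟩ := hK a (Finset.mem_insert_of_mem ha)
        have hyz : (y : G) * z = z * y := hcs y hy z hz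
        rw [hyz, cj_mul, cj_eq_of_commute (fun u hu => hc b a hab y hy u hu) (hKL a)] at e1
        rw [hyz, cj_mul, cj_eq_of_commute (fun u hu => hc b a hab y hy u hu) (hKL' a)] at e2
        exact ⟨e1, e2⟩
      obtain ⟨e1, e2⟩ := hK b (Finset.mem_insert_self b s)
      have hzb : ∀ u ∈ L b, Commute z u := fun u hu => (hcs u hu z hz).symm
      rw [cj_mul, cj_eq_of_commute hzb (hKL b)] at e1
      rw [cj_mul, cj_eq_of_commute hzb (hKL' b)] at e2
      exact mul_mem (hT b y hy e1 e2) hz'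
  refine key Finset.univ x (by simpa using hx) fun a _ => ⟨h1 a, h2 a⟩

end

end Cfsg.Agent.ClosedExc.Prod

end

-- merged: Cfsg.Agent.ClosedExc.FullOn
section

/-!
# Subgroups all of whose 2-elements are conjugate into a strongly closed subgroup (helper50, S1252)

* `FullOn A L` : all 2-elements of `L` are conjugate into `A`;
* `FullOn.sup` : `FullOn A L`, `FullOn A H`, `H` normalizes `L` imply `FullOn A (L ⊔ H)`;
* `eq_of_fullOn` : `A = S` if `FullOn A R` for a subgroup `R` of odd index; `exists_invol_mem` : otherwise an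
  involution of `R` is conjugate into `A`, if `A ≠ 1`;
* `IsSL L` : `L` is a quotient of `SL(2,q)` by a subgroup of `{1, -1}`, `q` odd; `IsSL.of_normalizes`, `IsSL.of_swap`.
-/

set_option autoImplicit false
set_option linter.unusedSectionVars false

namespace Cfsg.Agent.ClosedExc

open Subgroup Cfsg Cfsg.Agent.ClosedTwo.Elem

variable {G : Type*} [Group G]

/-- All the 2-elements of `L` are conjugate into `A`. -/
def FullOn (A L : Subgroup G) : Prop := ∀ x ∈ L, ∀ k : ℕ, x ^ 2 ^ k = 1 → Cl A x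

theorem FullOn.mono {A L L' : Subgroup G} (h : FullOn A L) (hle : L' ≤ L) : FullOn A L' :=
  fun x hx => h x (hle hx)

theorem FullOn.of_conj {A L L' : Subgroup G} (h : FullOn A L) (g : G) (hg : ∀ x ∈ L', g * x * g⁻¹ ∈ L) :
    FullOn A L' := by
  intro x hx k hxk
  refine Cl.of_conj (g := g) (h _ (hg x hx) k ?_)
  rw [conj_pow, hxk, mul_one, mul_inv_cancel]

theorem FullOn.map_conj {A L : Subgroup G} (h : FullOn A L) (g : G) :
    FullOn A (L.map (MulAut.conj g).toMonoidHom) := by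
  refine h.of_conj g⁻¹ ?_
  rintro _ ⟨x, hx, rfl⟩
  change g⁻¹ * (g * x * g⁻¹) * g⁻¹⁻¹ ∈ L
  rwa [show g⁻¹ * (g * x * g⁻¹) * g⁻¹⁻¹ = x by group]

variable [Finite G] {S : Sylow 2 G} {A : Subgroup G}

/-- **Products.** -/
theorem FullOn.sup (hA : IsStronglyClosed A (S : Subgroup G)) {L H : Subgroup G} (hL : FullOn A L)
    (hH : FullOn A H) (hn : H ≤ normalizer (L : Set G)) : FullOn A (L ⊔ H) := by
  have hp : Fact (Nat.Prime 2) := ⟨Nat.prime_two⟩
  intro x hx k hxk
  have hLV : L ≤ L ⊔ H := le_sup_left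
  have hHV : H ≤ L ⊔ H := le_sup_right
  have hLn : (L.subgroupOf (L ⊔ H)).Normal :=
    (normal_subgroupOf_iff_le_normalizer hLV).2 (sup_le le_normalizer hn)
  set π : ↥(L ⊔ H) →* ↥(L ⊔ H) ⧸ L.subgroupOf (L ⊔ H) := QuotientGroup.mk' _ with hπ
  set f : H →* ↥(L ⊔ H) ⧸ L.subgroupOf (L ⊔ H) := π.comp (inclusion hHV) with hf
  have hfs : Function.Surjective f := by
    intro y
    obtain ⟨⟨v, hv⟩, rfl⟩ := QuotientGroup.mk'_surjective _ y
    have hv' : v ∈ ((H ⊔ L : Subgroup G) : Set G) := by rw [sup_comm]; exact hv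
    rw [coe_mul_of_left_le_normalizer_right _ _ hn, Set.mem_mul] at hv'
    obtain ⟨b, hb, l, hl, rfl⟩ := hv'
    refine ⟨⟨b, hb⟩, ?_⟩
    change QuotientGroup.mk' _ _ = QuotientGroup.mk' _ _
    refine QuotientGroup.eq.2 ?_
    rw [mem_subgroupOf]
    change b⁻¹ * (b * l) ∈ L
    rwa [inv_mul_cancel_left]
  let P : Sylow 2 H := default
  obtain ⟨Q', hQ⟩ := (P.2.map (inclusion hHV)).exists_le_sylow
  -- the images in the quotient
  have himg : (Q' : Subgroup ↥(L ⊔ H)).map π = (P : Subgroup H).map f := by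
    have h1 : (P.mapSurjective hfs : Subgroup _) = (P : Subgroup H).map f := Sylow.coe_mapSurjective hfs P
    rw [← h1]
    refine (P.mapSurjective hfs).is_maximal' (Q'.2.map π) ?_
    rw [h1, hf, ← Subgroup.map_map]
    exact map_mono hQ
  have hall : ∀ s : ↥(L ⊔ H), s ∈ Q' → Cl A (s : G) := by
    intro s hs
    have h1 : π s ∈ (P : Subgroup H).map f := by rw [← himg]; exact ⟨s, hs, rfl⟩
    obtain ⟨b, hb, hbs⟩ := h1
    have h2 : (inclusion hHV b)⁻¹ * s ∈ L.subgroupOf (L ⊔ H) := QuotientGroup.eq.1 hbs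
    have hbQ : inclusion hHV b ∈ Q' := hQ ⟨b, hb, rfl⟩
    have hP2 : IsPGroup 2 ↥((Q' : Subgroup ↥(L ⊔ H)).map (L ⊔ H).subtype) := Q'.2.map _
    have h3 : (inclusion hHV b)⁻¹ * s ∈ (Q' : Subgroup ↥(L ⊔ H)) := mul_mem (inv_mem hbQ) hs
    have hpow : ∀ y : ↥(L ⊔ H), y ∈ Q' → ∃ m : ℕ, (y : G) ^ 2 ^ m = 1 := by
      intro y hy
      obtain ⟨m, hm⟩ := Q'.2 ⟨y, hy⟩
      exact ⟨m, congrArg (fun z : Q' => ((z : ↥(L ⊔ H)) : G)) hm⟩
    obtain ⟨m1, hm1⟩ := hpow _ hbQ
    obtain ⟨m2, hm2⟩ := hpow _ h3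
    have c1 : Cl A ((inclusion hHV b : ↥(L ⊔ H)) : G) := hH _ b.2 m1 hm1
    have c2 : Cl A (((inclusion hHV b)⁻¹ * s : ↥(L ⊔ H)) : G) := hL _ (mem_subgroupOf.1 h2) m2 hm2
    have := Cl.mul hA hP2 ⟨_, hbQ, rfl⟩ ⟨_, h3, rfl⟩ c1 c2
    have e : (L ⊔ H).subtype (inclusion hHV b) * (L ⊔ H).subtype ((inclusion hHV b)⁻¹ * s) = (s : G) := by
      rw [← map_mul, mul_inv_cancel_left]; rfl
    rwa [e] at this
  -- conjugating `x` into `Q'`
  have hz : IsPGroup 2 ↥(zpowers (⟨x, hx⟩ : ↥(L ⊔ H))) := isPGroup_zpowers (k := k) (Subtype.ext hxk)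
  obtain ⟨g, hg⟩ := exists_conj_le Q' hz
  have := hall _ (hg _ (mem_zpowers _))
  exact Cl.of_conj (g := (g : G)) this

/-- the case of two commuting subgroups -/
theorem FullOn.sup_of_commute (hA : IsStronglyClosed A (S : Subgroup G)) {L H : Subgroup G} (hL : FullOn A L)
    (hH : FullOn A H) (hc : ∀ x ∈ L, ∀ y ∈ H, Commute x y) : FullOn A (L ⊔ H) := by
  refine hL.sup hA hH ?_
  refine le_trans ?_ (centralizer_le_normalizer (s := (L : Set G)))
  intro y hy
  rw [mem_centralizer_iff]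
  exact fun x hx => (hc x hx y hy).eq

theorem fullOn_bot : FullOn A (⊥ : Subgroup G) := by
  intro x hx k _
  rw [mem_bot] at hx
  rw [hx]
  exact cl_one

/-- finitely many pairwise commuting subgroups -/
theorem fullOn_iSup (hA : IsStronglyClosed A (S : Subgroup G)) {ι : Type*} [Finite ι] {L : ι → Subgroup G}
    (hL : ∀ a, FullOn A (L a)) (hc : ∀ a b, a ≠ b → ∀ x ∈ L a, ∀ y ∈ L b, Commute x y) :
    FullOn A (⨆ a, L a) := by
  classical
  have : Fintype ι := Fintype.ofFinite ι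
  have key : ∀ s : Finset ι, FullOn A (⨆ a ∈ s, L a) := by
    intro s
    induction s using Finset.induction_on with
    | empty => simpa using fullOn_bot
    | insert a s ha ih =>
      rw [Finset.iSup_insert]
      refine (hL a).sup_of_commute hA ih ?_
      intro x hx y hy
      have hle : (⨆ b ∈ s, L b) ≤ centralizer ({x} : Set G) := by
        refine iSup₂_le fun b hb z hz => ?_
        rw [mem_centralizer_singleton_iff]
        exact (hc a b (fun e => ha (e ▸ hb)) x hx z hz).symm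
      exact (mem_centralizer_singleton_iff.1 (hle hy)).symm
  have := key Finset.univ
  simpa using this

/-- a 2-subgroup is conjugate into any subgroup of odd index -/
theorem exists_conj_mem (P : Sylow 2 G) {R : Subgroup G} (hR : ¬ 2 ∣ R.index) :
    ∃ g : G, ∀ x ∈ (P : Subgroup G), g⁻¹ * x * g ∈ R := by
  have hp : Fact (Nat.Prime 2) := ⟨Nat.prime_two⟩
  obtain ⟨y, hy⟩ := P.2.nonempty_fixed_point_of_prime_not_dvd_card (G ⧸ R) hR
  induction y using QuotientGroup.induction_on with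
  | H g =>
    refine ⟨g, fun x hx => ?_⟩
    have h1 := hy ⟨x, hx⟩
    have h2 : ((x * g : G) : G ⧸ R) = (g : G ⧸ R) := h1
    have h3 := QuotientGroup.eq.1 h2.symm
    rwa [← mul_assoc] at h3

theorem eq_of_fullOn (hA : IsStronglyClosed A (S : Subgroup G)) {R : Subgroup G} (hR : ¬ 2 ∣ R.index)
    (h : FullOn A R) : A = (S : Subgroup G) := by
  obtain ⟨g, hg⟩ := exists_conj_mem S hR
  refine eq_of_cl hA fun x hx => ?_
  obtain ⟨k, hk⟩ := S.2 ⟨x, hx⟩
  have hk' : x ^ 2 ^ k = 1 := congrArg Subtype.val hk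
  have h1 := h _ (hg x hx) k (by
    have : g⁻¹ * x * g = g⁻¹ * x * g⁻¹⁻¹ := by rw [inv_inv]
    rw [this, conj_pow, hk', mul_one, mul_inv_cancel])
  refine Cl.of_conj (g := g⁻¹) ?_
  rwa [inv_inv]

theorem exists_invol_mem (hA : IsStronglyClosed A (S : Subgroup G)) (hne : A ≠ ⊥) {R : Subgroup G}
    (hR : ¬ 2 ∣ R.index) : ∃ a ∈ R, a * a = 1 ∧ a ≠ 1 ∧ Cl A a := by
  obtain ⟨t, ht, htt, ht1⟩ := exists_involution hA hne
  obtain ⟨g, hg⟩ := exists_conj_mem S hR
  refine ⟨g⁻¹ * t * g, hg t (hA.1 ht), ?_, ?_, ?_⟩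
  · rw [show g⁻¹ * t * g * (g⁻¹ * t * g) = g⁻¹ * (t * t) * g by group, htt, mul_one, inv_mul_cancel]
  · intro h
    apply ht1
    have : t = g * (g⁻¹ * t * g) * g⁻¹ := by group
    rw [this, h]; group
  · have := (cl_of_mem ht).conj g⁻¹
    rwa [inv_inv] at this

/-! ### subgroups `(P)SL(2,q)` -/

/-- `L` is a quotient of `SL(2,q)`, `q` odd, by a subgroup of `{1, -1}`. -/
def IsSL (L : Subgroup G) : Prop :=
  ∃ (F : Type) (_ : Field F) (_ : Fintype F) (φ : Matrix.SpecialLinearGroup (Fin 2) F →* G),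
    Odd (Fintype.card F) ∧ (∀ u, φ u = 1 → u = 1 ∨ u = -1) ∧ φ.range = L

theorem IsSL.map_conj {L : Subgroup G} (h : IsSL L) (g : G) : IsSL (L.map (MulAut.conj g).toMonoidHom) := by
  obtain ⟨F, i1, i2, φ, hF, hker, rfl⟩ := h
  refine ⟨F, i1, i2, (MulAut.conj g).toMonoidHom.comp φ, hF, fun u hu => hker u ?_, ?_⟩
  · have h1 : (MulAut.conj g) (φ u) = 1 := hu
    exact (MulAut.conj g).map_eq_one_iff.1 h1
  · rw [MonoidHom.range_comp]

theorem fullOn_range {F : Type} [Field F] {φ : Matrix.SpecialLinearGroup (Fin 2) F →* G}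
    (hker : ∀ u, φ u = 1 → u = 1 ∨ u = -1) (h : Full A φ) : FullOn A φ.range := by
  rintro _ ⟨u, rfl⟩ k hk
  rw [← map_pow] at hk
  refine h u (k + 1) ?_
  rw [pow_succ, pow_mul]
  rcases hker _ hk with h1 | h1
  · rw [h1, one_pow]
  · rw [h1]; simp

theorem IsSL.of_normalizes (hA : IsStronglyClosed A (S : Subgroup G)) {L : Subgroup G} (hL : IsSL L) {a : G}
    (haa : a * a = 1) (ha : Cl A a) (hn : ∀ x ∈ L, a * x * a⁻¹ ∈ L) (hc : ∃ x ∈ L, a * x ≠ x * a) :
    FullOn A L := by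
  obtain ⟨F, i1, i2, φ, hF, hker, rfl⟩ := hL
  refine fullOn_range hker (full_of_normalizes hF hA hker haa ha ?_ ?_)
  · intro u
    obtain ⟨v, hv⟩ := hn _ ⟨u, rfl⟩
    exact ⟨v, hv.symm⟩
  · obtain ⟨_, ⟨u, rfl⟩, hu⟩ := hc
    exact ⟨u, hu⟩

theorem IsSL.of_swap (hA : IsStronglyClosed A (S : Subgroup G)) {L : Subgroup G} (hL : IsSL L) {a : G} {k : ℕ}
    (hak : a ^ 2 ^ k = 1) (ha : Cl A a) (ha2 : ∀ x ∈ L, a * (a * x * a⁻¹) * a⁻¹ = x)
    (hc : ∀ x ∈ L, ∀ y ∈ L, Commute (a * x * a⁻¹) y) : FullOn A L := by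
  obtain ⟨F, i1, i2, φ, hF, hker, rfl⟩ := hL
  exact fullOn_range hker (full_of_swap hF hA hak ha (fun u => ha2 _ ⟨u, rfl⟩) fun u u' => hc _ ⟨u, rfl⟩ _ ⟨u', rfl⟩)

/-- a quotient of `SL(2,q)` is not commutative -/
theorem IsSL.exists_not_commute {L : Subgroup G} (hL : IsSL L) : ∃ x ∈ L, ∃ y ∈ L, ¬ Commute x y := by
  obtain ⟨F, i1, i2, φ, hF, hker, rfl⟩ := hL
  by_contra hno
  push Not at hno
  have h1 : ∀ v : Matrix.SpecialLinearGroup (Fin 2) F, v = 1 ∨ v = -1 := by
    intro v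
    refine SL.eq_of_central hF fun u => ?_
    have h2 := hno _ ⟨v, rfl⟩ _ ⟨u, rfl⟩
    have h3 : φ (v * u * (u * v)⁻¹) = 1 := by
      rw [map_mul, map_mul, h2.eq, ← map_mul, ← map_mul, mul_inv_cancel, map_one]
    rcases hker _ h3 with h4 | h4
    · left; exact mul_inv_eq_one.1 h4
    · right
      rw [mul_inv_eq_iff_eq_mul] at h4
      rw [h4, neg_one_mul]
  have h2 := h1 (Lib.SL2Mat.up 1)
  have e : Lib.SL2Mat.ent (Lib.SL2Mat.up (1 : F)) 0 1 = 1 := Lib.SL2Mat.up_01 1
  rcases h2 with h2 | h2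
  · rw [h2, Lib.SL2Mat.ent_one_01] at e
    exact zero_ne_one e
  · rw [h2, SL.ent_neg, Lib.SL2Mat.ent_one_01, neg_zero] at e
    exact zero_ne_one e

end Cfsg.Agent.ClosedExc

end

-- merged: Cfsg.Agent.ClosedExc.WDef
section

/-!
# Frames in Weyl groups: definitions (helper50, S1252)

`WFrame cs h O k N` : `k` roots, pairwise related by `O`, and a subgroup `P` of order `N` of the Weyl group permuting
them up to sign, only `1` fixing all of them up to sign, generated by products of reflections in roots pairwise related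
by `O`.
-/

set_option autoImplicit false

namespace Cfsg.Agent.ClosedExc.Frame

open CoxeterSystem Cfsg.Agent.ChevalleyStructure.CoxeterGeom Cfsg.Agent.Tits.Roots Cfsg.Agent.Nodes.RGDChev Cfsg.Lie

variable {I W : Type*} [Fintype I] [DecidableEq I] [Group W] {M : CoxeterMatrix I}

/-- `γ` is a root and `w` the reflection in `γ`. -/
def IsRefl (cs : CoxeterSystem M W) {C : I → I → ℤ} (h : IsCartan M C) (γ : I → ℤ) (w : W) : Prop :=
  ∃ v i, γ = rep cs h v (sr i) ∧ w = v * cs.simple i * v⁻¹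

/-- A frame of `k` roots and a group of order `N`. -/
def WFrame (cs : CoxeterSystem M W) {C : I → I → ℤ} (h : IsCartan M C) (O : (I → ℤ) → (I → ℤ) → Prop)
    (k N : ℕ) : Prop :=
  ∃ (β : Fin k → I → ℤ) (P : Subgroup W) (Γ : Set W), (∀ a, IsRoot cs h (β a)) ∧
    (∀ a b, a ≠ b → O (β a) (β b)) ∧
    (∀ w ∈ P, ∀ a, ∃ b, rep cs h w (β a) = β b ∨ rep cs h w (β a) = -β b) ∧
    (∀ w ∈ P, (∀ a, rep cs h w (β a) = β a ∨ rep cs h w (β a) = -β a) → w = 1) ∧
    Nat.card P = N ∧ P = Subgroup.closure Γ ∧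
    ∀ w ∈ Γ, ∃ L : List ((I → ℤ) × W), (∀ p ∈ L, IsRefl cs h p.1 p.2) ∧ L.Pairwise (fun p q => O p.1 q.1) ∧
      w = (L.map Prod.snd).prod

/-- The roots `r`, `s` are different, not opposite, and the root groups of `± r`, `± s` commute. -/
def orthB (D : ChevalleyDatum) (r s : ℕ) : Bool :=
  decide (r < D.nroots) && decide (s < D.nroots) && decide (s ≠ r) && decide (s ≠ D.neg r) &&
    (D.commTerms r s).isEmpty && (D.commTerms (D.neg r) s).isEmpty && (D.commTerms r (D.neg s)).isEmpty &&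
    (D.commTerms (D.neg r) (D.neg s)).isEmpty

/-- The roots `x`, `y` are orthogonal, with commuting root groups. -/
def Orth (D : ChevalleyDatum) (l : ℕ) (x y : Fin l → ℤ) : Prop :=
  ∃ r s, orthB D r s = true ∧ x = vec D l r ∧ y = vec D l s

end Cfsg.Agent.ClosedExc.Frame

end

-- merged: Cfsg.Agent.ClosedExc.Frame
section

/-!
# Strongly closed 2-subgroups and frames of commuting rank one groups (helper50, S1252)

`R` a root group datum of the finite group `Y`, generated by its root groups, with abelian torus `T`; all rank one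
groups are quotients of `SL(2,q)` (`q` odd, depending on the root) by subgroups of `{1, -1}`; a frame of commuting rank
one groups `LL X (β a)`; a 2-subgroup `P` of the Weyl group permuting the frame faithfully, generated by products of
reflections in commuting rank one groups.  If `|T| |P| ∏ (|X (β a)| + 1)` is divisible by the 2-part of `|Y|` then a
nontrivial strongly closed subgroup of a Sylow 2-subgroup is the Sylow subgroup: `closedRow`.
-/

set_option autoImplicit false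
set_option linter.unusedSectionVars false

namespace Cfsg.Agent.ClosedExc.Frame

open CoxeterSystem Cfsg.Agent.ChevalleyStructure.CoxeterGeom Cfsg.Agent.Tits.Roots Cfsg.Agent.Tits.Core
  Cfsg.Agent.Nodes.Reps Cfsg.Agent.Nodes.BNOf Cfsg.Agent.Nodes.Bruhat Cfsg.Agent.Nodes.FreeTorus
  Cfsg.Agent.ClosedTwo.Torus Cfsg.Agent.ClosedTwo.Elem Cfsg.Agent.ClosedExc Cfsg.Agent.ClosedExc.Rk
  Cfsg.Agent.ClosedExc.Prod

variable {I W Y : Type*} [Fintype I] [DecidableEq I] [Group W] [Group Y] {M : CoxeterMatrix I}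
  {cs : CoxeterSystem M W} {C : I → I → ℤ} {h : IsCartan M C} {p : ℕ} {T : Subgroup Y} {n : I → Y}
  {X : (I → ℤ) → Subgroup Y}

/-- The rank one groups of `x` and `y` commute. -/
def LC (X : (I → ℤ) → Subgroup Y) (x y : I → ℤ) : Prop := ∀ a ∈ LL X x, ∀ b ∈ LL X y, Commute a b

/-- `w` is a product of reflections in roots with pairwise commuting rank one groups. -/
def GoodW (cs : CoxeterSystem M W) (h : IsCartan M C) (X : (I → ℤ) → Subgroup Y) (w : W) : Prop :=
  ∃ L : List ((I → ℤ) × W), (∀ p ∈ L, IsRefl cs h p.1 p.2) ∧ L.Pairwise (fun p q => LC X p.1 q.1) ∧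
    w = (L.map Prod.snd).prod

/-- The product of the rank one groups of a list with the torus. -/
def VL (T : Subgroup Y) (X : (I → ℤ) → Subgroup Y) (L : List ((I → ℤ) × W)) : Subgroup Y :=
  L.foldr (fun p V => LL X p.1 ⊔ V) T

/-- A step between simple roots. -/
def Link (T : Subgroup Y) (X : (I → ℤ) → Subgroup Y) (i j : I) : Prop :=
  (∃ z ∈ LL X (sr i), z * z = 1 ∧ z ∈ T ∧ ∃ u ∈ LL X (sr j), z * u ≠ u * z) ∨
  (∃ m ∈ LL X (sr i), ∃ k, m ^ 2 ^ k = 1 ∧ (∀ x ∈ LL X (sr j), m * (m * x * m⁻¹) * m⁻¹ = x) ∧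
    ∀ x ∈ LL X (sr j), ∀ y ∈ LL X (sr j), Commute (m * x * m⁻¹) y)

/-- The preimage in `N` of a subgroup of the Weyl group. -/
def NP (R : RGD cs h p T n X) (P : Subgroup W) : Subgroup Y where
  carrier := {g | ∃ w ∈ P, Rp cs R.nsys w g}
  mul_mem' := by
    rintro a b ⟨v, hv, h1⟩ ⟨w, hw, h2⟩
    exact ⟨v * w, mul_mem hv hw, h1.mul h2⟩
  one_mem' := ⟨1, one_mem _, rp_one⟩
  inv_mem' := by
    rintro a ⟨v, hv, h1⟩
    exact ⟨v⁻¹, inv_mem hv, h1.inv⟩

variable (R : RGD cs h p T n X)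

theorem mem_NP {P : Subgroup W} {g : Y} : g ∈ NP R P ↔ ∃ w ∈ P, Rp cs R.nsys w g := Iff.rfl

theorem T_le_NP {P : Subgroup W} : T ≤ NP R P := fun _ ht => ⟨1, one_mem _, rp_of_mem ht⟩

variable [Finite W] [Finite Y]

include R in
/-- the representatives of different elements are different -/
theorem rp_eq {v w : W} {g : Y} (h1 : Rp cs R.nsys v g) (h2 : Rp cs R.nsys w g) : v = w := by
  have h3 := h1.inv.mul h2
  rw [inv_mul_cancel] at h3
  have h4 := R.eq_one_of_mem_B h3 (one_mem _)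
  exact (inv_mul_eq_one.1 h4)

/-- `|N_P| = |T| |P|` -/
theorem card_NP (P : Subgroup W) : Nat.card (NP R P) = Nat.card P * Nat.card T := by
  classical
  -- the map to `P`
  let f : NP R P →* P :=
    { toFun := fun g => ⟨Classical.choose g.2, (Classical.choose_spec g.2).1⟩
      map_one' := Subtype.ext (rp_eq R (Classical.choose_spec (1 : NP R P).2).2 rp_one)
      map_mul' := fun a b => Subtype.ext (rp_eq R (Classical.choose_spec (a * b).2).2
        ((Classical.choose_spec a.2).2.mul (Classical.choose_spec b.2).2)) }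
  have hf : ∀ (g : NP R P) (w : P), Rp cs R.nsys (w : W) g → f g = w := fun g w hw =>
    Subtype.ext (rp_eq R (Classical.choose_spec g.2).2 hw)
  have hfr : ∀ g : NP R P, Rp cs R.nsys (f g : W) g := fun g => (Classical.choose_spec g.2).2
  have hfs : Function.Surjective f := by
    intro w
    obtain ⟨g, hg⟩ := exists_rp cs R.nsys (w : W)
    exact ⟨⟨g, w, w.2, hg⟩, hf _ w hg⟩
  have hker : f.ker = T.subgroupOf (NP R P) := by
    ext g
    rw [MonoidHom.mem_ker, Subgroup.mem_subgroupOf]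
    constructor
    · intro h1
      have h2 := hfr g
      rw [h1] at h2
      exact h2.mem_of_one
    · intro h1
      exact hf g 1 (rp_of_mem h1)
  have h1 := Subgroup.card_eq_card_quotient_mul_card_subgroup f.ker
  rw [Nat.card_congr (QuotientGroup.quotientKerEquivOfSurjective f hfs).toEquiv, hker,
    Nat.card_congr (Subgroup.subgroupOfEquivOfLe (T_le_NP R)).toEquiv] at h1
  exact h1

section full

include R

variable {S : Sylow 2 Y} {A : Subgroup Y} (hA : IsStronglyClosed A (S : Subgroup Y))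

/-- `LL X x` for `x` a root -/
theorem isSL_of_root (hSL : ∀ i, IsSL (LL X (sr i))) {x : I → ℤ} (hx : IsRoot cs h x) : IsSL (LL X x) := by
  obtain ⟨w, i, rfl⟩ := hx
  obtain ⟨k, hk⟩ := exists_rp cs R.nsys w
  rw [← rp_cj_LL R hk (isRoot_sr cs h i)]
  exact (hSL i).map_conj k

theorem fullOn_of_root {w : W} {x : I → ℤ} (hx : IsRoot cs h x) (hf : FullOn A (LL X x)) :
    FullOn A (LL X (rep cs h w x)) := by
  obtain ⟨k, hk⟩ := exists_rp cs R.nsys w
  rw [← rp_cj_LL R hk hx]
  exact hf.map_conj k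

include hA

/-- one step -/
theorem fullOn_link (hSL : ∀ i, IsSL (LL X (sr i))) {i j : I} (hij : Link T X i j)
    (hi : FullOn A (LL X (sr i))) : FullOn A (LL X (sr j)) := by
  rcases hij with ⟨z, hz, hzz, hzT, hzc⟩ | ⟨m, hm, k, hmk, h1, h2⟩
  · refine (hSL j).of_normalizes hA hzz (hi z hz 1 (by rw [pow_one, pow_two, hzz])) ?_ ?_
    · intro x hx
      have := T_norm_LL R (isRoot_sr cs h j) hzT
      rw [← this]
      exact conj_mem_cj.2 hx
    · obtain ⟨u, hu, hu1⟩ := hzc
      exact ⟨u, hu, hu1⟩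
  · exact (hSL j).of_swap hA hmk (hi m hm k hmk) h1 h2

/-- all roots -/
theorem fullOn_all (hSL : ∀ i, IsSL (LL X (sr i))) {link : I → I → Prop} (hlink : ∀ i j, link i j → Link T X i j)
    (hconn : ∀ i j, Relation.ReflTransGen link i j) {x : I → ℤ} (hx : IsRoot cs h x)
    (hf : FullOn A (LL X x)) {y : I → ℤ} (hy : IsRoot cs h y) : FullOn A (LL X y) := by
  obtain ⟨w, i, rfl⟩ := hx
  obtain ⟨v, j, rfl⟩ := hy
  have h1 : FullOn A (LL X (sr i)) := by
    have := fullOn_of_root (w := w⁻¹) R ((isRoot_sr cs h i).act w) hf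
    rwa [rep_inv_apply] at this
  have h2 : ∀ j, Relation.ReflTransGen link i j → FullOn A (LL X (sr j)) := by
    intro j hj
    induction hj with
    | refl => exact h1
    | tail _ hab ih => exact fullOn_link R hA hSL (hlink _ _ hab) ih
  exact fullOn_of_root R (isRoot_sr cs h j) (h2 j (hconn i j))

variable (hall : ∀ x, IsRoot cs h x → FullOn A (LL X x))

include hall

/-- the torus -/
theorem fullOn_T (hG : RGD.Sup X {x | IsRoot cs h x} = ⊤) (hTc : ∀ s ∈ T, ∀ t ∈ T, s * t = t * s) :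
    FullOn A T := by
  have hT := torus_eq R hG
  have hfin : Finite {x : I → ℤ // IsRoot cs h x} := (RGD.finite_roots (cs := cs) (h := h)).to_subtype
  have hle : ∀ x : {x : I → ℤ // IsRoot cs h x}, TT cs h X x.1 ≤ T := fun x => by
    rw [hT]; exact TT_le_TA x.2
  rw [hT]
  unfold TA
  refine fullOn_iSup hA (fun x => (hall x.1 x.2).mono inf_le_left) ?_
  intro a b _ s hs t ht
  exact hTc s (hle a hs) t (hle b ht)

/-- representatives of good elements -/
theorem cl_of_good (hG : RGD.Sup X {x | IsRoot cs h x} = ⊤) (hTc : ∀ s ∈ T, ∀ t ∈ T, s * t = t * s)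
    {w : W} (hw : GoodW cs h X w) {g : Y} (hg : Rp cs R.nsys w g) {k : ℕ} (hk : g ^ 2 ^ k = 1) : Cl A g := by
  have hT := fullOn_T R hA hall hG hTc
  have hTn : ∀ x, IsRoot cs h x → T ≤ Subgroup.normalizer (LL X x : Set Y) := fun x hx t ht => by
    rw [mem_normalizer_iff_cj]; exact T_norm_LL R hx ht
  obtain ⟨L, hL, hLc, rfl⟩ := hw
  have hroot : ∀ {γ : I → ℤ} {v : W}, IsRefl cs h γ v → IsRoot cs h γ := fun ⟨v, i, hγ, _⟩ => ⟨v, i, hγ⟩
  have hVn : ∀ {x : I → ℤ}, IsRoot cs h x → ∀ L : List ((I → ℤ) × W), (∀ q ∈ L, LC X x q.1) →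
      VL T X L ≤ Subgroup.normalizer (LL X x : Set Y) := by
    intro x hx L
    induction L with
    | nil => exact fun _ => hTn x hx
    | cons q L ih =>
      intro hq
      refine sup_le ?_ (ih fun q' hq' => hq q' (List.mem_cons_of_mem _ hq'))
      refine le_trans ?_ (Subgroup.centralizer_le_normalizer (s := (LL X x : Set Y)))
      intro y hy
      rw [Subgroup.mem_centralizer_iff]
      exact fun z hz => (hq q List.mem_cons_self z hz y hy).eq
  have hTV : ∀ L : List ((I → ℤ) × W), T ≤ VL T X L := by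
    intro L
    induction L with
    | nil => exact le_rfl
    | cons q L ih => exact ih.trans le_sup_right
  have hV : ∀ L : List ((I → ℤ) × W), (∀ p ∈ L, IsRefl cs h p.1 p.2) → L.Pairwise (fun p q => LC X p.1 q.1) →
      FullOn A (VL T X L) ∧ ∃ m ∈ VL T X L, Rp cs R.nsys (L.map Prod.snd).prod m := by
    intro L
    induction L with
    | nil => exact fun _ _ => ⟨hT, 1, one_mem _, rp_one⟩
    | cons q L ih =>
      intro hL hLc
      rw [List.pairwise_cons] at hLc
      obtain ⟨h1, m', hm', hmr'⟩ := ih (fun p hp => hL p (List.mem_cons_of_mem _ hp)) hLc.2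
      have hq := hL q List.mem_cons_self
      obtain ⟨m, hm, hmr⟩ : ∃ m ∈ LL X q.1, Rp cs R.nsys q.2 m := by
        obtain ⟨v, i, hγ, e⟩ := hq
        obtain ⟨m, hm, hmr⟩ := exists_m' R hγ
        exact ⟨m, hm, by rw [e]; exact hmr⟩
      refine ⟨(hall q.1 (hroot hq)).sup hA h1 (hVn (hroot hq) L hLc.1), m * m',
        mul_mem (Subgroup.mem_sup_left hm) (Subgroup.mem_sup_right hm'), ?_⟩
      rw [List.map_cons, List.prod_cons]
      exact hmr.mul hmr'
  obtain ⟨h1, m, hm, hmr⟩ := hV L hL hLc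
  refine h1 g ?_ k hk
  have h2 : g = m * (m⁻¹ * g) := by group
  rw [h2]
  exact mul_mem hm (hTV L (hmr.unique hg))

/-- **The preimage of a 2-subgroup generated by good elements.** -/
theorem fullOn_NP (hG : RGD.Sup X {x | IsRoot cs h x} = ⊤) (hTc : ∀ s ∈ T, ∀ t ∈ T, s * t = t * s)
    {P : Subgroup W} (hP : IsPGroup 2 ↥P) {Γ : Set W} (hΓ : ∀ w ∈ Γ, GoodW cs h X w)
    (hPΓ : P = Subgroup.closure Γ) : FullOn A (NP R P) := by
  classical
  have hp : Fact (Nat.Prime 2) := ⟨Nat.prime_two⟩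
  have hT := fullOn_T R hA hall hG hTc
  have hGG : GG cs h T X = ⊤ := by
    rw [eq_top_iff, ← hG]
    exact le_sup_right
  let f : NP R P →* P :=
    { toFun := fun g => ⟨Classical.choose g.2, (Classical.choose_spec g.2).1⟩
      map_one' := Subtype.ext (rp_eq R (Classical.choose_spec (1 : NP R P).2).2 rp_one)
      map_mul' := fun a b => Subtype.ext (rp_eq R (Classical.choose_spec (a * b).2).2
        ((Classical.choose_spec a.2).2.mul (Classical.choose_spec b.2).2)) }
  have hfr : ∀ g : NP R P, Rp cs R.nsys (f g : W) g := fun g => (Classical.choose_spec g.2).2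
  have hf : ∀ (g : NP R P) (w : P), Rp cs R.nsys (w : W) g → f g = w := fun g w hw =>
    Subtype.ext (rp_eq R (hfr g) hw)
  have hfs : Function.Surjective f := by
    intro w
    obtain ⟨g, hg⟩ := exists_rp cs R.nsys (w : W)
    exact ⟨⟨g, w, w.2, hg⟩, hf _ w hg⟩
  let Q : Sylow 2 (NP R P) := default
  -- the Sylow subgroup maps onto `P`
  have hQ : (Q : Subgroup (NP R P)).map f = ⊤ := by
    have h1 : (Q.mapSurjective hfs : Subgroup _) = (Q : Subgroup _).map f := Sylow.coe_mapSurjective hfs Q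
    rw [← h1]
    refine ((Q.mapSurjective hfs).is_maximal' ?_ le_top).symm
    exact hP.of_equiv Subgroup.topEquiv.symm
  have hQrep : ∀ w ∈ P, ∃ g : NP R P, g ∈ Q ∧ Rp cs R.nsys w (g : Y) := by
    intro w hw
    have h1 : (⟨w, hw⟩ : P) ∈ (Q : Subgroup (NP R P)).map f := by rw [hQ]; exact Subgroup.mem_top _
    obtain ⟨g, hg, e⟩ := h1
    refine ⟨g, hg, ?_⟩
    have := hfr g
    rwa [e] at this
  have hQ2 : IsPGroup 2 ↥((Q : Subgroup (NP R P)).map (NP R P).subtype) := Q.2.map _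
  have hpow : ∀ g : NP R P, g ∈ Q → ∃ m : ℕ, (g : Y) ^ 2 ^ m = 1 := by
    intro g hg
    obtain ⟨m, hm⟩ := Q.2 ⟨g, hg⟩
    exact ⟨m, congrArg (fun z : Q => ((z : NP R P) : Y)) hm⟩
  have key : ∀ w ∈ Subgroup.closure Γ, ∀ g : NP R P, g ∈ Q → Rp cs R.nsys w (g : Y) → Cl A (g : Y) := by
    intro w hw
    induction hw using Subgroup.closure_induction with
    | mem w hw =>
      intro g hg hgr
      obtain ⟨m, hm⟩ := hpow g hg
      exact cl_of_good R hA hall hG hTc (hΓ w hw) hgr hm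
    | one =>
      intro g hg hgr
      obtain ⟨m, hm⟩ := hpow g hg
      exact hT _ hgr.mem_of_one m hm
    | mul w1 w2 hw1 hw2 h1 h2 =>
      intro g hg hgr
      obtain ⟨g2, hg2, hr2⟩ := hQrep w2 (by rw [hPΓ]; exact hw2)
      have h3 : Rp cs R.nsys w1 ((g * g2⁻¹ : NP R P) : Y) := by
        have := hgr.mul hr2.inv
        rwa [mul_inv_cancel_right] at this
      have c1 := h1 (g * g2⁻¹) (mul_mem hg (inv_mem hg2)) h3
      have c2 := h2 g2 hg2 hr2
      have := Cl.mul hA hQ2 ⟨_, mul_mem hg (inv_mem hg2), rfl⟩ ⟨_, hg2, rfl⟩ c1 c2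
      have e : (NP R P).subtype (g * g2⁻¹) * (NP R P).subtype g2 = (g : Y) := by
        rw [← map_mul, inv_mul_cancel_right]; rfl
      rwa [e] at this
    | inv w hw h1 =>
      intro g hg hgr
      have h2 := h1 g⁻¹ (inv_mem hg) (by
        have := hgr.inv
        rwa [inv_inv] at this)
      have := h2.inv
      have e : (((g⁻¹ : NP R P) : Y))⁻¹ = (g : Y) := by
        rw [Subgroup.coe_inv, inv_inv]
      rwa [e] at this
  intro x hx k hk
  have hz : IsPGroup 2 ↥(Subgroup.zpowers (⟨x, hx⟩ : NP R P)) := isPGroup_zpowers (k := k) (Subtype.ext hk)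
  obtain ⟨g, hg⟩ := exists_conj_le Q hz
  have h1 := hg _ (Subgroup.mem_zpowers _)
  obtain ⟨w, hw, hwr⟩ := (g * ⟨x, hx⟩ * g⁻¹ : NP R P).2
  rw [hPΓ] at hw
  have := key w hw _ h1 hwr
  exact Cl.of_conj (g := (g : Y)) this

end full

section main

variable {ι : Type*} [Fintype ι] {β : ι → (I → ℤ)} {P : Subgroup W}

/-- A frame of commuting rank one groups with a group of permutations. -/
structure FrameData (cs : CoxeterSystem M W) (h : IsCartan M C) (X : (I → ℤ) → Subgroup Y) (β : ι → (I → ℤ))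
    (P : Subgroup W) : Prop where
  root : ∀ a, IsRoot cs h (β a)
  orth : ∀ a b, a ≠ b → LC X (β a) (β b)
  perm : ∀ w ∈ P, ∀ a, ∃ b, rep cs h w (β a) = β b ∨ rep cs h w (β a) = -β b
  faith : ∀ w ∈ P, (∀ a, rep cs h w (β a) = β a ∨ rep cs h w (β a) = -β a) → w = 1

variable (F : FrameData cs h X β P)

include R F

theorem frame_cj {w : W} (hw : w ∈ P) {g : Y} (hg : Rp cs R.nsys w g) (a : ι) :
    ∃ b, cj g (LL X (β a)) = LL X (β b) ∧ (rep cs h w (β a) = β b ∨ rep cs h w (β a) = -β b) := by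
  obtain ⟨b, hb⟩ := F.perm w hw a
  refine ⟨b, ?_, hb⟩
  rw [rp_cj_LL R hg (F.root a)]
  rcases hb with hb | hb
  · rw [hb]
  · rw [hb, LL_neg]

theorem NP_le_normalizer : NP R P ≤ Subgroup.normalizer ((⨆ a, LL X (β a) : Subgroup Y) : Set Y) := by
  have key : ∀ g ∈ NP R P, cj g (⨆ a, LL X (β a)) ≤ ⨆ a, LL X (β a) := by
    rintro g ⟨w, hw, hg⟩
    rw [cj_iSup]
    refine iSup_le fun a => ?_
    obtain ⟨b, hb, -⟩ := frame_cj R F hw hg a
    rw [hb]
    exact le_iSup (fun a => LL X (β a)) b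
  intro g hg
  rw [mem_normalizer_iff_cj]
  apply le_antisymm (key g hg)
  have h1 := cj_mono g (key g⁻¹ (inv_mem hg))
  rwa [cj_cj_inv] at h1

omit R in
theorem frame_cj_E {y : Y} (hy : y ∈ ⨆ a, LL X (β a)) (a : ι) : cj y (LL X (β a)) = LL X (β a) := by
  obtain ⟨l, hl, e⟩ := exists_local_cj F.orth (fun a => le_rfl) hy a
  rw [e, cj_eq_of_mem hl]

omit R in
theorem frame_inj (hSL : ∀ x, IsRoot cs h x → IsSL (LL X x)) {a b : ι} (hab : LL X (β a) = LL X (β b)) : a = b := by
  by_contra hne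
  obtain ⟨x, hx, y, hy, hxy⟩ := (hSL _ (F.root a)).exists_not_commute
  exact hxy (F.orth a b hne x hx y (hab ▸ hy))

theorem frame_kernel (hSL : ∀ x, IsRoot cs h x → IsSL (LL X x)) {w : W} (hw : w ∈ P) {g : Y}
    (hg : Rp cs R.nsys w g) {y : Y} (hy : y ∈ ⨆ a, LL X (β a))
    (hfix : ∀ a, cj (y * g) (LL X (β a)) = LL X (β a)) : g ∈ T := by
  have h1 : w = 1 := by
    refine F.faith w hw fun a => ?_
    obtain ⟨b, hb, hb'⟩ := frame_cj R F hw hg a
    have h2 := hfix a
    rw [cj_mul, hb, frame_cj_E F hy] at h2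
    have h3 := frame_inj F hSL h2
    rwa [h3] at hb'
  rw [h1] at hg
  exact hg.mem_of_one

/-- **The main theorem.** -/
theorem closedRow (hG : RGD.Sup X {x | IsRoot cs h x} = ⊤) (hcen : ∀ z : Y, (∀ y, z * y = y * z) → z = 1)
    (hTc : ∀ s ∈ T, ∀ t ∈ T, s * t = t * s) (hSL : ∀ i, IsSL (LL X (sr i)))
    {link : I → I → Prop} (hlink : ∀ i j, link i j → Link T X i j) (hconn : ∀ i j, Relation.ReflTransGen link i j)
    (hP : IsPGroup 2 ↥P) {Γ : Set W} (hΓ : ∀ w ∈ Γ, GoodW cs h X w) (hPΓ : P = Subgroup.closure Γ)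
    (hord : ∀ m : ℕ, 2 ^ m ∣ Nat.card Y → 2 ^ m ∣ Nat.card T * Nat.card P * ∏ a, (Nat.card (X (β a)) + 1)) :
    ClosedTwo.ClosedRow Y := by
  classical
  intro S A hA
  by_cases hbot : A = ⊥
  · exact Or.inl hbot
  right
  have hSL' : ∀ x, IsRoot cs h x → IsSL (LL X x) := fun x hx => isSL_of_root R hSL hx
  have hGG : GG cs h T X = ⊤ := by
    rw [eq_top_iff, ← hG]
    exact le_sup_right
  have hn := NP_le_normalizer R F
  -- the order
  have hinf : (⨆ a, LL X (β a)) ⊓ NP R P = (⨆ a, LL X (β a)) ⊓ T := by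
    apply le_antisymm
    · rintro g ⟨h1, w, hw, hg⟩
      refine ⟨h1, frame_kernel R F hSL' hw hg (one_mem _) fun a => ?_⟩
      rw [one_mul]
      exact frame_cj_E F h1 a
    · exact inf_le_inf_left _ (T_le_NP R)
  have hE : Nat.card ↥((⨆ a, LL X (β a)) ⊓ T) * ∏ a, (Nat.card (X (β a)) + 1) ∣ Nat.card ↥(⨆ a, LL X (β a)) := by
    have h1 := Prod.card_dvd (L := fun a => LL X (β a)) (K := fun a => X (β a)) F.orth
      (fun a => X_le_LL (β a)) (St := T) (fun s hs a => R.tor _ (F.root a) s hs)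
    have h2 : ∀ a, Nat.card (Set.range fun g : LL X (β a) => cj (g : Y) (X (β a))) = Nat.card (X (β a)) + 1 :=
      fun a => card_conj R hGG (F.root a)
    simp only [h2] at h1
    exact h1
  have hcard : Nat.card T * Nat.card P * ∏ a, (Nat.card (X (β a)) + 1) ∣ Nat.card ↥((⨆ a, LL X (β a)) ⊔ NP R P) := by
    have h1 := card_sup_mul' hn
    rw [hinf, card_NP R P] at h1
    obtain ⟨c, hc⟩ := hE
    rw [hc] at h1
    refine ⟨c, ?_⟩
    have hpos : 0 < Nat.card ↥((⨆ a, LL X (β a)) ⊓ T) := Nat.card_pos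
    refine Nat.eq_of_mul_eq_mul_right hpos ?_
    rw [h1]; ring
  have hidx : ¬ 2 ∣ ((⨆ a, LL X (β a)) ⊔ NP R P).index := by
    intro h2
    have hne : Nat.card ↥((⨆ a, LL X (β a)) ⊔ NP R P) ≠ 0 := Nat.card_pos.ne'
    have h3 : 2 ^ ((Nat.card ↥((⨆ a, LL X (β a)) ⊔ NP R P)).factorization 2 + 1) ∣ Nat.card Y := by
      rw [← Subgroup.card_mul_index ((⨆ a, LL X (β a)) ⊔ NP R P), pow_succ]
      exact mul_dvd_mul (Nat.ordProj_dvd _ 2) h2
    exact Nat.pow_succ_factorization_not_dvd hne Nat.prime_two ((hord _ h3).trans hcard)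
  -- one root
  have hone : ∃ x, IsRoot cs h x ∧ FullOn A (LL X x) := by
    obtain ⟨t, htR, htt, ht1, htcl⟩ := exists_invol_mem hA hbot hidx
    have htR' : t ∈ (((⨆ a, LL X (β a)) ⊔ NP R P : Subgroup Y) : Set Y) := htR
    rw [Subgroup.coe_mul_of_right_le_normalizer_left _ _ hn, Set.mem_mul] at htR'
    obtain ⟨y, hy, g, ⟨w, hw, hg⟩, rfl⟩ := htR'
    by_cases hmove : ∃ a, cj (y * g) (LL X (β a)) ≠ LL X (β a)
    · obtain ⟨a, ha⟩ := hmove
      obtain ⟨b, hb, -⟩ := frame_cj R F hw hg a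
      have h1 : cj (y * g) (LL X (β a)) = LL X (β b) := by rw [cj_mul, hb, frame_cj_E F hy]
      have hab : b ≠ a := by
        rintro rfl
        exact ha h1
      refine ⟨β a, F.root a, (hSL' _ (F.root a)).of_swap hA (a := y * g) (k := 1) (by rw [pow_one, pow_two, htt])
        htcl ?_ ?_⟩
      · intro x _
        rw [show y * g * (y * g * x * (y * g)⁻¹) * (y * g)⁻¹ = (y * g * (y * g)) * x * (y * g * (y * g))⁻¹ by group,
          htt, one_mul, inv_one, mul_one]
      · intro x hx z hz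
        refine F.orth b a hab _ ?_ z hz
        rw [← h1]
        exact conj_mem_cj.2 hx
    · push Not at hmove
      have hgT : g ∈ T := frame_kernel R F hSL' hw hg hy hmove
      by_cases hcent : ∃ a, ∃ x ∈ LL X (β a), (y * g) * x ≠ x * (y * g)
      · obtain ⟨a, x, hx, hxa⟩ := hcent
        refine ⟨β a, F.root a, (hSL' _ (F.root a)).of_normalizes hA htt htcl ?_ ⟨x, hx, hxa⟩⟩
        intro x hx
        rw [← hmove a]
        exact conj_mem_cj.2 hx
      · push Not at hcent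
        have hyT : y ∈ T := by
          have hfix : ∀ a, ∀ K : Subgroup Y, K ≤ LL X (β a) → cj g K = K → cj y K = K := by
            intro a K hK hgK
            have h1 : cj (y * g) K = K := cj_eq_of_commute (L := LL X (β a)) (fun x hx => hcent a x hx) hK
            rwa [cj_mul, hgK] at h1
          refine mem_of_prod (L := fun a => LL X (β a)) (K := fun a => X (β a)) (K' := fun a => X (-β a)) F.orth
            (fun a z hz h1 h2 => mem_T_of_norm R hGG (F.root a) hz h1 h2) (fun a => X_le_LL (β a))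
            (fun a => X_neg_le_LL (β a)) hy ?_ ?_
          · exact fun a => hfix a _ (X_le_LL (β a)) (R.tor _ (F.root a) g hgT)
          · exact fun a => hfix a _ (X_neg_le_LL (β a)) (R.tor _ (F.root a).neg g hgT)
        have htT : y * g ∈ T := mul_mem hyT hgT
        obtain ⟨x, hx, u, hu, hxu⟩ : ∃ x, IsRoot cs h x ∧ ∃ u ∈ X x, (y * g) * u ≠ u * (y * g) := by
          by_contra hno
          push Not at hno
          apply ht1
          apply hcen
          have hle : RGD.Sup X {x | IsRoot cs h x} ≤ Subgroup.centralizer ({y * g} : Set Y) := by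
            refine RGD.Sup_le fun x hx u hu => ?_
            rw [Subgroup.mem_centralizer_singleton_iff]
            exact (hno x hx u hu).symm
          rw [hG] at hle
          intro z
          exact (Subgroup.mem_centralizer_singleton_iff.1 (hle (Subgroup.mem_top z))).symm
        refine ⟨x, hx, (hSL' x hx).of_normalizes hA htt htcl ?_ ⟨u, X_le_LL x hu, hxu⟩⟩
        intro z hz
        have := T_norm_LL R hx htT
        rw [← this]
        exact conj_mem_cj.2 hz
  obtain ⟨x0, hx0, hfull0⟩ := hone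
  have hall : ∀ x, IsRoot cs h x → FullOn A (LL X x) :=
    fun x hx => fullOn_all R hA hSL hlink hconn hx0 hfull0 hx
  refine eq_of_fullOn hA hidx ?_
  refine FullOn.sup hA (fullOn_iSup hA (fun a => hall _ (F.root a)) F.orth) ?_ hn
  exact fullOn_NP R hA hall hG hTc hP hΓ hPΓ

end main

end Cfsg.Agent.ClosedExc.Frame

end
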