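import Cfsg.Agent.ClosedExc.Frame
import Cfsg.Agent.OddHalf.LongSL.Fold
import Cfsg.Agent.OddHalf.Small.ChevCent
import Cfsg.Agent.OddHalf.LongSL.Chev
import Mathlib
import Cfsg.Agent.S1035
import Cfsg.Agent.S1059
import Cfsg.Agent.S1062
import Cfsg.Agent.S1063
import Cfsg.Agent.S1064
import Cfsg.Agent.S1065
import Cfsg.Agent.OddHalf.LongSL.Tw
import Cfsg.Agent.ChevalleyStructure.TwD4Card
import Cfsg.Agent.S1067
import Cfsg.Agent.S1106

-- merged: Cfsg.Agent.ClosedExc.FoldInst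
section

/-!
# The folded groups: general lemmas for the hypotheses of `Frame.closedRow` (helper50, S1252)

* `isSL_of_hom` : `LL X x` is the image of `SL₂(F)`;
* `lc_of_fibres` : relative roots with orthogonal fibres have commuting rank one groups;
* `torus_comm` : the torus is abelian.
-/

set_option autoImplicit false
set_option linter.unusedSectionVars false

namespace Cfsg.Agent.ClosedExc.FoldInst

open CoxeterSystem Cfsg.Agent.ChevalleyStructure.CoxeterGeom Cfsg.Agent.Tits.Roots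
  Cfsg.Agent.Nodes.Reps Cfsg.Agent.Nodes.BNOf Cfsg.Agent.Nodes.FreeTorus Cfsg.Agent.Nodes.Bruhat
open Cfsg.Lie Cfsg.Agent.ChevalleyStructure Cfsg.Agent.ChevalleyStructure.Elts
  Cfsg.Agent.ChevalleyStructure.TwistedU Cfsg.Agent.ChevalleyStructure.NPerm Cfsg.Agent.Nodes.RGDChev
  Cfsg.Agent.Nodes.RGDFold
open Cfsg.Agent.ClosedExc.Frame

/-- `LL X x` is the image of `SL₂(F)`. -/
theorem isSL_of_hom {I G : Type*} [Group G] {F : Type} [Field F] [Fintype F] (hF : Odd (Fintype.card F))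
    {X : (I → ℤ) → Subgroup G} {x : I → ℤ} (ψ : Matrix.SpecialLinearGroup (Fin 2) F →* G)
    (hker : ∀ g, ψ g = 1 → g = 1 ∨ g = -1)
    (h1 : ∀ t, ψ (SL2Hom.up t) ∈ X x) (h2 : ∀ t, ψ (SL2Hom.lo t) ∈ X (-x))
    (h3 : ∀ u ∈ X x, ∃ t, u = ψ (SL2Hom.up t)) (h4 : ∀ u ∈ X (-x), ∃ t, u = ψ (SL2Hom.lo t)) :
    IsSL (LL X x) := by
  refine ⟨F, inferInstance, inferInstance, ψ, hF, hker, ?_⟩
  apply le_antisymm
  · rw [MonoidHom.range_eq_map, Subgroup.map_le_iff_le_comap]
    intro g _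
    refine (Subgroup.closure_le _).2 ?_ (SL2Hom.mem_closure_SL2 g)
    rintro x (⟨t, rfl⟩ | ⟨t, rfl⟩)
    · exact Subgroup.mem_sup_left (h1 t)
    · exact Subgroup.mem_sup_right (h2 t)
  · refine sup_le ?_ ?_
    · intro u hu
      obtain ⟨t, ht⟩ := h3 u hu
      exact ⟨SL2Hom.up t, ht.symm⟩
    · intro u hu
      obtain ⟨t, ht⟩ := h4 u hu
      exact ⟨SL2Hom.lo t, ht.symm⟩

section Group

variable {D : ChevalleyDatum} {l : ℕ} {M' : CoxeterMatrix (Fin l)} (hp : IsType D l M') {K : Type} [Field K]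
variable {m : ℕ} {J : Fin m → List (Fin l)} {σ : GL D.Idx K →* GL D.Idx K} {G : Subgroup (GL D.Idx K)}

include hp in
/-- root elements of orthogonal roots commute -/
theorem commute_xG_of_orthB {r s : ℕ} (h : orthB D r s = true) (t u : K) :
    Commute (xG hp.inList r t) (xG hp.inList s u) ∧ Commute (xG hp.inList (D.neg r) t) (xG hp.inList s u) ∧
      Commute (xG hp.inList r t) (xG hp.inList (D.neg s) u) ∧
      Commute (xG hp.inList (D.neg r) t) (xG hp.inList (D.neg s) u) := by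
  simp only [orthB, Bool.and_eq_true, decide_eq_true_eq, List.isEmpty_iff] at h
  obtain ⟨⟨⟨⟨⟨⟨⟨hr, hs⟩, h1⟩, h2⟩, c1⟩, c2⟩, c3⟩, c4⟩ := h
  have hnr := neg_lt hp.inList hr
  have hns := neg_lt hp.inList hs
  have hnn : ∀ {t : ℕ}, t < D.nroots → D.neg (D.neg t) = t := fun ht => RootVec.neg_neg hp.checked ht
  have n1 : D.neg s ≠ r := fun e => h2 (by rw [← e, hnn hs])
  have n2 : D.neg s ≠ D.neg r := fun e => h1 (by rw [← hnn hs, e, hnn hr])
  exact ⟨(OddHalf.LongSL.Chev.commute_xG hp K hr hs h1 h2 c1 t u).symm,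
    (OddHalf.LongSL.Chev.commute_xG hp K hnr hs h2 (by rw [hnn hr]; exact h1) c2 t u).symm,
    (OddHalf.LongSL.Chev.commute_xG hp K hr hns n1 n2 c3 t u).symm,
    (OddHalf.LongSL.Chev.commute_xG hp K hnr hns n2 (by rw [hnn hr]; exact n1) c4 t u).symm⟩

/-- subgroups generated by commuting elements -/
theorem commute_rspan {Γ ι : Type*} [Group Γ] {x : ι → K → Γ} {S S' : Set ι}
    (h : ∀ r ∈ S, ∀ s ∈ S', ∀ t u, Commute (x r t) (x s u)) {a b : Γ} (ha : a ∈ rspan x S) (hb : b ∈ rspan x S') :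
    Commute a b := by
  have h1 : rspan x S ≤ Subgroup.centralizer ((rspan x S' : Subgroup Γ) : Set Γ) := by
    refine rspan_le x fun r hr t => ?_
    rw [Subgroup.mem_centralizer_iff]
    intro y hy
    have h2 : rspan x S' ≤ Subgroup.centralizer {x r t} := by
      refine rspan_le x fun s hs u => ?_
      rw [Subgroup.mem_centralizer_singleton_iff]
      exact (h r hr s hs t u).eq.symm
    exact Subgroup.mem_centralizer_singleton_iff.1 (h2 hy)
  exact (Subgroup.mem_centralizer_iff.1 (h1 ha) b hb).symm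

include hp in
/-- Relative roots with orthogonal fibres. -/
theorem lc_of_fibres {x y : Fin m → ℤ}
    (h : ∀ k < D.nroots, V D J k = x → ∀ k' < D.nroots, V D J k' = y → orthB D k k' = true) :
    LC (fun z => (R D hp K J σ z).subgroupOf G) x y := by
  set Sx : Set ℕ := {k | k < D.nroots ∧ (V D J k = x ∨ V D J k = -x)} with hSx
  set Sy : Set ℕ := {k | k < D.nroots ∧ (V D J k = y ∨ V D J k = -y)} with hSy
  have hnn : ∀ {t : ℕ}, t < D.nroots → D.neg (D.neg t) = t := fun ht => RootVec.neg_neg hp.checked ht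
  have key : ∀ r ∈ Sx, ∀ s ∈ Sy, ∀ t u, Commute (xG (F := K) hp.inList r t) (xG hp.inList s u) := by
    rintro r ⟨hr, hr'⟩ s ⟨hs, hs'⟩ t u
    have ex : ∃ r', r' < D.nroots ∧ V D J r' = x ∧ (r = r' ∨ r = D.neg r') := by
      rcases hr' with h1 | h1
      · exact ⟨r, hr, h1, Or.inl rfl⟩
      · exact ⟨D.neg r, neg_lt hp.inList hr, by rw [V_neg hp.checked hr, h1, _root_.neg_neg], Or.inr (hnn hr).symm⟩
    have ey : ∃ s', s' < D.nroots ∧ V D J s' = y ∧ (s = s' ∨ s = D.neg s') := by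
      rcases hs' with h1 | h1
      · exact ⟨s, hs, h1, Or.inl rfl⟩
      · exact ⟨D.neg s, neg_lt hp.inList hs, by rw [V_neg hp.checked hs, h1, _root_.neg_neg], Or.inr (hnn hs).symm⟩
    obtain ⟨r', hr1, hr2, hr3⟩ := ex
    obtain ⟨s', hs1, hs2, hs3⟩ := ey
    obtain ⟨c1, c2, c3, c4⟩ := commute_xG_of_orthB hp (h r' hr1 hr2 s' hs1 hs2) t u
    rcases hr3 with rfl | rfl <;> rcases hs3 with rfl | rfl
    exacts [c1, c3, c2, c4]
  have hle : ∀ {z : Fin m → ℤ} {S : Set ℕ}, (∀ k < D.nroots, V D J k = z → k ∈ S) →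
      ∀ g ∈ (R D hp K J σ z).subgroupOf G, (g : GL D.Idx K) ∈ rspan (xG (F := K) hp.inList) S := by
    intro z S hS g hg
    exact rspan_mono _ (fun k hk => hS k hk.1 hk.2) (Subgroup.mem_subgroupOf.1 hg).1
  have hle2 : ∀ {z : Fin m → ℤ} {S : Set ℕ}, (∀ k < D.nroots, (V D J k = z ∨ V D J k = -z) → k ∈ S) →
      ∀ g ∈ LL (fun z => (R D hp K J σ z).subgroupOf G) z,
        (g : GL D.Idx K) ∈ rspan (xG (F := K) hp.inList) S := by
    intro z S hS
    have h1 : LL (fun z => (R D hp K J σ z).subgroupOf G) z ≤ (rspan (xG (F := K) hp.inList) S).subgroupOf G := by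
      refine sup_le ?_ ?_
      · intro g hg
        rw [Subgroup.mem_subgroupOf]
        exact hle (fun k hk e => hS k hk (Or.inl e)) g hg
      · intro g hg
        rw [Subgroup.mem_subgroupOf]
        exact hle (fun k hk e => hS k hk (Or.inr e)) g hg
    intro g hg
    exact Subgroup.mem_subgroupOf.1 (h1 hg)
  intro a ha b hb
  have h1 := hle2 (S := Sx) (fun k hk e => ⟨hk, e⟩) a ha
  have h2 := hle2 (S := Sy) (fun k hk e => ⟨hk, e⟩) b hb
  exact Subtype.ext (commute_rspan key h1 h2).eq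

include hp in
/-- the torus is abelian -/
theorem torus_comm (s : ↥G) (hs : s ∈ (D.diagonalSubgroup K ⊓ G).subgroupOf G) (t : ↥G)
    (ht : t ∈ (D.diagonalSubgroup K ⊓ G).subgroupOf G) : s * t = t * s :=
  Subtype.ext (OddHalf.Small.ChevCent.diag_comm hp.inList (Subgroup.mem_subgroupOf.1 hs).1
    (Subgroup.mem_subgroupOf.1 ht).1)

end Group

end Cfsg.Agent.ClosedExc.FoldInst

end

-- merged: Cfsg.Agent.ClosedExc.ChevInst
section

/-!
# The exceptional Chevalley groups in odd characteristic: the hypotheses of `Frame.closedRow` (helper50, S1252)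
-/

set_option autoImplicit false
set_option linter.unusedSectionVars false

namespace Cfsg.Agent.ClosedExc.Chev

open CoxeterSystem Cfsg.Agent.ChevalleyStructure.CoxeterGeom Cfsg.Agent.Tits.Roots
  Cfsg.Agent.Nodes.Reps Cfsg.Agent.Nodes.BNOf Cfsg.Agent.Nodes.FreeTorus Cfsg.Agent.Nodes.Bruhat
open Cfsg.Lie Cfsg.Agent.ChevalleyStructure Cfsg.Agent.ChevalleyStructure.Elts
  Cfsg.Agent.ChevalleyStructure.NPerm Cfsg.Agent.Nodes.RGDChev
open Cfsg.Agent.OddHalf.LongSL Cfsg.Agent.ClosedExc.Frame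

variable {D : ChevalleyDatum} {l : ℕ} {M : CoxeterMatrix (Fin l)} (hp : IsType D l M) (K : Type) [Field K]

/-- The root groups. -/
abbrev XX (D : ChevalleyDatum) (l : ℕ) (K : Type) [Field K] (x : Fin l → ℤ) : Subgroup ↥(D.group K) :=
  (XV D l K x).subgroupOf (D.group K)

/-- The torus. -/
abbrev TG (D : ChevalleyDatum) (K : Type) [Field K] : Subgroup ↥(D.group K) :=
  (D.diagonalSubgroup K).subgroupOf (D.group K)

include hp

theorem mem_XX {r : ℕ} (hr : r < D.nroots) {u : ↥(D.group K)} :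
    u ∈ XX D l K (vec D l r) ↔ ∃ t, xG hp.inList r t = (u : GL D.Idx K) := by
  rw [Subgroup.mem_subgroupOf, XV_vec hp K hr, mem_rootSubgroup_iff hp.inList]
  exact ⟨fun ⟨t, ht⟩ => ⟨t, ht.symm⟩, fun ⟨t, ht⟩ => ⟨t, ht.symm⟩⟩

theorem commute_of_orthB {r s : ℕ} (h : orthB D r s = true) :
    ∀ a ∈ LL (XX D l K) (vec D l r), ∀ b ∈ LL (XX D l K) (vec D l s), Commute a b := by
  simp only [orthB, Bool.and_eq_true, decide_eq_true_eq, List.isEmpty_iff] at h
  obtain ⟨⟨⟨⟨⟨⟨⟨hr, hs⟩, h1⟩, h2⟩, c1⟩, c2⟩, c3⟩, c4⟩ := h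
  have hnr := neg_lt hp.inList hr
  have hns := neg_lt hp.inList hs
  have hnn : ∀ {t : ℕ}, t < D.nroots → D.neg (D.neg t) = t := fun ht => RootVec.neg_neg hp.checked ht
  have e1 : -vec D l r = vec D l (D.neg r) := (vec_neg hp hr).symm
  have e2 : -vec D l s = vec D l (D.neg s) := (vec_neg hp hs).symm
  have key : ∀ {r s : ℕ}, r < D.nroots → s < D.nroots → s ≠ r → s ≠ D.neg r → D.commTerms r s = [] →
      ∀ a ∈ XX D l K (vec D l r), ∀ b ∈ XX D l K (vec D l s), Commute a b := by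
    intro r s hr hs h1 h2 hc a ha b hb
    obtain ⟨t, ht⟩ := (mem_XX hp K hr).1 ha
    obtain ⟨u, hu⟩ := (mem_XX hp K hs).1 hb
    refine Subtype.ext ?_
    change (a : GL D.Idx K) * b = b * a
    rw [← ht, ← hu]
    exact (OddHalf.LongSL.Chev.commute_xG hp K hr hs h1 h2 hc t u).symm
  have n1 : D.neg s ≠ r := fun e => h2 (by rw [← e, hnn hs])
  have n2 : D.neg s ≠ D.neg r := fun e => h1 (by rw [← hnn hs, e, hnn hr])
  intro a ha b hb
  unfold LL at ha hb
  rw [e1] at ha
  rw [e2] at hb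
  have hX : ∀ a ∈ XX D l K (vec D l r) ⊔ XX D l K (vec D l (D.neg r)),
      a ∈ Subgroup.centralizer ((XX D l K (vec D l s) ⊔ XX D l K (vec D l (D.neg s)) : Subgroup _) : Set ↥(D.group K)) := by
    intro a ha
    refine (sup_le ?_ ?_ : _ ≤ Subgroup.centralizer _) ha
    · intro a ha
      rw [Subgroup.mem_centralizer_iff]
      intro b hb
      have hle : XX D l K (vec D l s) ⊔ XX D l K (vec D l (D.neg s)) ≤ Subgroup.centralizer ({a} : Set ↥(D.group K)) := by
        refine sup_le ?_ ?_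
        · intro b hb
          rw [Subgroup.mem_centralizer_singleton_iff]
          exact (key hr hs h1 h2 c1 a ha b hb).symm
        · intro b hb
          rw [Subgroup.mem_centralizer_singleton_iff]
          exact (key hr hns n1 n2 c3 a ha b hb).symm
      exact Subgroup.mem_centralizer_singleton_iff.1 (hle hb)
    · intro a ha
      rw [Subgroup.mem_centralizer_iff]
      intro b hb
      have hle : XX D l K (vec D l s) ⊔ XX D l K (vec D l (D.neg s)) ≤ Subgroup.centralizer ({a} : Set ↥(D.group K)) := by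
        refine sup_le ?_ ?_
        · intro b hb
          rw [Subgroup.mem_centralizer_singleton_iff]
          exact (key hnr hs h2 (by rw [hnn hr]; exact h1) c2 a ha b hb).symm
        · intro b hb
          rw [Subgroup.mem_centralizer_singleton_iff]
          exact (key hnr hns n2 (by rw [hnn hr]; exact n1) c4 a ha b hb).symm
      exact Subgroup.mem_centralizer_singleton_iff.1 (hle hb)
  exact (Subgroup.mem_centralizer_iff.1 (hX a ha) b hb).symm

/-- Orthogonal roots have commuting rank one groups. -/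
theorem lc_of_orth {x y : Fin l → ℤ} (h : Orth D l x y) : LC (XX D l K) x y := by
  obtain ⟨r, s, h1, rfl, rfl⟩ := h
  exact commute_of_orthB hp K h1

/-- the image of `SL(2,K)` -/
theorem range_phi (i : Fin l) : (OddHalf.LongSL.Chev.phi hp K i).range = LL (XX D l K) (sr i) := by
  have hr := simple_lt hp.inList (lt_rank hp i)
  apply le_antisymm
  · rw [MonoidHom.range_eq_map, Subgroup.map_le_iff_le_comap]
    intro g _
    refine (Subgroup.closure_le _).2 ?_ (SL2Hom.mem_closure_SL2 g)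
    rintro x (⟨t, rfl⟩ | ⟨t, rfl⟩)
    · refine Subgroup.mem_sup_left ?_
      rw [Subgroup.mem_subgroupOf, OddHalf.LongSL.Chev.phi_up, XV_sr hp i]
      exact xG_mem_rootSubgroup _ _ _
    · refine Subgroup.mem_sup_right ?_
      rw [Subgroup.mem_subgroupOf, OddHalf.LongSL.Chev.phi_lo, XV_neg_sr hp i]
      exact xG_mem_rootSubgroup _ _ _
  · refine sup_le ?_ ?_
    · intro u hu
      rw [Subgroup.mem_subgroupOf, XV_sr hp i, mem_rootSubgroup_iff hp.inList] at hu
      obtain ⟨t, ht⟩ := hu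
      exact ⟨SL2Hom.up t, Subtype.ext (by rw [OddHalf.LongSL.Chev.phi_up, ht])⟩
    · intro u hu
      rw [Subgroup.mem_subgroupOf, XV_neg_sr hp i, mem_rootSubgroup_iff hp.inList] at hu
      obtain ⟨t, ht⟩ := hu
      exact ⟨SL2Hom.lo t, Subtype.ext (by rw [OddHalf.LongSL.Chev.phi_lo, ht])⟩

theorem isSL [Fintype K] (hK : Odd (Fintype.card K)) (i : Fin l) : IsSL (LL (XX D l K) (sr i)) :=
  ⟨K, inferInstance, inferInstance, OddHalf.LongSL.Chev.phi hp K i, hK, fun _ hg =>
    OddHalf.LongSL.Chev.phi_eq_one _ (congrArg Subtype.val hg), range_phi hp K i⟩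

theorem torus_comm (s : ↥(D.group K)) (hs : s ∈ TG D K) (t : ↥(D.group K)) (ht : t ∈ TG D K) : s * t = t * s :=
  Subtype.ext (OddHalf.Small.ChevCent.diag_comm hp.inList (Subgroup.mem_subgroupOf.1 hs) (Subgroup.mem_subgroupOf.1 ht))

theorem neg_one_mem_T (i : Fin l) : OddHalf.LongSL.Chev.phi hp K i (-1) ∈ TG D K := by
  rw [Subgroup.mem_subgroupOf, OddHalf.LongSL.Chev.phi_neg_one]
  exact hG_mem_diagonal hp.inList (simple_lt hp.inList (lt_rank hp i)) (neg_ne_zero.2 one_ne_zero)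

theorem neg_one_conj (i : Fin l) {s : ℕ} (hs : s < D.nroots) (t : K) :
    (OddHalf.LongSL.Chev.phi hp K i (-1) : GL D.Idx K) * xG hp.inList s t *
      (OddHalf.LongSL.Chev.phi hp K i (-1) : GL D.Idx K)⁻¹ = xG hp.inList s ((-1) ^ (D.cartan i s) * t) := by
  rw [OddHalf.LongSL.Chev.phi_neg_one]
  exact OddHalf.LongSL.Chev.conj_hG hp K i hs (-1) (neg_ne_zero.2 one_ne_zero) t

/-- an odd Cartan integer -/
theorem link_odd (h2 : (2 : K) ≠ 0) {i j : Fin l} (hc : D.cartan i (D.simple j) % 2 = 1) :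
    Link (TG D K) (XX D l K) i j := by
  left
  have hj := simple_lt hp.inList (lt_rank hp j)
  have hx : xG hp.inList (D.simple j) (1 : K) ∈ D.group K := xG_mem_group hp.inList _ _
  refine ⟨OddHalf.LongSL.Chev.phi hp K i (-1), ?_, ?_, neg_one_mem_T hp K i, ⟨_, hx⟩, ?_, ?_⟩
  · rw [← range_phi hp K i]; exact ⟨_, rfl⟩
  · rw [← map_mul]; simp
  · refine Subgroup.mem_sup_left ?_
    rw [← vec_simple hp j]
    exact (mem_XX hp K hj).2 ⟨1, rfl⟩
  · intro h
    have h1 : (OddHalf.LongSL.Chev.phi hp K i (-1) : GL D.Idx K) * xG hp.inList (D.simple j) 1 =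
        xG hp.inList (D.simple j) 1 * (OddHalf.LongSL.Chev.phi hp K i (-1) : GL D.Idx K) := congrArg Subtype.val h
    have h3 := neg_one_conj hp K i hj (1 : K)
    rw [h1, mul_inv_cancel_right] at h3
    have h4 := xG_injective hp.inList hj h3
    have hodd : Odd (D.cartan i (D.simple j)) := Int.odd_iff.2 hc
    rw [hodd.neg_one_zpow] at h4
    apply h2
    linear_combination h4

omit hp in
/-- the standard element of order 4 -/
theorem sq_eq {F : Type*} [Field F] : SL2Hom.up (1 : F) * SL2Hom.lo (-1) * SL2Hom.up 1 *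
    (SL2Hom.up (1 : F) * SL2Hom.lo (-1) * SL2Hom.up 1) = -1 := by
  apply Subtype.ext
  show (!![1, 1; 0, 1] * !![1, 0; -1, 1] * !![1, 1; 0, 1] *
    (!![1, 1; 0, 1] * !![1, 0; -1, 1] * !![1, 1; 0, 1]) : Matrix (Fin 2) (Fin 2) F) = -1
  rw [Matrix.one_fin_two]
  ext i j
  fin_cases i <;> fin_cases j <;> simp

theorem phi_n (i : Fin l) :
    (OddHalf.LongSL.Chev.phi hp K i (SL2Hom.up 1 * SL2Hom.lo (-1) * SL2Hom.up 1) : GL D.Idx K) = nn hp K i := by
  rw [nn, nG_def, map_mul, map_mul, Subgroup.coe_mul, Subgroup.coe_mul, OddHalf.LongSL.Chev.phi_up,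
    OddHalf.LongSL.Chev.phi_lo, inv_one, mul_assoc]

/-- an even Cartan integer, with orthogonal roots `α_j`, `s_i α_j` -/
theorem link_even {i j : Fin l} (hc : D.cartan i (D.simple j) % 2 = 0) (hc' : D.cartan i (D.neg (D.simple j)) % 2 = 0)
    (ho : orthB D (D.reflectRoot i (D.simple j)) (D.simple j) = true) : Link (TG D K) (XX D l K) i j := by
  right
  have hj := simple_lt hp.inList (lt_rank hp j)
  have hnj := neg_lt hp.inList hj
  set g : Matrix.SpecialLinearGroup (Fin 2) K := SL2Hom.up 1 * SL2Hom.lo (-1) * SL2Hom.up 1 with hg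
  have hgg : g * g = -1 := sq_eq
  have hm : OddHalf.LongSL.Chev.phi hp K i g = ⟨nn hp K i, nn_mem_group hp i⟩ := Subtype.ext (phi_n hp K i)
  -- the square centralizes the rank one group
  have hz : ∀ x ∈ LL (XX D l K) (sr j), OddHalf.LongSL.Chev.phi hp K i (-1) * x *
      (OddHalf.LongSL.Chev.phi hp K i (-1))⁻¹ = x := by
    have key : ∀ {s : ℕ}, s < D.nroots → D.cartan i s % 2 = 0 → XX D l K (vec D l s) ≤
        Subgroup.centralizer ({OddHalf.LongSL.Chev.phi hp K i (-1)} : Set ↥(D.group K)) := by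
      intro s hs hcs u hu
      obtain ⟨t, ht⟩ := (mem_XX hp K hs).1 hu
      rw [Subgroup.mem_centralizer_singleton_iff]
      refine Subtype.ext ?_
      have h3 := neg_one_conj hp K i hs t
      rw [(Int.even_iff.2 hcs).neg_one_zpow, one_mul, ht] at h3
      exact (mul_inv_eq_iff_eq_mul.1 h3).symm
    intro x hx
    have hle : LL (XX D l K) (sr j) ≤
        Subgroup.centralizer ({OddHalf.LongSL.Chev.phi hp K i (-1)} : Set ↥(D.group K)) := by
      unfold LL
      rw [← vec_simple hp j, ← vec_neg hp hj]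
      exact sup_le (key hj hc) (key hnj hc')
    have h1 := Subgroup.mem_centralizer_singleton_iff.1 (hle hx)
    rw [← h1, mul_inv_cancel_right]
  refine ⟨OddHalf.LongSL.Chev.phi hp K i g, ?_, 2, ?_, ?_, ?_⟩
  · rw [← range_phi hp K i]; exact ⟨_, rfl⟩
  · have e4 : g ^ 2 ^ 2 = 1 := by
      rw [show (2 : ℕ) ^ 2 = 2 * 2 by norm_num, pow_mul, pow_two, pow_two, hgg]; simp
    rw [← map_pow, e4, map_one]
  · intro x hx
    have := hz x hx
    rw [← hgg, map_mul] at this
    rw [show OddHalf.LongSL.Chev.phi hp K i g * (OddHalf.LongSL.Chev.phi hp K i g * x *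
      (OddHalf.LongSL.Chev.phi hp K i g)⁻¹) * (OddHalf.LongSL.Chev.phi hp K i g)⁻¹ =
      OddHalf.LongSL.Chev.phi hp K i g * OddHalf.LongSL.Chev.phi hp K i g * x *
        (OddHalf.LongSL.Chev.phi hp K i g * OddHalf.LongSL.Chev.phi hp K i g)⁻¹ by group]
    exact this
  · intro x hx y hy
    have h1 : OddHalf.LongSL.Chev.phi hp K i g * x * (OddHalf.LongSL.Chev.phi hp K i g)⁻¹ ∈
        LL (XX D l K) (vec D l (D.reflectRoot i (D.simple j))) := by
      have hsub : ∀ {s : ℕ}, s < D.nroots → ∀ u ∈ XX D l K (vec D l s),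
          OddHalf.LongSL.Chev.phi hp K i g * u * (OddHalf.LongSL.Chev.phi hp K i g)⁻¹ ∈
            XX D l K (vec D l (D.reflectRoot i s)) := by
        intro s hs u hu
        rw [hm, Subgroup.mem_subgroupOf]
        change nn hp K i * (u : GL D.Idx K) * (nn hp K i)⁻¹ ∈ _
        rw [← cj_nn hp i hs]
        exact conj_mem_cj.2 (Subgroup.mem_subgroupOf.1 hu)
      have hneg : D.reflectRoot i (D.neg (D.simple j)) = D.neg (D.reflectRoot i (D.simple j)) := by
        have cs := M.toCoxeterSystem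
        refine vec_inj hp (reflectRoot_lt hp.inList (lt_rank hp i) hnj)
          (neg_lt hp.inList (reflectRoot_lt hp.inList (lt_rank hp i) hj)) ?_
        rw [← rep_vec hp cs i hnj, vec_neg hp hj, map_neg, rep_vec hp cs i hj,
          vec_neg hp (reflectRoot_lt hp.inList (lt_rank hp i) hj)]
      have hle : LL (XX D l K) (sr j) ≤ (LL (XX D l K) (vec D l (D.reflectRoot i (D.simple j)))).comap
          (MulAut.conj (OddHalf.LongSL.Chev.phi hp K i g)).toMonoidHom := by
        unfold LL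
        rw [← vec_simple hp j, ← vec_neg hp hj, ← vec_neg hp (reflectRoot_lt hp.inList (lt_rank hp i) hj), ← hneg]
        refine sup_le ?_ ?_
        · exact fun u hu => Subgroup.mem_sup_left (hsub hj u hu)
        · exact fun u hu => Subgroup.mem_sup_right (hsub hnj u hu)
      exact hle hx
    have hy' : y ∈ LL (XX D l K) (vec D l (D.simple j)) := by rw [vec_simple hp j]; exact hy
    exact commute_of_orthB hp K ho _ h1 _ hy'

/-- the order of a root group -/
theorem card_XX [Fintype K] {W : Type*} [Group W] (cs : CoxeterSystem M W) {x : Fin l → ℤ}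
    (hx : IsRoot cs hp.isCartan x) : Nat.card (XX D l K x) = Fintype.card K := by
  obtain ⟨r, hr, rfl⟩ := (isRoot_iff hp cs x).1 hx
  rw [← Nat.card_eq_fintype_card]
  refine (Nat.card_congr (Equiv.ofBijective (fun t : K => (⟨⟨xG hp.inList r t, xG_mem_group hp.inList r t⟩,
    (mem_XX hp K hr).2 ⟨t, rfl⟩⟩ : XX D l K (vec D l r))) ⟨?_, ?_⟩)).symm
  · intro s t h
    exact xG_injective hp.inList hr (congrArg (fun z : XX D l K (vec D l r) => ((z : ↥(D.group K)) : GL D.Idx K)) h)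
  · rintro ⟨u, hu⟩
    obtain ⟨t, ht⟩ := (mem_XX hp K hr).1 hu
    exact ⟨t, Subtype.ext (Subtype.ext ht)⟩

/-- **The Chevalley groups.** -/
theorem closedRow [Fintype K] (hK : Odd (Fintype.card K))
    (hcen : ∀ z : ↥(D.group K), (∀ y, z * y = y * z) → z = 1)
    {link : Fin l → Fin l → Prop} (hlink : ∀ i j, link i j → Link (TG D K) (XX D l K) i j)
    (hconn : ∀ i j, Relation.ReflTransGen link i j)
    {W : Type*} [Group W] (cs : CoxeterSystem M W) {O : (Fin l → ℤ) → (Fin l → ℤ) → Prop}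
    (hO : ∀ x y, O x y → Orth D l x y) {k s : ℕ} (hw : WFrame cs hp.isCartan O k (2 ^ s))
    (hord : ∀ m : ℕ, 2 ^ m ∣ Nat.card ↥(D.group K) →
      2 ^ m ∣ Nat.card ↥(D.diagonalSubgroup K) * 2 ^ s * (Fintype.card K + 1) ^ k) :
    ClosedTwo.ClosedRow ↥(D.group K) := by
  classical
  obtain ⟨p, hpc⟩ := CharP.exists K
  have hpp : p.Prime := (CharP.char_is_prime_or_zero K p).resolve_right (CharP.char_ne_zero_of_finite K p)
  have : Fact p.Prime := ⟨hpp⟩
  have hfin : Finite W := finite_W hp cs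
  obtain ⟨β, P, Γ, h1, h2, h3, h4, h5, h6, h7⟩ := hw
  have hT : Nat.card (TG D K) = Nat.card ↥(D.diagonalSubgroup K) :=
    Nat.card_congr (Subgroup.subgroupOfEquivOfLe (Cfsg.Agent.ChevalleyStructure.Elts.diagonal_le_group hp.inList K)).toEquiv
  refine Frame.closedRow (rgd (K := K) hp cs p) (β := β) (P := P) ⟨h1, fun a b hab => lc_of_orth hp K (hO _ _ (h2 a b hab)),
    h3, h4⟩ (G1_eq_top hp cs) hcen (fun s hs t ht => torus_comm hp K s hs t ht) (isSL hp K hK) hlink hconn
    (IsPGroup.of_card h5) (Γ := Γ) ?_ h6 ?_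
  · intro w hw
    obtain ⟨L, hL, hLo, e⟩ := h7 w hw
    exact ⟨L, hL, hLo.imp fun ho => lc_of_orth hp K (hO _ _ ho), e⟩
  · intro m hm
    have h8 := hord m hm
    have h9 : ∀ a, Nat.card (XX D l K (β a)) = Fintype.card K := fun a => card_XX hp K cs (h1 a)
    rw [hT, h5]
    simp only [h9, Finset.prod_const, Finset.card_univ, Fintype.card_fin]
    exact h8

end Cfsg.Agent.ClosedExc.Chev

end

-- merged: Cfsg.Agent.ClosedExc.Orders
section

/-!
# 2-adic valuations of `q ^ n - 1`, `q ^ n + 1`, `q` odd (helper50, S1252)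
-/

set_option autoImplicit false

namespace Cfsg.Agent.ClosedExc.Orders

variable {q : ℕ}

theorem v_even (hq : Odd q) (h3 : 3 ≤ q) {n : ℕ} (hn : n ≠ 0) (he : Even n) :
    padicValNat 2 (q ^ n - 1) + 1 = padicValNat 2 (q + 1) + padicValNat 2 (q - 1) + padicValNat 2 n := by
  have h1 : 2 ∣ q - 1 := by
    obtain ⟨k, rfl⟩ := hq
    exact ⟨k, by omega⟩
  have h2 : ¬ 2 ∣ q := by
    obtain ⟨k, rfl⟩ := hq
    omega
  have := padicValNat.pow_two_sub_pow (x := q) (y := 1) (by omega) h1 h2 hn he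
  rwa [one_pow] at this

theorem v_odd (hq : Odd q) (h3 : 3 ≤ q) {n : ℕ} (ho : Odd n) : padicValNat 2 (q ^ n - 1) = padicValNat 2 (q - 1) := by
  have h1 : q ^ n - 1 = (q - 1) * ∑ i ∈ Finset.range n, q ^ i := by
    have := Nat.geomSum_eq (m := q) (by omega) n
    have h4 : (q - 1) ∣ q ^ n - 1 := by
      have := Nat.sub_dvd_pow_sub_pow q 1 n
      rwa [one_pow] at this
    rw [this, Nat.mul_div_cancel' h4]
  have h2 : Odd (∑ i ∈ Finset.range n, q ^ i) := by
    rw [Finset.odd_sum_iff_odd_card_odd]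
    have : (Finset.range n).filter (fun i => Odd (q ^ i)) = Finset.range n := by
      rw [Finset.filter_true_of_mem]
      intro i _
      exact hq.pow
    rw [this, Finset.card_range]
    exact ho
  rw [h1, padicValNat.mul (by omega) (by
    intro h; rw [h] at h2; exact absurd h2 (by decide)), padicValNat.eq_zero_of_not_dvd (n := ∑ i ∈ Finset.range n, q ^ i), add_zero]
  exact fun h => (Nat.not_even_iff_odd.2 h2) (even_iff_two_dvd.2 h)

theorem v_odd_add (hq : Odd q) (h3 : 3 ≤ q) {n : ℕ} (ho : Odd n) : padicValNat 2 (q ^ n + 1) = padicValNat 2 (q + 1) := by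
  -- `(q^n - 1)(q^n + 1) = q^(2n) - 1`
  have h0 : n ≠ 0 := by rintro rfl; exact absurd ho (by decide)
  have h1 := v_even hq h3 (n := 2 * n) (by omega) ⟨n, by ring⟩
  have hpow : 1 < q ^ n := Nat.one_lt_pow h0 (by omega)
  have h2 : q ^ (2 * n) - 1 = (q ^ n - 1) * (q ^ n + 1) := by
    have : q ^ (2 * n) = q ^ n * q ^ n := by rw [two_mul, pow_add]
    rw [this]
    obtain ⟨m, hm⟩ : ∃ m, q ^ n = m + 1 := ⟨q ^ n - 1, by omega⟩
    rw [hm]
    have : (m + 1) * (m + 1) - 1 = m * (m + 1 + 1) := by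
      have : (m + 1) * (m + 1) = m * (m + 1 + 1) + 1 := by ring
      rw [this, Nat.add_sub_cancel]
    rw [this, Nat.add_sub_cancel]
  rw [h2, padicValNat.mul (by omega) (by omega), v_odd hq h3 ho, padicValNat.mul (by norm_num) h0,
    padicValNat.eq_zero_of_not_dvd (n := n) (fun h => (Nat.not_even_iff_odd.2 ho) (even_iff_two_dvd.2 h))] at h1
  have h4 : padicValNat 2 2 = 1 := padicValNat.self (by norm_num)
  rw [h4] at h1
  omega

theorem v2 : padicValNat 2 2 = 1 := padicValNat.self (by norm_num)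
theorem v4 : padicValNat 2 4 = 2 := by rw [show 4 = 2 ^ 2 by norm_num, padicValNat.prime_pow]
theorem v8 : padicValNat 2 8 = 3 := by rw [show 8 = 2 ^ 3 by norm_num, padicValNat.prime_pow]

theorem v_mul_odd (k : ℕ) {m : ℕ} (hm : Odd m) : padicValNat 2 (2 ^ k * m) = k := by
  have h0 : m ≠ 0 := by rintro rfl; exact absurd hm (by decide)
  rw [padicValNat.mul (by positivity) h0, padicValNat.prime_pow,
    padicValNat.eq_zero_of_not_dvd (fun h => (Nat.not_even_iff_odd.2 hm) (even_iff_two_dvd.2 h)), add_zero]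

theorem v6 : padicValNat 2 6 = 1 := v_mul_odd 1 (m := 3) (by decide)
theorem v10 : padicValNat 2 10 = 1 := v_mul_odd 1 (m := 5) (by decide)
theorem v12 : padicValNat 2 12 = 2 := v_mul_odd 2 (m := 3) (by decide)
theorem v14 : padicValNat 2 14 = 1 := v_mul_odd 1 (m := 7) (by decide)
theorem v18 : padicValNat 2 18 = 1 := v_mul_odd 1 (m := 9) (by decide)
theorem v20 : padicValNat 2 20 = 2 := v_mul_odd 2 (m := 5) (by decide)
theorem v24 : padicValNat 2 24 = 3 := v_mul_odd 3 (m := 3) (by decide)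
theorem v30 : padicValNat 2 30 = 1 := v_mul_odd 1 (m := 15) (by decide)

theorem v_q (hq : Odd q) (n : ℕ) : padicValNat 2 (q ^ n) = 0 :=
  padicValNat.eq_zero_of_not_dvd fun h => (Nat.not_even_iff_odd.2 (hq.pow (n := n))) (even_iff_two_dvd.2 h)

theorem pow_sub_ne (h3 : 3 ≤ q) {n : ℕ} (hn : n ≠ 0) : q ^ n - 1 ≠ 0 := by
  have : 1 < q ^ n := Nat.one_lt_pow hn (by omega)
  omega

/-- divisibility from valuations -/
theorem dvd_of_v {a b : ℕ} (ha : a ≠ 0) (hb : b ≠ 0) (h : padicValNat 2 a ≤ padicValNat 2 b) (m : ℕ)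
    (hm : 2 ^ m ∣ a) : 2 ^ m ∣ b := by
  rw [padicValNat_dvd_iff_le ha] at hm
  rw [padicValNat_dvd_iff_le hb]
  omega

theorem ord_E8 (hq : Odd q) (h3 : 3 ≤ q) {N T : ℕ} (hN : N = q ^ 120 * (q ^ 2 - 1) * (q ^ 8 - 1) * (q ^ 12 - 1) * (q ^ 14 - 1) * (q ^ 18 - 1) * (q ^ 20 - 1) * (q ^ 24 - 1) * (q ^ 30 - 1))
    (hT : T = (q - 1) ^ 8) (m : ℕ) (hm : 2 ^ m ∣ N) :
    2 ^ m ∣ T * 2 ^ 6 * (q + 1) ^ 8 := by
  have n0 : q ^ 120 ≠ 0 := by positivity
  have n2 := pow_sub_ne h3 (n := 2) (by norm_num)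
  have e2 := v_even hq h3 (n := 2) (by norm_num) (by decide)
  rw [v2] at e2
  have n8 := pow_sub_ne h3 (n := 8) (by norm_num)
  have e8 := v_even hq h3 (n := 8) (by norm_num) (by decide)
  rw [v8] at e8
  have n12 := pow_sub_ne h3 (n := 12) (by norm_num)
  have e12 := v_even hq h3 (n := 12) (by norm_num) (by decide)
  rw [v12] at e12
  have n14 := pow_sub_ne h3 (n := 14) (by norm_num)
  have e14 := v_even hq h3 (n := 14) (by norm_num) (by decide)
  rw [v14] at e14
  have n18 := pow_sub_ne h3 (n := 18) (by norm_num)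
  have e18 := v_even hq h3 (n := 18) (by norm_num) (by decide)
  rw [v18] at e18
  have n20 := pow_sub_ne h3 (n := 20) (by norm_num)
  have e20 := v_even hq h3 (n := 20) (by norm_num) (by decide)
  rw [v20] at e20
  have n24 := pow_sub_ne h3 (n := 24) (by norm_num)
  have e24 := v_even hq h3 (n := 24) (by norm_num) (by decide)
  rw [v24] at e24
  have n30 := pow_sub_ne h3 (n := 30) (by norm_num)
  have e30 := v_even hq h3 (n := 30) (by norm_num) (by decide)
  rw [v30] at e30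
  have hq1 : q - 1 ≠ 0 := by omega
  have hq2 : q + 1 ≠ 0 := by omega
  subst hN hT
  refine dvd_of_v (by positivity) (by positivity) ?_ m hm
  rw [padicValNat.mul (by positivity) n30, padicValNat.mul (by positivity) n24, padicValNat.mul (by positivity) n20, padicValNat.mul (by positivity) n18, padicValNat.mul (by positivity) n14, padicValNat.mul (by positivity) n12, padicValNat.mul (by positivity) n8, padicValNat.mul (by positivity) n2, v_q hq,
    padicValNat.mul (by positivity) (by positivity), padicValNat.mul (by positivity) (by positivity),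
    padicValNat.pow, padicValNat.pow, padicValNat.pow, v2]
  omega

theorem ord_E7 (hq : Odd q) (h3 : 3 ≤ q) {c : ℕ} (hc : c ≠ 0) {N T : ℕ} (hN : c * N = q ^ 63 * (q ^ 2 - 1) * (q ^ 6 - 1) * (q ^ 8 - 1) * (q ^ 10 - 1) * (q ^ 12 - 1) * (q ^ 14 - 1) * (q ^ 18 - 1))
    (hT : c * T = (q - 1) ^ 7) (m : ℕ) (hm : 2 ^ m ∣ N) :
    2 ^ m ∣ T * 2 ^ 3 * (q + 1) ^ 7 := by
  have n0 : q ^ 63 ≠ 0 := by positivity
  have n2 := pow_sub_ne h3 (n := 2) (by norm_num)
  have e2 := v_even hq h3 (n := 2) (by norm_num) (by decide)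
  rw [v2] at e2
  have n6 := pow_sub_ne h3 (n := 6) (by norm_num)
  have e6 := v_even hq h3 (n := 6) (by norm_num) (by decide)
  rw [v6] at e6
  have n8 := pow_sub_ne h3 (n := 8) (by norm_num)
  have e8 := v_even hq h3 (n := 8) (by norm_num) (by decide)
  rw [v8] at e8
  have n10 := pow_sub_ne h3 (n := 10) (by norm_num)
  have e10 := v_even hq h3 (n := 10) (by norm_num) (by decide)
  rw [v10] at e10
  have n12 := pow_sub_ne h3 (n := 12) (by norm_num)
  have e12 := v_even hq h3 (n := 12) (by norm_num) (by decide)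
  rw [v12] at e12
  have n14 := pow_sub_ne h3 (n := 14) (by norm_num)
  have e14 := v_even hq h3 (n := 14) (by norm_num) (by decide)
  rw [v14] at e14
  have n18 := pow_sub_ne h3 (n := 18) (by norm_num)
  have e18 := v_even hq h3 (n := 18) (by norm_num) (by decide)
  rw [v18] at e18
  have hq1 : q - 1 ≠ 0 := by omega
  have hq2 : q + 1 ≠ 0 := by omega
  have hN0 : N ≠ 0 := by
    rintro rfl
    rw [mul_zero] at hN
    exact absurd hN.symm (by positivity)
  have hT0 : T ≠ 0 := by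
    rintro rfl
    rw [mul_zero] at hT
    exact absurd hT.symm (by positivity)
  have hN' := congrArg (padicValNat 2) hN
  have hT' := congrArg (padicValNat 2) hT
  rw [padicValNat.mul hc hN0, padicValNat.mul (by positivity) n18, padicValNat.mul (by positivity) n14, padicValNat.mul (by positivity) n12, padicValNat.mul (by positivity) n10, padicValNat.mul (by positivity) n8, padicValNat.mul (by positivity) n6, padicValNat.mul (by positivity) n2, v_q hq] at hN'
  rw [padicValNat.mul hc hT0, padicValNat.pow] at hT'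
  refine dvd_of_v hN0 (by positivity) ?_ m hm
  rw [padicValNat.mul (by positivity) (by positivity), padicValNat.mul hT0 (by positivity),
    padicValNat.pow, padicValNat.pow, v2]
  omega

theorem ord_E6 (hq : Odd q) (h3 : 3 ≤ q) {c : ℕ} (hc : c ≠ 0) {N T : ℕ} (hN : c * N = q ^ 36 * (q ^ 2 - 1) * (q ^ 5 - 1) * (q ^ 6 - 1) * (q ^ 8 - 1) * (q ^ 9 - 1) * (q ^ 12 - 1))
    (hT : c * T = (q - 1) ^ 6) (m : ℕ) (hm : 2 ^ m ∣ N) :
    2 ^ m ∣ T * 2 ^ 3 * (q + 1) ^ 4 := by
  have n0 : q ^ 36 ≠ 0 := by positivity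
  have n2 := pow_sub_ne h3 (n := 2) (by norm_num)
  have e2 := v_even hq h3 (n := 2) (by norm_num) (by decide)
  rw [v2] at e2
  have n5 := pow_sub_ne h3 (n := 5) (by norm_num)
  have e5 := v_odd hq h3 (n := 5) (by decide)
  have n6 := pow_sub_ne h3 (n := 6) (by norm_num)
  have e6 := v_even hq h3 (n := 6) (by norm_num) (by decide)
  rw [v6] at e6
  have n8 := pow_sub_ne h3 (n := 8) (by norm_num)
  have e8 := v_even hq h3 (n := 8) (by norm_num) (by decide)
  rw [v8] at e8
  have n9 := pow_sub_ne h3 (n := 9) (by norm_num)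
  have e9 := v_odd hq h3 (n := 9) (by decide)
  have n12 := pow_sub_ne h3 (n := 12) (by norm_num)
  have e12 := v_even hq h3 (n := 12) (by norm_num) (by decide)
  rw [v12] at e12
  have hq1 : q - 1 ≠ 0 := by omega
  have hq2 : q + 1 ≠ 0 := by omega
  have hN0 : N ≠ 0 := by
    rintro rfl
    rw [mul_zero] at hN
    exact absurd hN.symm (by positivity)
  have hT0 : T ≠ 0 := by
    rintro rfl
    rw [mul_zero] at hT
    exact absurd hT.symm (by positivity)
  have hN' := congrArg (padicValNat 2) hN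
  have hT' := congrArg (padicValNat 2) hT
  rw [padicValNat.mul hc hN0, padicValNat.mul (by positivity) n12, padicValNat.mul (by positivity) n9, padicValNat.mul (by positivity) n8, padicValNat.mul (by positivity) n6, padicValNat.mul (by positivity) n5, padicValNat.mul (by positivity) n2, v_q hq] at hN'
  rw [padicValNat.mul hc hT0, padicValNat.pow] at hT'
  refine dvd_of_v hN0 (by positivity) ?_ m hm
  rw [padicValNat.mul (by positivity) (by positivity), padicValNat.mul hT0 (by positivity),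
    padicValNat.pow, padicValNat.pow, v2]
  omega

theorem ord_F4 (hq : Odd q) (h3 : 3 ≤ q) {N T : ℕ} (hN : N = q ^ 24 * (q ^ 2 - 1) * (q ^ 6 - 1) * (q ^ 8 - 1) * (q ^ 12 - 1))
    (hT : T = (q - 1) ^ 4) (m : ℕ) (hm : 2 ^ m ∣ N) :
    2 ^ m ∣ T * 2 ^ 3 * (q + 1) ^ 4 := by
  have n0 : q ^ 24 ≠ 0 := by positivity
  have n2 := pow_sub_ne h3 (n := 2) (by norm_num)
  have e2 := v_even hq h3 (n := 2) (by norm_num) (by decide)
  rw [v2] at e2
  have n6 := pow_sub_ne h3 (n := 6) (by norm_num)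
  have e6 := v_even hq h3 (n := 6) (by norm_num) (by decide)
  rw [v6] at e6
  have n8 := pow_sub_ne h3 (n := 8) (by norm_num)
  have e8 := v_even hq h3 (n := 8) (by norm_num) (by decide)
  rw [v8] at e8
  have n12 := pow_sub_ne h3 (n := 12) (by norm_num)
  have e12 := v_even hq h3 (n := 12) (by norm_num) (by decide)
  rw [v12] at e12
  have hq1 : q - 1 ≠ 0 := by omega
  have hq2 : q + 1 ≠ 0 := by omega
  subst hN hT
  refine dvd_of_v (by positivity) (by positivity) ?_ m hm
  rw [padicValNat.mul (by positivity) n12, padicValNat.mul (by positivity) n8, padicValNat.mul (by positivity) n6, padicValNat.mul (by positivity) n2, v_q hq,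
    padicValNat.mul (by positivity) (by positivity), padicValNat.mul (by positivity) (by positivity),
    padicValNat.pow, padicValNat.pow, padicValNat.pow, v2]
  omega

theorem ord_G2 (hq : Odd q) (h3 : 3 ≤ q) {N T : ℕ} (hN : N = q ^ 6 * (q ^ 2 - 1) * (q ^ 6 - 1))
    (hT : T = (q - 1) ^ 2) (m : ℕ) (hm : 2 ^ m ∣ N) :
    2 ^ m ∣ T * 2 ^ 0 * (q + 1) ^ 2 := by
  have n0 : q ^ 6 ≠ 0 := by positivity
  have n2 := pow_sub_ne h3 (n := 2) (by norm_num)
  have e2 := v_even hq h3 (n := 2) (by norm_num) (by decide)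
  rw [v2] at e2
  have n6 := pow_sub_ne h3 (n := 6) (by norm_num)
  have e6 := v_even hq h3 (n := 6) (by norm_num) (by decide)
  rw [v6] at e6
  have hq1 : q - 1 ≠ 0 := by omega
  have hq2 : q + 1 ≠ 0 := by omega
  subst hN hT
  refine dvd_of_v (by positivity) (by positivity) ?_ m hm
  rw [padicValNat.mul (by positivity) n6, padicValNat.mul (by positivity) n2, v_q hq,
    padicValNat.mul (by positivity) (by positivity), padicValNat.mul (by positivity) (by positivity),
    padicValNat.pow, padicValNat.pow, padicValNat.pow, v2]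
  omega

theorem ord_TwE6 (hq : Odd q) (h3 : 3 ≤ q) {c : ℕ} (hc : c ≠ 0) {N T : ℕ} (hN : c * N = q ^ 36 * (q ^ 2 - 1) * (q ^ 5 + 1) * (q ^ 6 - 1) * (q ^ 8 - 1) * (q ^ 9 + 1) * (q ^ 12 - 1))
    (hT : c * T = (q - 1) ^ 4 * (q + 1) ^ 2) (m : ℕ) (hm : 2 ^ m ∣ N) :
    2 ^ m ∣ T * 2 ^ 3 * (q + 1) ^ 4 := by
  have n0 : q ^ 36 ≠ 0 := by positivity
  have n2 := pow_sub_ne h3 (n := 2) (by norm_num)
  have e2 := v_even hq h3 (n := 2) (by norm_num) (by decide)
  rw [v2] at e2
  have n5 : q ^ 5 + 1 ≠ 0 := by positivity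
  have e5 := v_odd_add hq h3 (n := 5) (by decide)
  have n6 := pow_sub_ne h3 (n := 6) (by norm_num)
  have e6 := v_even hq h3 (n := 6) (by norm_num) (by decide)
  rw [v6] at e6
  have n8 := pow_sub_ne h3 (n := 8) (by norm_num)
  have e8 := v_even hq h3 (n := 8) (by norm_num) (by decide)
  rw [v8] at e8
  have n9 : q ^ 9 + 1 ≠ 0 := by positivity
  have e9 := v_odd_add hq h3 (n := 9) (by decide)
  have n12 := pow_sub_ne h3 (n := 12) (by norm_num)
  have e12 := v_even hq h3 (n := 12) (by norm_num) (by decide)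
  rw [v12] at e12
  have hq1 : q - 1 ≠ 0 := by omega
  have hq2 : q + 1 ≠ 0 := by omega
  have hN0 : N ≠ 0 := by
    rintro rfl
    rw [mul_zero] at hN
    exact absurd hN.symm (by positivity)
  have hT0 : T ≠ 0 := by
    rintro rfl
    rw [mul_zero] at hT
    exact absurd hT.symm (by positivity)
  have hN' := congrArg (padicValNat 2) hN
  have hT' := congrArg (padicValNat 2) hT
  rw [padicValNat.mul hc hN0, padicValNat.mul (by positivity) n12, padicValNat.mul (by positivity) n9, padicValNat.mul (by positivity) n8, padicValNat.mul (by positivity) n6, padicValNat.mul (by positivity) n5, padicValNat.mul (by positivity) n2, v_q hq] at hN'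
  rw [padicValNat.mul hc hT0, padicValNat.mul (by positivity) (by positivity), padicValNat.pow, padicValNat.pow] at hT'
  refine dvd_of_v hN0 (by positivity) ?_ m hm
  rw [padicValNat.mul (by positivity) (by positivity), padicValNat.mul hT0 (by positivity),
    padicValNat.pow, padicValNat.pow, v2]
  omega

end Cfsg.Agent.ClosedExc.Orders

end

-- merged: Cfsg.Agent.ClosedExc.Families
section

/-!
# Strongly closed 2-subgroups of the exceptional Chevalley groups in odd characteristic (helper50, S1252)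

The rows of `G₂(q)`, `F₄(q)`, `E₆(q)`, `E₇(q)`, `E₈(q)`, `q` odd, from frames in the Weyl groups.
-/

set_option autoImplicit false
set_option linter.unusedSectionVars false

namespace Cfsg.Agent.ClosedExc.Families

open CoxeterSystem Cfsg Cfsg.Lie Cfsg.Agent.ChevalleyStructure Cfsg.Agent.ChevalleyStructure.CoxeterGeom
  Cfsg.Agent.Tits.Roots Cfsg.Agent.Nodes.RGDChev Cfsg.Agent.ClosedExc.Frame Cfsg.Agent.ClosedExc.Chev
open Cfsg.Agent.ClosedTwo (ClosedRow)

/-- trees are connected -/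
theorem conn_of_par {I : Type*} {link : I → I → Prop} (c : I) (par : I → I) (m : ℕ)
    (h : ∀ i, i = c ∨ (link i (par i) ∧ link (par i) i)) (hm : ∀ i, par^[m] i = c) (i j : I) :
    Relation.ReflTransGen link i j := by
  classical
  have h1 : ∀ n i, Relation.ReflTransGen link i (par^[n] i) ∨ ∃ k, Relation.ReflTransGen link i (par^[k] i) ∧
      par^[k] i = c := by
    intro n
    induction n with
    | zero => exact fun i => Or.inl .refl
    | succ n ih =>
      intro i
      rcases ih i with h2 | h2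
      · rcases h (par^[n] i) with h3 | h3
        · exact Or.inr ⟨n, h2, h3⟩
        · left
          rw [Function.iterate_succ_apply']
          exact h2.tail h3.1
      · exact Or.inr h2
  have h2 : ∀ n i, Relation.ReflTransGen link (par^[n] i) i ∨ ∃ k, Relation.ReflTransGen link (par^[k] i) i ∧
      par^[k] i = c := by
    intro n
    induction n with
    | zero => exact fun i => Or.inl .refl
    | succ n ih =>
      intro i
      rcases ih i with h2 | h2
      · rcases h (par^[n] i) with h3 | h3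
        · exact Or.inr ⟨n, h2, h3⟩
        · left
          rw [Function.iterate_succ_apply']
          exact Relation.ReflTransGen.head h3.2 h2
      · exact Or.inr h2
  have h3 : Relation.ReflTransGen link i c := by
    rcases h1 m i with h3 | ⟨k, h3, h4⟩
    · rwa [hm] at h3
    · rwa [h4] at h3
  have h4 : Relation.ReflTransGen link c j := by
    rcases h2 m j with h4 | ⟨k, h4, h5⟩
    · rwa [hm] at h4
    · rwa [h5] at h4
  exact h3.trans h4

theorem isType_G2 : IsType chevG2 2 CoxeterMatrix.G₂ := by simp [IsType, typeList]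
theorem isType_F4 : IsType chevF4 4 CoxeterMatrix.F₄ := by simp [IsType, typeList]
theorem isType_E6 : IsType chevE6 6 CoxeterMatrix.E₆ := by simp [IsType, typeList]
theorem isType_E7 : IsType chevE7 7 CoxeterMatrix.E₇ := by simp [IsType, typeList]
theorem isType_E8 : IsType chevE8 8 CoxeterMatrix.E₈ := by simp [IsType, typeList]

/-- the link relation -/
def lk (D : ChevalleyDatum) (l : ℕ) (i j : Fin l) : Prop := D.cartan i (D.simple j) % 2 = 1

instance (D : ChevalleyDatum) (l : ℕ) (i j : Fin l) : Decidable (lk D l i j) := by unfold lk; infer_instance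

theorem three_le {K : Type} [Field K] [Fintype K] (hK : Odd (Fintype.card K)) : 3 ≤ Fintype.card K := by
  have h1 : 1 < Fintype.card K := Fintype.one_lt_card
  obtain ⟨k, hk⟩ := hK
  omega

theorem connE6 : ∀ i j, Relation.ReflTransGen (lk chevE6 6) i j :=
  conn_of_par 3 ![2, 3, 3, 3, 3, 4] 3 (by decide +kernel) (by decide +kernel)

theorem connE7 : ∀ i j, Relation.ReflTransGen (lk chevE7 7) i j :=
  conn_of_par 3 ![2, 3, 3, 3, 3, 4, 5] 3 (by decide +kernel) (by decide +kernel)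

theorem connE8 : ∀ i j, Relation.ReflTransGen (lk chevE8 8) i j :=
  conn_of_par 3 ![2, 3, 3, 3, 3, 4, 5, 6] 4 (by decide +kernel) (by decide +kernel)

theorem connG2 : ∀ i j, Relation.ReflTransGen (lk chevG2 2) i j :=
  conn_of_par 0 ![0, 0] 1 (by decide +kernel) (by decide +kernel)

theorem connF4 : ∀ i j, Relation.ReflTransGen (fun i j => lk chevF4 4 i j ∨ (i = 1 ∧ j = 2)) i j :=
  conn_of_par 0 ![0, 0, 1, 2] 3 (by decide +kernel) (by decide +kernel)

variable (K : Type) [Field K] [Fintype K] (hK : Odd (Fintype.card K))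

include hK

theorem two_ne : (2 : K) ≠ 0 := SL.two_ne hK

theorem row_E6 (hcen : ∀ z : ↥(chevE6.group K), (∀ y, z * y = y * z) → z = 1) {W : Type*} [Group W]
    (cs : CoxeterSystem CoxeterMatrix.E₆ W) (hw : WFrame cs isType_E6.isCartan (Orth chevE6 6) 4 8) :
    ClosedRow ↥(chevE6.group K) := by
  refine Chev.closedRow isType_E6 K hK hcen (fun i j h => link_odd isType_E6 K (two_ne K hK) h) connE6 cs
    (fun _ _ h => h) (s := 3) hw ?_
  exact Orders.ord_E6 hK (three_le hK) (Nat.gcd_pos_of_pos_left _ (by norm_num)).ne' (S1063.result (F := K) rfl)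
    (S1035.result (F := K) rfl (chevE6, Nat.gcd 3 (Fintype.card K - 1)) (by simp))

theorem row_E7 (hcen : ∀ z : ↥(chevE7.group K), (∀ y, z * y = y * z) → z = 1) {W : Type*} [Group W]
    (cs : CoxeterSystem CoxeterMatrix.E₇ W) (hw : WFrame cs isType_E7.isCartan (Orth chevE7 7) 7 8) :
    ClosedRow ↥(chevE7.group K) := by
  refine Chev.closedRow isType_E7 K hK hcen (fun i j h => link_odd isType_E7 K (two_ne K hK) h) connE7 cs
    (fun _ _ h => h) (s := 3) hw ?_
  exact Orders.ord_E7 hK (three_le hK) (Nat.gcd_pos_of_pos_left _ (by norm_num)).ne' (S1064.result (F := K) rfl)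
    (S1035.result (F := K) rfl (chevE7, Nat.gcd 2 (Fintype.card K - 1)) (by simp))

theorem row_E8 (hcen : ∀ z : ↥(chevE8.group K), (∀ y, z * y = y * z) → z = 1) {W : Type*} [Group W]
    (cs : CoxeterSystem CoxeterMatrix.E₈ W) (hw : WFrame cs isType_E8.isCartan (Orth chevE8 8) 8 64) :
    ClosedRow ↥(chevE8.group K) := by
  have hT := S1035.result (F := K) rfl (chevE8, 1) (by simp)
  rw [one_mul] at hT
  refine Chev.closedRow isType_E8 K hK hcen (fun i j h => link_odd isType_E8 K (two_ne K hK) h) connE8 cs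
    (fun _ _ h => h) (s := 6) hw ?_
  exact Orders.ord_E8 hK (three_le hK) (S1065.result (F := K) rfl) hT

theorem row_F4 (hcen : ∀ z : ↥(chevF4.group K), (∀ y, z * y = y * z) → z = 1) {W : Type*} [Group W]
    (cs : CoxeterSystem CoxeterMatrix.F₄ W) {O : (Fin 4 → ℤ) → (Fin 4 → ℤ) → Prop}
    (hO : ∀ x y, O x y → Orth chevF4 4 x y) (hw : WFrame cs isType_F4.isCartan O 4 8) :
    ClosedRow ↥(chevF4.group K) := by
  have hT := S1035.result (F := K) rfl (chevF4, 1) (by simp)
  rw [one_mul] at hT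
  refine Chev.closedRow isType_F4 K hK hcen (link := fun i j => lk chevF4 4 i j ∨ (i = 1 ∧ j = 2)) ?_ connF4 cs
    hO (s := 3) hw ?_
  · rintro i j (h | ⟨rfl, rfl⟩)
    · exact link_odd isType_F4 K (two_ne K hK) h
    · exact link_even isType_F4 K (by decide +kernel) (by decide +kernel) (by decide +kernel)
  · exact Orders.ord_F4 hK (three_le hK) (S1062.result (F := K) rfl) hT

omit hK in
theorem wframe_G2 {W : Type*} [Group W] (cs : CoxeterSystem CoxeterMatrix.G₂ W) :
    WFrame cs isType_G2.isCartan (Orth chevG2 2) 2 1 := by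
  refine ⟨![vec chevG2 2 7, vec chevG2 2 11], ⊥, ∅, ?_, ?_, ?_, ?_, ?_, ?_, ?_⟩
  · intro a
    fin_cases a
    · exact isRoot_vec isType_G2 cs (by decide +kernel)
    · exact isRoot_vec isType_G2 cs (by decide +kernel)
  · intro a b hab
    fin_cases a <;> fin_cases b
    · exact absurd rfl hab
    · exact ⟨7, 11, by decide +kernel, rfl, rfl⟩
    · exact ⟨11, 7, by decide +kernel, rfl, rfl⟩
    · exact absurd rfl hab
  · intro w hw a
    rw [Subgroup.mem_bot] at hw
    exact ⟨a, Or.inl (by rw [hw, map_one, Module.End.one_apply])⟩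
  · intro w hw _
    exact Subgroup.mem_bot.1 hw
  · exact Subgroup.card_bot
  · rw [Subgroup.closure_empty]
  · intro w hw
    exact absurd hw (Set.notMem_empty w)

theorem row_G2 (hcen : ∀ z : ↥(chevG2.group K), (∀ y, z * y = y * z) → z = 1) : ClosedRow ↥(chevG2.group K) := by
  have hT := S1035.result (F := K) rfl (chevG2, 1) (by simp)
  rw [one_mul] at hT
  refine Chev.closedRow isType_G2 K hK hcen (fun i j h => link_odd isType_G2 K (two_ne K hK) h) connG2
    CoxeterMatrix.G₂.toCoxeterSystem (fun _ _ h => h) (s := 0) (wframe_G2 _) ?_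
  exact Orders.ord_G2 hK (three_le hK) (S1059.result (F := K) rfl) hT

end Cfsg.Agent.ClosedExc.Families

end

-- merged: Cfsg.Agent.ClosedExc.TwD4
section

/-!
# Strongly closed 2-subgroups of `³D₄(q)`, `q` odd (helper50, S1252)

`Frame.closedRow` for the root group datum of type `G₂` of `³D₄(q)`: frame = a long root and an orthogonal short root,
with rank one groups `SL₂(q)`, `SL₂(q³)`.
-/

set_option autoImplicit false
set_option linter.unusedSectionVars false
set_option maxHeartbeats 400000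

namespace Cfsg.Agent.ClosedExc.TwD4

open CoxeterSystem Cfsg.Agent.ChevalleyStructure.CoxeterGeom Cfsg.Agent.Tits.Roots
  Cfsg.Agent.Nodes.Reps Cfsg.Agent.Nodes.BNOf Cfsg.Agent.Nodes.FreeTorus Cfsg.Agent.Nodes.Bruhat
open Cfsg.Lie Cfsg.Agent.ChevalleyStructure Cfsg.Agent.ChevalleyStructure.Elts
  Cfsg.Agent.ChevalleyStructure.TwistedU Cfsg.Agent.ChevalleyStructure.NPerm
open Cfsg.Agent.Nodes.RGDFold Cfsg.Agent.Nodes.RGDTwD4
open Cfsg.Agent.ClosedExc.Frame Cfsg.Agent.ClosedExc.FoldInst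
open Cfsg.Agent.ChevalleyStructure.D4Fixed (sig)
open Cfsg.Agent.OddHalf.LongSL.Fold (FF goodS mem_FF psi0 psi0_up psi0_lo)
open Cfsg.Agent.ClosedTwo (ClosedRow)

theorem simples : chevD4.simple 0 = 18 ∧ chevD4.simple 1 = 14 ∧ chevD4.simple 2 = 13 ∧ chevD4.simple 3 = 12 := by
  decide +kernel

theorem negs : chevD4.neg 18 = 5 ∧ chevD4.neg 14 = 9 ∧ chevD4.neg 13 = 10 ∧ chevD4.neg 12 = 11 := by
  decide +kernel

theorem orths : orthB chevD4 18 13 = true ∧ orthB chevD4 18 12 = true ∧ orthB chevD4 13 12 = true := by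
  decide +kernel

theorem cartans : chevD4.cartan 1 18 = -1 ∧ chevD4.cartan 1 13 = -1 ∧ chevD4.cartan 1 12 = -1 ∧
    chevD4.cartan 0 14 = -1 ∧ chevD4.cartan 2 14 = -1 ∧ chevD4.cartan 3 14 = -1 := by
  decide +kernel

theorem fibres : ∀ k < chevD4.nroots, V chevD4 J k = sr 0 → ∀ k' < chevD4.nroots, V chevD4 J k' = ![1, 2] →
    orthB chevD4 k k' = true := by decide +kernel

section

variable {F : Type*} [Field F] {G : Type*} [Group G]

/-- commuting homomorphisms -/
theorem commute_hom {F' : Type*} [Field F'] (f : Matrix.SpecialLinearGroup (Fin 2) F →* G)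
    (f' : Matrix.SpecialLinearGroup (Fin 2) F' →* G)
    (h1 : ∀ t u, Commute (f (SL2Hom.up t)) (f' (SL2Hom.up u))) (h2 : ∀ t u, Commute (f (SL2Hom.up t)) (f' (SL2Hom.lo u)))
    (h3 : ∀ t u, Commute (f (SL2Hom.lo t)) (f' (SL2Hom.up u))) (h4 : ∀ t u, Commute (f (SL2Hom.lo t)) (f' (SL2Hom.lo u)))
    (g : Matrix.SpecialLinearGroup (Fin 2) F) (g' : Matrix.SpecialLinearGroup (Fin 2) F') : Commute (f g) (f' g') := by
  have key : ∀ x : G, (∀ u, Commute x (f' (SL2Hom.up u))) → (∀ u, Commute x (f' (SL2Hom.lo u))) → ∀ g',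
      Commute x (f' g') := by
    intro x hx1 hx2 g'
    have h : g' ∈ (Subgroup.centralizer ({x} : Set G)).comap f' := by
      refine (Subgroup.closure_le _).2 ?_ (SL2Hom.mem_closure_SL2 g')
      rintro y (⟨t, rfl⟩ | ⟨t, rfl⟩)
      · exact Subgroup.mem_centralizer_singleton_iff.2 (hx1 t).eq.symm
      · exact Subgroup.mem_centralizer_singleton_iff.2 (hx2 t).eq.symm
    exact (Subgroup.mem_centralizer_singleton_iff.1 h).symm
  have h : g ∈ (Subgroup.centralizer ({f' g'} : Set G)).comap f := by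
    refine (Subgroup.closure_le _).2 ?_ (SL2Hom.mem_closure_SL2 g)
    rintro y (⟨t, rfl⟩ | ⟨t, rfl⟩)
    · exact Subgroup.mem_centralizer_singleton_iff.2 (key _ (h1 t) (h2 t) g').eq
    · exact Subgroup.mem_centralizer_singleton_iff.2 (key _ (h3 t) (h4 t) g').eq
  exact Subgroup.mem_centralizer_singleton_iff.1 h

theorem map_up (φ : F →+* F) (t : F) : Matrix.SpecialLinearGroup.map φ (SL2Hom.up t) = SL2Hom.up (φ t) := by
  apply Subtype.ext
  show φ.mapMatrix (SL2Hom.up t).1 = (SL2Hom.up (φ t)).1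
  ext i j
  fin_cases i <;> fin_cases j <;> simp [SL2Hom.up]

theorem map_lo (φ : F →+* F) (t : F) : Matrix.SpecialLinearGroup.map φ (SL2Hom.lo t) = SL2Hom.lo (φ t) := by
  apply Subtype.ext
  show φ.mapMatrix (SL2Hom.lo t).1 = (SL2Hom.lo (φ t)).1
  ext i j
  fin_cases i <;> fin_cases j <;> simp [SL2Hom.lo]

theorem map_neg_one (φ : F →+* F) : Matrix.SpecialLinearGroup.map (n := Fin 2) φ (-1) = -1 := by
  apply Matrix.SpecialLinearGroup.ext
  intro i j
  show φ ((-1 : Matrix (Fin 2) (Fin 2) F) i j) = (-1 : Matrix (Fin 2) (Fin 2) F) i j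
  fin_cases i <;> fin_cases j <;> simp

end

section

variable {K : Type} [Field K]

/-- the root elements -/
noncomputable abbrev xx (r : ℕ) (t : K) : GL chevD4.Idx K := xG hp.inList r t

/-- the root homomorphism of a simple root -/
noncomputable abbrev ph (K : Type) [Field K] (j : Fin 4) : Matrix.SpecialLinearGroup (Fin 2) K →* GL chevD4.Idx K :=
  SL2Hom.phi (goodS hp j) K

theorem ph_up (j : Fin 4) (t : K) : ph K j (SL2Hom.up t) = xx (chevD4.simple j) t :=
  Units.ext (SL2Hom.phi_upper _ _ _ rfl)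

theorem ph_lo (j : Fin 4) (t : K) : ph K j (SL2Hom.lo t) = xx (chevD4.neg (chevD4.simple j)) t :=
  Units.ext (SL2Hom.phi_lower _ _ _ rfl)

theorem ph_neg_one (j : Fin 4) : ph K j (-1) = hG hp.inList (chevD4.simple j) (-1) :=
  OddHalf.LongSL.Chev.phi_neg_one hp K j

theorem ph_comm {i j : Fin 4} (h : orthB chevD4 (chevD4.simple i) (chevD4.simple j) = true)
    (g g' : Matrix.SpecialLinearGroup (Fin 2) K) : Commute (ph K i g) (ph K j g') := by
  refine commute_hom _ _ ?_ ?_ ?_ ?_ g g' <;> intro t u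
  · rw [ph_up, ph_up]; exact (commute_xG_of_orthB hp h t u).1
  · rw [ph_up, ph_lo]; exact (commute_xG_of_orthB hp h t u).2.2.1
  · rw [ph_lo, ph_up]; exact (commute_xG_of_orthB hp h t u).2.1
  · rw [ph_lo, ph_lo]; exact (commute_xG_of_orthB hp h t u).2.2.2

theorem c02 (g g' : Matrix.SpecialLinearGroup (Fin 2) K) : Commute (ph K 0 g) (ph K 2 g') :=
  ph_comm (by decide +kernel) g g'
theorem c03 (g g' : Matrix.SpecialLinearGroup (Fin 2) K) : Commute (ph K 0 g) (ph K 3 g') :=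
  ph_comm (by decide +kernel) g g'
theorem c23 (g g' : Matrix.SpecialLinearGroup (Fin 2) K) : Commute (ph K 2 g) (ph K 3 g') :=
  ph_comm (by decide +kernel) g g'

/-- the twisted diagonal embedding of `SL₂(K)` -/
noncomputable def psi1 (φ : K →+* K) : Matrix.SpecialLinearGroup (Fin 2) K →* GL chevD4.Idx K where
  toFun g := ph K 0 g * ph K 2 (Matrix.SpecialLinearGroup.map φ g) *
    ph K 3 (Matrix.SpecialLinearGroup.map φ (Matrix.SpecialLinearGroup.map φ g))
  map_one' := by simp only [map_one, mul_one]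
  map_mul' a b := by
    simp only [map_mul]
    have h1 := (c02 b (Matrix.SpecialLinearGroup.map φ a)).eq
    have h2 := (c03 b (Matrix.SpecialLinearGroup.map φ (Matrix.SpecialLinearGroup.map φ a))).eq
    have h3 := (c23 (Matrix.SpecialLinearGroup.map φ b)
      (Matrix.SpecialLinearGroup.map φ (Matrix.SpecialLinearGroup.map φ a))).eq
    set A := ph K 0 a
    set B := ph K 2 (Matrix.SpecialLinearGroup.map φ a)
    set C := ph K 3 (Matrix.SpecialLinearGroup.map φ (Matrix.SpecialLinearGroup.map φ a))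
    set A' := ph K 0 b
    set B' := ph K 2 (Matrix.SpecialLinearGroup.map φ b)
    set C' := ph K 3 (Matrix.SpecialLinearGroup.map φ (Matrix.SpecialLinearGroup.map φ b))
    calc A * A' * (B * B') * (C * C') = A * (A' * B) * (B' * C) * C' := by group
      _ = A * (B * A') * (C * B') * C' := by rw [h1, h3]
      _ = A * B * (A' * C) * B' * C' := by group
      _ = A * B * (C * A') * B' * C' := by rw [h2]
      _ = A * B * C * (A' * B' * C') := by group

theorem psi1_apply (φ : K →+* K) (g : Matrix.SpecialLinearGroup (Fin 2) K) : psi1 φ g =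
    ph K 0 g * ph K 2 (Matrix.SpecialLinearGroup.map φ g) *
      ph K 3 (Matrix.SpecialLinearGroup.map φ (Matrix.SpecialLinearGroup.map φ g)) := rfl

theorem X_eq (φ : K →+* K) (t : K) : D4Fixed.X φ t = xx 18 t * xx 13 (φ t) * xx 12 (φ (φ t)) := by
  unfold D4Fixed.X xx
  rw [D4U.xU_eq, D4U.xU_eq, D4U.xU_eq, xG_eq]

theorem Y_eq (φ : K →+* K) (t : K) : D4Fixed.Y φ t = xx 5 t * xx 10 (φ t) * xx 11 (φ (φ t)) := by
  unfold D4Fixed.Y xx
  rw [D4U.xU_eq, D4U.xU_eq, D4U.xU_eq, xG_eq]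

theorem psi1_up (φ : K →+* K) (t : K) : psi1 φ (SL2Hom.up t) = D4Fixed.X φ t := by
  rw [psi1_apply, map_up, map_up, ph_up, ph_up, ph_up, X_eq]
  simp only [Fin.val_zero, show ((2 : Fin 4) : ℕ) = 2 from rfl, show ((3 : Fin 4) : ℕ) = 3 from rfl, simples.1,
    simples.2.2.1, simples.2.2.2]

theorem psi1_lo (φ : K →+* K) (t : K) : psi1 φ (SL2Hom.lo t) = D4Fixed.Y φ t := by
  rw [psi1_apply, map_lo, map_lo, ph_lo, ph_lo, ph_lo, Y_eq]
  simp only [Fin.val_zero, show ((2 : Fin 4) : ℕ) = 2 from rfl, show ((3 : Fin 4) : ℕ) = 3 from rfl, simples.1,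
    simples.2.2.1, simples.2.2.2, negs.1, negs.2.2.1, negs.2.2.2]

theorem psi1_ker [Fintype K] (hK : Odd (Fintype.card K)) (φ : K →+* K) {g : Matrix.SpecialLinearGroup (Fin 2) K}
    (hg : psi1 φ g = 1) : g = 1 ∨ g = -1 := by
  refine SL.eq_of_central hK fun u => ?_
  have h1 : ph K 0 (g * u * g⁻¹ * u⁻¹) = 1 := by
    have h2 : psi1 φ g * ph K 0 u * (psi1 φ g)⁻¹ = ph K 0 u := by rw [hg]; simp
    rw [psi1_apply] at h2
    have e1 := (c02 u (Matrix.SpecialLinearGroup.map φ g)).eq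
    have e2 := (c03 u (Matrix.SpecialLinearGroup.map φ (Matrix.SpecialLinearGroup.map φ g))).eq
    simp only [map_mul, map_inv]
    generalize ph K 0 g = A at *
    generalize ph K 2 (Matrix.SpecialLinearGroup.map φ g) = B at *
    generalize ph K 3 (Matrix.SpecialLinearGroup.map φ (Matrix.SpecialLinearGroup.map φ g)) = C at *
    generalize ph K 0 u = U at *
    have e3 : A * B * C * U * (A * B * C)⁻¹ = A * U * A⁻¹ := by
      calc A * B * C * U * (A * B * C)⁻¹ = A * B * (C * U) * C⁻¹ * B⁻¹ * A⁻¹ := by group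
        _ = A * B * (U * C) * C⁻¹ * B⁻¹ * A⁻¹ := by rw [e2]
        _ = A * (B * U) * B⁻¹ * A⁻¹ := by group
        _ = A * (U * B) * B⁻¹ * A⁻¹ := by rw [e1]
        _ = A * U * A⁻¹ := by group
    rw [← e3, h2, mul_inv_cancel]
  rcases OddHalf.LongSL.Chev.phi_eq_one _ h1 with h2 | h2
  · left
    have h3 : g * u * g⁻¹ = u := by rwa [mul_inv_eq_one] at h2
    exact mul_inv_eq_iff_eq_mul.1 h3
  · right
    have h3 : g * u * g⁻¹ = -u := by
      rw [mul_inv_eq_iff_eq_mul] at h2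
      rw [h2, neg_mul, one_mul]
    have h4 := mul_inv_eq_iff_eq_mul.1 h3
    rw [h4, neg_mul]

/-- conjugation by the central involutions -/
theorem conj_z {i : Fin 4} {s : ℕ} (hs : s < chevD4.nroots) (hc : chevD4.cartan i s = -1) (t : K) :
    ph K i (-1) * xx s t * (ph K i (-1))⁻¹ = xx s (-t) := by
  rw [ph_neg_one, OddHalf.LongSL.Chev.conj_hG hp K i hs (-1) (neg_ne_zero.2 one_ne_zero), hc]
  congr 1
  rw [zpow_neg, zpow_one, inv_neg, inv_one, neg_one_mul]

theorem conj_z0 (φ : K →+* K) (t : K) : ph K 1 (-1) * D4Fixed.X φ t * (ph K 1 (-1))⁻¹ = D4Fixed.X φ (-t) := by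
  have h1 := conj_z (K := K) (i := 1) (s := 18) (by decide +kernel) cartans.1 t
  have h2 := conj_z (K := K) (i := 1) (s := 13) (by decide +kernel) cartans.2.1 (φ t)
  have h3 := conj_z (K := K) (i := 1) (s := 12) (by decide +kernel) cartans.2.2.1 (φ (φ t))
  rw [X_eq, X_eq, map_neg, map_neg, ← h1, ← h2, ← h3]
  group

theorem conj_z1 (φ : K →+* K) (t : K) : psi1 φ (-1) * xx 14 t * (psi1 φ (-1))⁻¹ = xx 14 (-t) := by
  rw [psi1_apply, map_neg_one, map_neg_one]
  have h1 := conj_z (K := K) (i := 3) (s := 14) (by decide +kernel) cartans.2.2.2.2.2 t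
  have h2 := conj_z (K := K) (i := 2) (s := 14) (by decide +kernel) cartans.2.2.2.2.1 (-t)
  have h3 := conj_z (K := K) (i := 0) (s := 14) (by decide +kernel) cartans.2.2.2.1 (- -t)
  rw [_root_.neg_neg] at h3
  rw [_root_.neg_neg] at h2
  calc ph K 0 (-1) * ph K 2 (-1) * ph K 3 (-1) * xx 14 t * (ph K 0 (-1) * ph K 2 (-1) * ph K 3 (-1))⁻¹
      = ph K 0 (-1) * (ph K 2 (-1) * (ph K 3 (-1) * xx 14 t * (ph K 3 (-1))⁻¹) * (ph K 2 (-1))⁻¹) *
          (ph K 0 (-1))⁻¹ := by group
    _ = xx 14 (-t) := by rw [h1, h2, h3]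

end

section Group

variable {K : Type} [Field K] {q : ℕ} {φ : K →+* K} (hφ : ∀ x, φ x = x ^ q) (hle : twistedD4 K q ≤ D4Fixed.fix φ)

include hφ hle

theorem mem_X0 (g : ↥(twistedD4 K q)) : g ∈ X φ q (sr 0) ↔ ∃ t : FF φ, (g : GL chevD4.Idx K) = xx 14 (t : K) := by
  constructor
  · intro h
    have h1 : (g : GL chevD4.Idx K) ∈ R chevD4 hp K J (sig φ) (sr 0) := Subgroup.mem_subgroupOf.1 h
    rw [R0] at h1
    obtain ⟨t, ht, e⟩ := D4U.RS_14_fix h1.1 h1.2
    exact ⟨⟨t, ht⟩, by rw [e, xx, xG_eq]⟩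
  · rintro ⟨t, ht⟩
    refine Subgroup.mem_subgroupOf.2 ?_
    rw [R0, ht, xx, xG_eq]
    exact ⟨mem_rspan D4Comm.xG (S := {k | k ∈ [14]}) (by simp) _, hle (D4U.xG14_mem hφ t.2)⟩

theorem mem_X0' (g : ↥(twistedD4 K q)) : g ∈ X φ q (-sr 0) ↔ ∃ t : FF φ, (g : GL chevD4.Idx K) = xx 9 (t : K) := by
  constructor
  · intro h
    have h1 : (g : GL chevD4.Idx K) ∈ R chevD4 hp K J (sig φ) (-sr 0) := Subgroup.mem_subgroupOf.1 h
    rw [R0'] at h1
    obtain ⟨t, ht, e⟩ := D4Twisted.RS_9_fix φ h1.1 h1.2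
    exact ⟨⟨t, ht⟩, by rw [e, xx, xG_eq]⟩
  · rintro ⟨t, ht⟩
    refine Subgroup.mem_subgroupOf.2 ?_
    rw [R0', ht, xx, xG_eq]
    refine ⟨mem_rspan D4Comm.xG (S := {k | k ∈ [9]}) (by simp) _, hle ?_⟩
    rw [← D4U.xU_eq]
    exact D4Fixed.x9_mem ((hφ _).symm.trans t.2)

theorem mem_X1 (g : ↥(twistedD4 K q)) : g ∈ X φ q (sr 1) ↔ ∃ t : K, (g : GL chevD4.Idx K) = D4Fixed.X φ t := by
  constructor
  · intro h
    have h1 : (g : GL chevD4.Idx K) ∈ R chevD4 hp K J (sig φ) (sr 1) := Subgroup.mem_subgroupOf.1 h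
    rw [R1] at h1
    exact D4U.RS_outer_fix h1.1 h1.2
  · rintro ⟨t, ht⟩
    refine Subgroup.mem_subgroupOf.2 ?_
    rw [R1, ht]
    exact ⟨D4Twisted.X_mem_RS t, hle (D4Fixed.X_mem hφ t)⟩

theorem mem_X1' (g : ↥(twistedD4 K q)) : g ∈ X φ q (-sr 1) ↔ ∃ t : K, (g : GL chevD4.Idx K) = D4Fixed.Y φ t := by
  constructor
  · intro h
    have h1 : (g : GL chevD4.Idx K) ∈ R chevD4 hp K J (sig φ) (-sr 1) := Subgroup.mem_subgroupOf.1 h
    rw [R1'] at h1
    exact D4Twisted.RS_neg_fix φ h1.1 h1.2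
  · rintro ⟨t, ht⟩
    refine Subgroup.mem_subgroupOf.2 ?_
    rw [R1', ht]
    exact ⟨Hexagon.TwD4RGD.Y_mem_RS t, hle (D4Fixed.Y_mem hφ t)⟩

theorem f0_mem (g : Matrix.SpecialLinearGroup (Fin 2) (FF φ)) : psi0 (hp := hp) 1 φ g ∈ twistedD4 K q := by
  have h1 : g ∈ (twistedD4 K q).comap (psi0 (hp := hp) 1 φ) := by
    refine (Subgroup.closure_le _).2 ?_ (SL2Hom.mem_closure_SL2 g)
    rintro x (⟨t, rfl⟩ | ⟨t, rfl⟩)
    · show psi0 (hp := hp) 1 φ _ ∈ twistedD4 K q
      rw [psi0_up]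
      show xG hp.inList (chevD4.simple 1) (t : K) ∈ twistedD4 K q
      rw [simples.2.1, xG_eq]
      exact D4U.xG14_mem hφ t.2
    · show psi0 (hp := hp) 1 φ _ ∈ twistedD4 K q
      rw [psi0_lo]
      show xG hp.inList (chevD4.neg (chevD4.simple 1)) (t : K) ∈ twistedD4 K q
      rw [simples.2.1, negs.2.1, xG_eq, ← D4U.xU_eq]
      exact D4Fixed.x9_mem ((hφ _).symm.trans t.2)
  exact h1

theorem f1_mem (g : Matrix.SpecialLinearGroup (Fin 2) K) : psi1 φ g ∈ twistedD4 K q := by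
  have h1 : g ∈ (twistedD4 K q).comap (psi1 φ) := by
    refine (Subgroup.closure_le _).2 ?_ (SL2Hom.mem_closure_SL2 g)
    rintro x (⟨t, rfl⟩ | ⟨t, rfl⟩)
    · show psi1 φ _ ∈ twistedD4 K q
      rw [psi1_up]
      exact D4Fixed.X_mem hφ t
    · show psi1 φ _ ∈ twistedD4 K q
      rw [psi1_lo]
      exact D4Fixed.Y_mem hφ t
  exact h1

theorem isSL0 [Fintype K] (hK : Odd (Fintype.card K)) [Fintype (FF φ)] (hF : Odd (Fintype.card (FF φ))) :
    IsSL (LL (X φ q) (sr 0)) := by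
  let ψ : Matrix.SpecialLinearGroup (Fin 2) (FF φ) →* ↥(twistedD4 K q) :=
    (psi0 (hp := hp) 1 φ).codRestrict _ (f0_mem hφ hle)
  have hψ : ∀ g, (ψ g : GL chevD4.Idx K) = psi0 (hp := hp) 1 φ g := fun g => rfl
  have hup : ∀ t : FF φ, (ψ (SL2Hom.up t) : GL chevD4.Idx K) = xx 14 (t : K) := by
    intro t
    rw [hψ, psi0_up]
    show xG hp.inList (chevD4.simple 1) (t : K) = _
    rw [simples.2.1]
  have hlo : ∀ t : FF φ, (ψ (SL2Hom.lo t) : GL chevD4.Idx K) = xx 9 (t : K) := by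
    intro t
    rw [hψ, psi0_lo]
    show xG hp.inList (chevD4.neg (chevD4.simple 1)) (t : K) = _
    rw [simples.2.1, negs.2.1]
  refine isSL_of_hom hF ψ ?_ ?_ ?_ ?_ ?_
  · intro g hg
    left
    have h1 : psi0 (hp := hp) 1 φ g = 1 := congrArg Subtype.val hg
    exact OddHalf.LongSL.Fold.psi0_injective (hp := hp) 1 φ (SL.two_ne hK) (by decide +kernel)
      (h1.trans (map_one _).symm)
  · exact fun t => (mem_X0 hφ hle _).2 ⟨t, hup t⟩
  · exact fun t => (mem_X0' hφ hle _).2 ⟨t, hlo t⟩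
  · intro u hu
    obtain ⟨t, ht⟩ := (mem_X0 hφ hle _).1 hu
    exact ⟨t, Subtype.ext (by rw [hup, ht])⟩
  · intro u hu
    obtain ⟨t, ht⟩ := (mem_X0' hφ hle _).1 hu
    exact ⟨t, Subtype.ext (by rw [hlo, ht])⟩

theorem isSL1 [Fintype K] (hK : Odd (Fintype.card K)) : IsSL (LL (X φ q) (sr 1)) := by
  let ψ : Matrix.SpecialLinearGroup (Fin 2) K →* ↥(twistedD4 K q) := (psi1 φ).codRestrict _ (f1_mem hφ hle)
  have hψ : ∀ g, (ψ g : GL chevD4.Idx K) = psi1 φ g := fun g => rfl
  refine isSL_of_hom hK ψ ?_ ?_ ?_ ?_ ?_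
  · intro g hg
    exact psi1_ker hK φ (congrArg Subtype.val hg)
  · exact fun t => (mem_X1 hφ hle _).2 ⟨t, by rw [hψ, psi1_up]⟩
  · exact fun t => (mem_X1' hφ hle _).2 ⟨t, by rw [hψ, psi1_lo]⟩
  · intro u hu
    obtain ⟨t, ht⟩ := (mem_X1 hφ hle _).1 hu
    exact ⟨t, Subtype.ext (by rw [hψ, psi1_up, ht])⟩
  · intro u hu
    obtain ⟨t, ht⟩ := (mem_X1' hφ hle _).1 hu
    exact ⟨t, Subtype.ext (by rw [hψ, psi1_lo, ht])⟩

theorem hG_diag (i : Fin 4) : hG hp.inList (chevD4.simple i) (-1 : K) ∈ chevD4.diagonalSubgroup K :=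
  hG_mem_diagonal hp.inList (simple_lt hp.inList (Cfsg.Agent.Nodes.RGDChev.lt_rank hp i)) (neg_ne_zero.2 one_ne_zero)

theorem link01 (h2 : (2 : K) ≠ 0) : Link (T K q) (X φ q) 0 1 := by
  left
  have hz : psi0 (hp := hp) 1 φ (-1) = ph K 1 (-1) := by
    rw [OddHalf.LongSL.Fold.psi0_neg_one, ph_neg_one]
  have hm : ph K 1 (-1) ∈ twistedD4 K q := by rw [← hz]; exact f0_mem hφ hle _
  have hX : D4Fixed.X φ (1 : K) ∈ twistedD4 K q := D4Fixed.X_mem hφ 1
  refine ⟨⟨ph K 1 (-1), hm⟩, ?_, ?_, ?_, ⟨_, hX⟩, ?_, ?_⟩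
  · let ψ : Matrix.SpecialLinearGroup (Fin 2) (FF φ) →* ↥(twistedD4 K q) :=
      (psi0 (hp := hp) 1 φ).codRestrict _ (f0_mem hφ hle)
    have h1 : (⟨ph K 1 (-1), hm⟩ : ↥(twistedD4 K q)) = ψ (-1) := Subtype.ext hz.symm
    rw [h1]
    have h3 : (-1 : Matrix.SpecialLinearGroup (Fin 2) (FF φ)) ∈ (LL (X φ q) (sr 0)).comap ψ := by
      refine (Subgroup.closure_le _).2 ?_ (SL2Hom.mem_closure_SL2 _)
      rintro x (⟨t, rfl⟩ | ⟨t, rfl⟩)
      · refine Subgroup.mem_sup_left ((mem_X0 hφ hle _).2 ⟨t, ?_⟩)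
        show psi0 (hp := hp) 1 φ _ = _
        rw [psi0_up]
        show xG hp.inList (chevD4.simple 1) (t : K) = _
        rw [simples.2.1]
      · refine Subgroup.mem_sup_right ((mem_X0' hφ hle _).2 ⟨t, ?_⟩)
        show psi0 (hp := hp) 1 φ _ = _
        rw [psi0_lo]
        show xG hp.inList (chevD4.neg (chevD4.simple 1)) (t : K) = _
        rw [simples.2.1, negs.2.1]
    exact h3
  · apply Subtype.ext
    show ph K 1 (-1) * ph K 1 (-1) = 1
    rw [← map_mul]; simp
  · refine Subgroup.mem_subgroupOf.2 ⟨?_, hm⟩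
    show ph K 1 (-1) ∈ _
    rw [ph_neg_one]
    exact hG_diag hφ hle 1
  · exact Subgroup.mem_sup_left ((mem_X1 hφ hle _).2 ⟨1, rfl⟩)
  · intro h
    have h1 : ph K 1 (-1) * D4Fixed.X φ 1 = D4Fixed.X φ 1 * ph K 1 (-1) := congrArg Subtype.val h
    have h3 := conj_z0 φ (1 : K)
    rw [h1, mul_inv_cancel_right] at h3
    have h4 := TwD4Card.X_inj h3
    apply h2
    linear_combination h4

theorem link10 (h2 : (2 : K) ≠ 0) : Link (T K q) (X φ q) 1 0 := by
  left
  have hm : psi1 φ (-1) ∈ twistedD4 K q := f1_mem hφ hle _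
  have hX : xx 14 (1 : K) ∈ twistedD4 K q := by
    rw [xx, xG_eq]; exact D4U.xG14_mem hφ (map_one φ)
  refine ⟨⟨psi1 φ (-1), hm⟩, ?_, ?_, ?_, ⟨_, hX⟩, ?_, ?_⟩
  · let ψ : Matrix.SpecialLinearGroup (Fin 2) K →* ↥(twistedD4 K q) := (psi1 φ).codRestrict _ (f1_mem hφ hle)
    have h3 : (-1 : Matrix.SpecialLinearGroup (Fin 2) K) ∈ (LL (X φ q) (sr 1)).comap ψ := by
      refine (Subgroup.closure_le _).2 ?_ (SL2Hom.mem_closure_SL2 _)
      rintro x (⟨t, rfl⟩ | ⟨t, rfl⟩)
      · refine Subgroup.mem_sup_left ((mem_X1 hφ hle _).2 ⟨t, ?_⟩)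
        show psi1 φ _ = _
        rw [psi1_up]
      · refine Subgroup.mem_sup_right ((mem_X1' hφ hle _).2 ⟨t, ?_⟩)
        show psi1 φ _ = _
        rw [psi1_lo]
    exact h3
  · apply Subtype.ext
    show psi1 φ (-1) * psi1 φ (-1) = 1
    rw [← map_mul]; simp
  · refine Subgroup.mem_subgroupOf.2 ⟨?_, hm⟩
    show psi1 φ (-1) ∈ _
    rw [psi1_apply, map_neg_one, map_neg_one, ph_neg_one, ph_neg_one, ph_neg_one]
    exact mul_mem (mul_mem (hG_diag hφ hle 0) (hG_diag hφ hle 2)) (hG_diag hφ hle 3)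
  · refine Subgroup.mem_sup_left ((mem_X0 hφ hle _).2 ⟨⟨1, map_one φ⟩, rfl⟩)
  · intro h
    have h1 : psi1 φ (-1) * xx 14 1 = xx 14 1 * psi1 φ (-1) := congrArg Subtype.val h
    have h3 := conj_z1 φ (1 : K)
    rw [h1, mul_inv_cancel_right] at h3
    have h4 := xG_injective hp.inList (by decide +kernel) h3
    apply h2
    linear_combination h4

theorem card_X0 [Fintype K] (hq : 2 ≤ q) (hK : Fintype.card K = q ^ 3) : Nat.card (X φ q (sr 0)) = q := by
  classical
  have hfin : Fintype (FF φ) := Fintype.ofFinite _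
  have hc := OddHalf.LongSL.Tw.card_FF hq hK hφ
  rw [← Nat.card_eq_fintype_card] at hc
  have hx : ∀ t : FF φ, xx 14 (t : K) ∈ twistedD4 K q := fun t => by
    rw [xx, xG_eq]; exact D4U.xG14_mem hφ t.2
  refine Eq.trans ?_ hc
  refine (Nat.card_congr (Equiv.ofBijective (fun t : FF φ => (⟨⟨xx 14 (t : K), hx t⟩,
    (mem_X0 hφ hle _).2 ⟨t, rfl⟩⟩ : X φ q (sr 0))) ⟨?_, ?_⟩)).symm
  · intro s t h
    exact Subtype.ext (xG_injective hp.inList (by decide +kernel)
      (congrArg (fun z : X φ q (sr 0) => ((z : ↥(twistedD4 K q)) : GL chevD4.Idx K)) h))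
  · rintro ⟨u, hu⟩
    obtain ⟨t, ht⟩ := (mem_X0 hφ hle _).1 hu
    exact ⟨t, Subtype.ext (Subtype.ext ht.symm)⟩

theorem card_X1 [Fintype K] : Nat.card (X φ q (sr 1)) = Fintype.card K := by
  rw [← Nat.card_eq_fintype_card]
  refine (Nat.card_congr (Equiv.ofBijective (fun t : K => (⟨⟨D4Fixed.X φ t, D4Fixed.X_mem hφ t⟩,
    (mem_X1 hφ hle _).2 ⟨t, rfl⟩⟩ : X φ q (sr 1))) ⟨?_, ?_⟩)).symm
  · intro s t h
    exact TwD4Card.X_inj (congrArg (fun z : X φ q (sr 1) => ((z : ↥(twistedD4 K q)) : GL chevD4.Idx K)) h)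
  · rintro ⟨u, hu⟩
    obtain ⟨t, ht⟩ := (mem_X1 hφ hle _).1 hu
    exact ⟨t, Subtype.ext (Subtype.ext ht.symm)⟩

end Group

/-- the orders -/
theorem ord {q m : ℕ} (hq : 2 ≤ q) (ho : Odd q)
    (h : 2 ^ m ∣ q ^ 12 * (q ^ 2 - 1) * (q ^ 6 - 1) * (q ^ 8 + q ^ 4 + 1)) :
    2 ^ m ∣ (q - 1) ^ 2 * (q ^ 2 + q + 1) * 1 * ((q + 1) * (q ^ 3 + 1)) := by
  have h1 : Nat.Coprime (2 ^ m) (q ^ 8 + q ^ 4 + 1) := by
    refine Nat.Coprime.pow_left m (Nat.coprime_two_left.2 ?_)
    have e8 : Odd (q ^ 8) := ho.pow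
    have e4 : Odd (q ^ 4) := ho.pow
    exact (e8.add_odd e4).add_one
  have h2 : Nat.Coprime (2 ^ m) (q ^ 12) := Nat.Coprime.pow_left m (Nat.coprime_two_left.2 ho.pow)
  have h3 := h1.dvd_of_dvd_mul_right h
  rw [mul_assoc] at h3
  have h4 := h2.dvd_of_dvd_mul_left h3
  obtain ⟨k, rfl⟩ := Nat.exists_eq_add_of_le' (show 1 ≤ q by omega)
  have e : (k + 1 - 1) ^ 2 * ((k + 1) ^ 2 + (k + 1) + 1) * 1 * ((k + 1 + 1) * ((k + 1) ^ 3 + 1)) =
      ((k + 1) ^ 2 - 1) * ((k + 1) ^ 6 - 1) := by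
    have e1 : (k + 1) ^ 2 - 1 = k * (k + 2) := by
      rw [Nat.sub_eq_iff_eq_add (Nat.one_le_pow _ _ (by omega))]; ring
    have e2 : (k + 1) ^ 6 - 1 = k * ((k + 1) ^ 2 + (k + 1) + 1) * ((k + 1) ^ 3 + 1) := by
      rw [Nat.sub_eq_iff_eq_add (Nat.one_le_pow _ _ (by omega))]; ring
    rw [e1, e2, Nat.add_sub_cancel]
    ring
  rw [e]
  exact h4

/-- **The row of `³D₄(q)`, `q` odd.** -/
theorem row_twD4 (K : Type) [Field K] [Fintype K] {q : ℕ} (hq : IsPrimePow q) (hK : Fintype.card K = q ^ 3)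
    (ho : Odd q) (hcen : ∀ z : ↥(twistedD4 K q), (∀ y, z * y = y * z) → z = 1) : ClosedRow ↥(twistedD4 K q) := by
  classical
  obtain ⟨φ, hφ⟩ := D4Fixed.exists_frob hq hK
  have hle := D4Fixed.twisted_le_fix hK hφ
  obtain ⟨p, hpc⟩ := CharP.exists K
  have hpp : p.Prime := (CharP.char_is_prime_or_zero K p).resolve_right (CharP.char_ne_zero_of_finite K p)
  have : Fact p.Prime := ⟨hpp⟩
  have hKo : Odd (Fintype.card K) := by rw [hK]; exact ho.pow
  have h2 : (2 : K) ≠ 0 := SL.two_ne hKo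
  have hfin : Fintype (FF φ) := Fintype.ofFinite _
  have hFc := OddHalf.LongSL.Tw.card_FF hq.two_le hK hφ
  let cs := CoxeterMatrix.G₂.toCoxeterSystem
  have hW : Finite CoxeterMatrix.G₂.Group := Cfsg.Agent.Nodes.RGDFold.finite_W (hp := hp) cs isCartan foldData
  have R := rgd cs hK hφ p
  have hr1 : rep cs isCartan (cs.simple 1 * cs.simple 0) (sr 1) = ![1, 2] := by
    rw [rep_mul_apply, rep_refl, rep_refl]
    decide +kernel
  have hroot : IsRoot cs isCartan (![1, 2] : Fin 2 → ℤ) := ⟨_, 1, hr1.symm⟩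
  have hc12 : Nat.card (X φ q ![1, 2]) = q ^ 3 := by
    obtain ⟨g, hg⟩ := exists_rp cs R.nsys (cs.simple 1 * cs.simple 0)
    have h1 := R.conj_rp hg (isRoot_sr cs isCartan 1)
    rw [hr1] at h1
    have h3 : Nat.card (cj g (X φ q (sr 1))) = Nat.card (X φ q (sr 1)) :=
      Nat.card_congr ((X φ q (sr 1)).equivMapOfInjective _ (MulAut.conj g).injective).toEquiv.symm
    rw [← h1, h3, card_X1 hφ hle, hK]
  have hlc : LC (X φ q) (sr 0) ![1, 2] := lc_of_fibres hp fibres
  refine Frame.closedRow R (β := ![sr 0, ![1, 2]]) (P := ⊥) ⟨?_, ?_, ?_, ?_⟩ (G1_eq_top cs hK hφ) hcen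
    (fun s hs t ht => torus_comm hp s hs t ht) ?_ (link := fun i j => i ≠ j) ?_ ?_ IsPGroup.of_bot (Γ := ∅) ?_
    Subgroup.closure_empty.symm ?_
  · intro a
    fin_cases a
    · exact isRoot_sr cs isCartan 0
    · exact hroot
  · intro a b hab
    fin_cases a <;> fin_cases b
    · exact absurd rfl hab
    · exact hlc
    · exact fun x hx y hy => (hlc y hy x hx).symm
    · exact absurd rfl hab
  · intro w hw a
    rw [Subgroup.mem_bot] at hw
    exact ⟨a, Or.inl (by rw [hw, map_one, Module.End.one_apply])⟩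
  · intro w hw _
    exact Subgroup.mem_bot.1 hw
  · intro i
    fin_cases i
    · exact isSL0 hφ hle hKo (by rw [hFc]; exact ho)
    · exact isSL1 hφ hle hKo
  · intro i j hij
    fin_cases i <;> fin_cases j
    · exact absurd rfl hij
    · exact link01 hφ hle h2
    · exact link10 hφ hle h2
    · exact absurd rfl hij
  · intro i j
    by_cases hij : i = j
    · rw [hij]
    · exact Relation.ReflTransGen.single hij
  · intro w hw
    exact absurd hw (Set.notMem_empty w)
  · intro m hm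
    rw [S1067.result hq hK] at hm
    have h3 := ord hq.two_le ho hm
    have hT : Nat.card (T K q) = (q - 1) ^ 2 * (q ^ 2 + q + 1) := by
      rw [← S1106.result hq hK]
      exact Nat.card_congr (Subgroup.subgroupOfEquivOfLe inf_le_right).toEquiv
    rw [hT, Subgroup.card_bot, Fin.prod_univ_two]
    show 2 ^ m ∣ _ * 1 * ((Nat.card (X φ q (sr 0)) + 1) * (Nat.card (X φ q ![1, 2]) + 1))
    rw [card_X0 hφ hle hq.two_le hK, hc12]
    exact h3

end Cfsg.Agent.ClosedExc.TwD4

end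

-- merged: Cfsg.Agent.ClosedExc.WGen
section

/-!
# Frames in Weyl groups: the certificate (helper52, S1252)

Vectors of the root lattice are lists of integers, elements of the Weyl group are words, a subgroup of the Weyl group
permuting a list `T` of vectors which spans the lattice over `ℚ` is a list of permutations (lists of natural numbers).
-/

set_option autoImplicit false
set_option linter.unusedSectionVars false

namespace Cfsg.Agent.ClosedExc.WFr

open CoxeterSystem Cfsg.Agent.ChevalleyStructure.CoxeterGeom Cfsg.Agent.Tits.Roots Cfsg.Agent.ClosedExc.Frame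

/-! ### computations -/

/-- The dot product. -/
def dot : List ℤ → List ℤ → ℤ
  | [], _ => 0
  | _ :: _, [] => 0
  | a :: as, b :: bs => a * b + dot as bs

/-- Subtract `d` at position `i`. -/
def subAt : ℕ → ℤ → List ℤ → List ℤ
  | _, _, [] => []
  | 0, d, x :: xs => (x - d) :: xs
  | i + 1, d, x :: xs => x :: subAt i d xs

/-- A simple reflection. -/
def step (AL : List (List ℤ)) (i : ℕ) (x : List ℤ) : List ℤ := subAt i (dot (AL.getD i []) x) x

/-- The action of a word. -/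
def act (AL : List (List ℤ)) : List ℕ → List ℤ → List ℤ
  | [], x => x
  | i :: w, x => step AL i (act AL w x)

/-- A list as a vector. -/
def toV (l : ℕ) (x : List ℤ) : Fin l → ℤ := fun i => x.getD i 0

/-- The simple root. -/
def ei (l i : ℕ) : List ℤ := (List.range l).map fun j => if j = i then 1 else 0

/-- The word of a reflection. -/
def rw' (p : List ℕ × ℕ) : List ℕ := p.1 ++ p.2 :: p.1.reverse

/-- The root of a reflection. -/
def rootOf (AL : List (List ℤ)) (l : ℕ) (p : List ℕ × ℕ) : List ℤ := act AL p.1 (ei l p.2)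

/-- The word of a product of reflections. -/
def fw (g : List (List ℕ × ℕ)) : List ℕ := g.flatMap rw'

/-- The composition `σ ∘ τ` of permutations. -/
def comp (σ τ : List ℕ) : List ℕ := τ.map fun a => σ.getD a 0

/-- All products with increasing indices. -/
def allProds (m : ℕ) : List (List ℕ) → List (List ℕ)
  | [] => [List.range m]
  | π :: t => allProds m t ++ (allProds m t).map (comp π)

/-- The permutation of a word in the generators. -/
def hperm (m : ℕ) (Pi : List (List ℕ)) : List ℕ → List ℕ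
  | [] => List.range m
  | g :: w => comp (Pi.getD g []) (hperm m Pi w)

/-! ### lists as vectors -/

theorem toV_apply {l : ℕ} (x : List ℤ) (i : Fin l) : toV l x i = x.getD i 0 := rfl

theorem toV_inj {l : ℕ} {x y : List ℤ} (hx : x.length = l) (hy : y.length = l) (h : toV l x = toV l y) : x = y := by
  refine List.ext_getElem (hx.trans hy.symm) fun i h1 h2 => ?_
  have := congrFun h ⟨i, hx ▸ h1⟩
  simp only [toV_apply] at this
  rwa [List.getD_eq_getElem _ _ h1, List.getD_eq_getElem _ _ h2] at this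

theorem dot_eq : ∀ {l : ℕ} {a b : List ℤ}, a.length = l → b.length = l →
    dot a b = ∑ k : Fin l, a.getD k 0 * b.getD k 0
  | 0, [], [], _, _ => rfl
  | l + 1, a :: as, b :: bs, ha, hb => by
    rw [dot, dot_eq (l := l) (a := as) (b := bs) (by simpa using ha) (by simpa using hb), Fin.sum_univ_succ]
    simp

theorem subAt_length : ∀ (i : ℕ) (d : ℤ) (x : List ℤ), (subAt i d x).length = x.length
  | _, _, [] => by simp [subAt]
  | 0, _, _ :: _ => by simp [subAt]
  | i + 1, d, x :: xs => by simp [subAt, subAt_length i d xs]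

theorem subAt_getD : ∀ (i : ℕ) (d : ℤ) (x : List ℤ) (j : ℕ), j < x.length →
    (subAt i d x).getD j 0 = x.getD j 0 - if j = i then d else 0
  | _, _, [], j, hj => by simp at hj
  | 0, d, x :: xs, 0, _ => by simp [subAt]
  | 0, d, x :: xs, j + 1, _ => by simp [subAt]
  | i + 1, d, x :: xs, 0, _ => by simp [subAt]
  | i + 1, d, x :: xs, j + 1, hj => by
    have := subAt_getD i d xs j (by simpa using hj)
    simp only [subAt, List.getD_cons_succ, this, Nat.add_right_cancel_iff]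

theorem step_length (AL : List (List ℤ)) (i : ℕ) (x : List ℤ) : (step AL i x).length = x.length :=
  subAt_length _ _ _

theorem act_length (AL : List (List ℤ)) : ∀ (w : List ℕ) (x : List ℤ), (act AL w x).length = x.length
  | [], _ => rfl
  | i :: w, x => by rw [act, step_length, act_length AL w x]

theorem act_append (AL : List (List ℤ)) : ∀ (v w : List ℕ) (x : List ℤ), act AL (v ++ w) x = act AL v (act AL w x)
  | [], _, _ => rfl
  | i :: v, w, x => by rw [List.cons_append, act, act, act_append AL v w x]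

theorem ei_length (l i : ℕ) : (ei l i).length = l := by simp [ei]

theorem toV_ei {l : ℕ} (i : Fin l) : toV l (ei l i) = sr i := by
  funext j
  rw [toV_apply, ei, List.getD_eq_getElem _ _ (by simp)]
  simp only [List.getElem_map, List.getElem_range]
  by_cases hj : j = i
  · subst hj; simp [sr]
  · rw [if_neg (fun h => hj (Fin.ext h)), sr, Pi.single_eq_of_ne hj]

section W

variable {l : ℕ} {W : Type*} [Group W] {M : CoxeterMatrix (Fin l)} (cs : CoxeterSystem M W)
  {C : Fin l → Fin l → ℤ} (h : IsCartan M C) {AL : List (List ℤ)}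

/-- The element of a word. -/
def wd (cs : CoxeterSystem M W) : List ℕ → W
  | [] => 1
  | i :: w => (if hi : i < l then cs.simple ⟨i, hi⟩ else 1) * wd cs w

theorem wd_append : ∀ v w : List ℕ, wd cs (v ++ w) = wd cs v * wd cs w
  | [], w => by rw [List.nil_append, wd, one_mul]
  | i :: v, w => by rw [List.cons_append, wd, wd, wd_append v w, mul_assoc]

theorem wd_reverse : ∀ w : List ℕ, wd cs w.reverse = (wd cs w)⁻¹
  | [] => by rw [List.reverse_nil, wd, inv_one]
  | i :: w => by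
    rw [List.reverse_cons, wd_append, wd_reverse w, wd, wd, wd, mul_one, mul_inv_rev]
    congr 1
    split
    · rw [cs.inv_simple]
    · rw [inv_one]

/-- The table of the Cartan matrix. -/
structure IsTab (C : Fin l → Fin l → ℤ) (AL : List (List ℤ)) : Prop where
  len : AL.length = l
  len' : ∀ a ∈ AL, a.length = l
  eq : ∀ i j : Fin l, (AL.getD i []).getD j 0 = C i j

variable (hA : IsTab C AL)

include hA

theorem rep_step (i : Fin l) {x : List ℤ} (hx : x.length = l) :
    rep cs h (cs.simple i) (toV l x) = toV l (step AL i x) := by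
  rw [rep_simple, refl_apply]
  funext j
  have h1 : (AL.getD i []).length = l := by
    rw [List.getD_eq_getElem _ _ (by rw [hA.len]; exact i.2)]
    exact hA.len' _ (List.getElem_mem _)
  rw [Pi.sub_apply, toV_apply, toV_apply, step, subAt_getD _ _ _ _ (by rw [hx]; exact j.2), dot_eq h1 hx, pairing]
  congr 1
  by_cases hj : j = i
  · subst hj
    rw [Pi.single_eq_same, if_pos rfl]
    exact Finset.sum_congr rfl fun k _ => by rw [hA.eq, toV_apply]
  · rw [Pi.single_eq_of_ne hj, if_neg fun h => hj (Fin.ext h)]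

theorem rep_wd {x : List ℤ} (hx : x.length = l) :
    ∀ w : List ℕ, rep cs h (wd cs w) (toV l x) = toV l (act AL w x)
  | [] => by rw [wd, map_one, Module.End.one_apply, act]
  | i :: w => by
    rw [wd, rep_mul_apply, rep_wd hx w, act]
    by_cases hi : i < l
    · rw [dif_pos hi, rep_step cs h hA ⟨i, hi⟩ (by rw [act_length, hx])]
    · rw [dif_neg hi, map_one, Module.End.one_apply]
      funext j
      rw [toV_apply, toV_apply, step, subAt_getD _ _ _ _ (by rw [act_length, hx]; exact j.2),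
        if_neg (by have := j.2; omega), sub_zero]

/-- The reflection. -/
theorem isRefl {p : List ℕ × ℕ} (hp : p.2 < l) :
    IsRefl cs h (toV l (rootOf AL l p)) (wd cs (rw' p)) := by
  refine ⟨wd cs p.1, ⟨p.2, hp⟩, ?_, ?_⟩
  · rw [rootOf, ← rep_wd cs h hA (ei_length l p.2)]
    exact congrArg _ (toV_ei ⟨p.2, hp⟩)
  · rw [rw', wd_append, wd, dif_pos hp, wd_reverse, mul_assoc]

theorem isRoot {p : List ℕ × ℕ} (hp : p.2 < l) : IsRoot cs h (toV l (rootOf AL l p)) := by
  refine ⟨wd cs p.1, ⟨p.2, hp⟩, ?_⟩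
  rw [rootOf, ← rep_wd cs h hA (ei_length l p.2)]
  exact congrArg _ (toV_ei ⟨p.2, hp⟩)

omit hA in
theorem wd_fw : ∀ g : List (List ℕ × ℕ), wd cs (fw g) = (g.map fun p => wd cs (rw' p)).prod
  | [] => rfl
  | p :: g => by
    rw [fw, List.flatMap_cons, wd_append, List.map_cons, List.prod_cons, ← wd_fw g]; rfl

/-! ### permutations of a spanning list of vectors -/

/-- `w` permutes the vectors in `T` according to `σ`. -/
structure Rel (cs : CoxeterSystem M W) (h : IsCartan M C) (T : List (List ℤ)) (w : W) (σ : List ℕ) : Prop where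
  len : σ.length = T.length
  lt : ∀ a ∈ σ, a < T.length
  eq : ∀ a < T.length, rep cs h w (toV l (T.getD a [])) = toV l (T.getD (σ.getD a 0) [])

omit hA in
theorem comp_getD {σ τ : List ℕ} {a : ℕ} (ha : a < τ.length) : (comp σ τ).getD a 0 = σ.getD (τ.getD a 0) 0 := by
  rw [comp, List.getD_eq_getElem _ _ (by rwa [List.length_map]), List.getElem_map, List.getD_eq_getElem τ _ ha]

variable {cs h}
variable {T : List (List ℤ)}

omit hA in
theorem Rel.getD_lt {w : W} {σ : List ℕ} (H : Rel cs h T w σ) {a : ℕ} (ha : a < T.length) :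
    σ.getD a 0 < T.length := by
  rw [List.getD_eq_getElem _ _ (by rwa [H.len])]
  exact H.lt _ (List.getElem_mem _)

omit hA in
theorem Rel.one : Rel cs h T 1 (List.range T.length) where
  len := List.length_range
  lt a ha := List.mem_range.1 ha
  eq a ha := by
    rw [map_one, Module.End.one_apply, List.getD_eq_getElem (List.range T.length) _ (by simpa using ha)]
    simp

omit hA in
theorem Rel.mul {w w' : W} {σ τ : List ℕ} (H : Rel cs h T w σ) (H' : Rel cs h T w' τ) :
    Rel cs h T (w * w') (comp σ τ) where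
  len := by rw [comp, List.length_map, H'.len]
  lt a ha := by
    rw [comp, List.mem_map] at ha
    obtain ⟨b, hb, rfl⟩ := ha
    exact H.getD_lt (H'.lt b hb)
  eq a ha := by
    rw [rep_mul_apply, H'.eq a ha, H.eq _ (H'.getD_lt ha), comp_getD (by rwa [H'.len])]

/-- The vectors span the lattice over `ℚ`. -/
def Spans (l : ℕ) (T : List (List ℤ)) (n : ℤ) (Cf : List (List ℤ)) : Prop :=
  n ≠ 0 ∧ ∀ i < l, (Cf.getD i []).length = T.length ∧
    ∀ j < l, dot (Cf.getD i []) (T.map fun x => x.getD j 0) = if j = i then n else 0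

omit hA in
theorem eq_one_of_spans {n : ℤ} {Cf : List (List ℤ)} (hs : Spans l T n Cf) {w : W}
    (hw : ∀ a < T.length, rep cs h w (toV l (T.getD a [])) = toV l (T.getD a [])) : w = 1 := by
  refine eq_one_of_fix cs h w fun i => ?_
  obtain ⟨hn, hs⟩ := hs
  obtain ⟨hl, hs⟩ := hs i i.2
  have h1 : n • (Pi.single i 1 : Fin l → ℤ) =
      ∑ a : Fin T.length, (Cf.getD i []).getD a 0 • toV l (T.getD a []) := by
    funext j
    have h2 := hs j j.2
    rw [dot_eq hl (List.length_map ..)] at h2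
    rw [Finset.sum_apply, Pi.smul_apply, smul_eq_mul, Pi.single_apply]
    have h3 : ∀ a : Fin T.length, (T.map fun x => x.getD j 0).getD a 0 = (T.getD a []).getD j 0 := by
      intro a
      rw [List.getD_eq_getElem _ _ (by rw [List.length_map]; exact a.2), List.getElem_map,
        List.getD_eq_getElem T _ a.2]
    simp only [h3] at h2
    simp only [Pi.smul_apply, smul_eq_mul, toV_apply]
    rw [h2]
    by_cases hj : j = i
    · subst hj; simp
    · rw [if_neg hj, if_neg fun h => hj (Fin.ext h), mul_zero]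
  have h2 : n • rep cs h w (Pi.single i 1) = n • (Pi.single i 1 : Fin l → ℤ) := by
    rw [← map_smul, h1, map_sum]
    refine Finset.sum_congr rfl fun a _ => ?_
    rw [map_smul, hw a a.2]
  funext j
  have h3 := congrFun h2 j
  simp only [Pi.smul_apply, smul_eq_mul] at h3
  exact mul_left_cancel₀ hn h3

omit hA in
theorem Rel.unique {n : ℤ} {Cf : List (List ℤ)} (hs : Spans l T n Cf) {w w' : W} {σ : List ℕ}
    (H : Rel cs h T w σ) (H' : Rel cs h T w' σ) : w = w' := by
  have h1 : w⁻¹ * w' = 1 := by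
    refine eq_one_of_spans (cs := cs) (h := h) hs fun a ha => ?_
    rw [rep_mul_apply, H'.eq a ha, ← H.eq a ha, ← rep_mul_apply, inv_mul_cancel, map_one, Module.End.one_apply]
  exact (inv_mul_eq_one.1 h1)

omit hA in
theorem getD_inj {T : List (List ℤ)} (hT : T.Nodup) {a b : ℕ} (ha : a < T.length) (hb : b < T.length)
    (e : T.getD a [] = T.getD b []) : a = b := by
  rw [List.getD_eq_getElem _ _ ha, List.getD_eq_getElem _ _ hb] at e
  exact (hT.getElem_inj_iff).1 e

omit hA in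
theorem Rel.perm_unique (hT : T.Nodup) (hTl : ∀ x ∈ T, x.length = l) {w : W} {σ τ : List ℕ}
    (H : Rel cs h T w σ) (H' : Rel cs h T w τ) : σ = τ := by
  refine List.ext_getElem (H.len.trans H'.len.symm) fun a h1 h2 => ?_
  have ha : a < T.length := by rwa [← H.len]
  have h3 := (H.eq a ha).symm.trans (H'.eq a ha)
  have h4 := H.getD_lt ha
  have h5 := H'.getD_lt ha
  have h6 := toV_inj (hTl _ (by rw [List.getD_eq_getElem _ _ h4]; exact List.getElem_mem _))
    (hTl _ (by rw [List.getD_eq_getElem _ _ h5]; exact List.getElem_mem _)) h3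
  have h7 := getD_inj hT h4 h5 h6
  rwa [List.getD_eq_getElem _ _ h1, List.getD_eq_getElem _ _ h2] at h7

end W

/-! ### the certificate -/

/-- The data of a frame. -/
structure Cert where
  /-- the Cartan matrix -/
  AL : List (List ℤ)
  /-- the vectors; the first ones are the frame -/
  T : List (List ℤ)
  /-- the generators: products of reflections, with their permutations -/
  G : List (List (List ℕ × ℕ) × List ℕ)
  /-- a polycyclic sequence of words in the generators -/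
  H : List (List ℕ)
  /-- the roots of the frame -/
  FR : List (List ℕ × ℕ)
  /-- multiplier -/
  n : ℤ
  /-- coefficients -/
  Cf : List (List ℤ)

/-- The permutations of the group. -/
def Cert.L (c : Cert) : List (List ℕ) := allProds c.T.length (c.H.map (hperm c.T.length (c.G.map Prod.snd)))

/-- The checks. -/
structure Ok (l k N : ℕ) (c : Cert) : Prop where
  Tl : ∀ x ∈ c.T, x.length = l
  Tn : c.T.Nodup
  kle : k ≤ c.T.length
  gl : ∀ g ∈ c.G, ∀ p ∈ g.1, p.2 < l
  gp : ∀ g ∈ c.G, g.2.length = c.T.length ∧ ∀ a ∈ g.2, a < c.T.length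
  ga : ∀ g ∈ c.G, ∀ a < c.T.length, act c.AL (fw g.1) (c.T.getD a []) = c.T.getD (g.2.getD a 0) []
  gi : ∀ g ∈ c.G, comp g.2 g.2 = List.range c.T.length
  span : Spans l c.T c.n c.Cf
  Hlt : ∀ w ∈ c.H, ∀ g ∈ w, g < c.G.length
  Ln : c.L.Nodup
  Lc : c.L.length = N
  Lg : ∀ g ∈ c.G, ∀ σ ∈ c.L, comp g.2 σ ∈ c.L
  Lk : ∀ σ ∈ c.L, ∀ a < k, σ.getD a 0 < k
  Lf : ∀ σ ∈ c.L, (∀ a < k, σ.getD a 0 = a) → σ = List.range c.T.length
  neg : ∀ a < k, ∀ b < k, c.T.getD a [] ≠ (c.T.getD b []).map fun x => -x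
  fr : ∀ a < k, (c.FR.getD a ([], 0)).2 < l ∧ rootOf c.AL l (c.FR.getD a ([], 0)) = c.T.getD a []

theorem range_mem_allProds (m : ℕ) : ∀ H : List (List ℕ), List.range m ∈ allProds m H
  | [] => List.mem_singleton.2 rfl
  | _ :: t => List.mem_append_left _ (range_mem_allProds m t)

theorem toV_neg {l : ℕ} (x : List ℤ) : toV l (x.map fun x => -x) = -toV l x := by
  funext i
  rw [Pi.neg_apply, toV_apply, toV_apply]
  simp only [List.getD_eq_getElem?_getD, List.getElem?_map]
  cases x[(i : ℕ)]? <;> simp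

section main

variable {l : ℕ} {W : Type*} [Group W] {M : CoxeterMatrix (Fin l)} (cs : CoxeterSystem M W)
  {C : Fin l → Fin l → ℤ} (h : IsCartan M C) {k N : ℕ} {c : Cert}

theorem wframe (hA : IsTab C c.AL) (hc : Ok l k N c) {O : (Fin l → ℤ) → (Fin l → ℤ) → Prop}
    (hO1 : ∀ a < k, ∀ b < k, a ≠ b → O (toV l (c.T.getD a [])) (toV l (c.T.getD b [])))
    (hO2 : ∀ g ∈ c.G, g.1.Pairwise fun p q => O (toV l (rootOf c.AL l p)) (toV l (rootOf c.AL l q))) :
    WFrame cs h O k N := by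
  classical
  have hRel : ∀ g ∈ c.G, Rel cs h c.T (wd cs (fw g.1)) g.2 := by
    intro g hg
    refine ⟨(hc.gp g hg).1, (hc.gp g hg).2, fun a ha => ?_⟩
    rw [rep_wd cs h hA (hc.Tl _ (by rw [List.getD_eq_getElem _ _ ha]; exact List.getElem_mem _)), hc.ga g hg a ha]
  have hinv : ∀ g ∈ c.G, (wd cs (fw g.1))⁻¹ = wd cs (fw g.1) := by
    intro g hg
    have h1 := (hRel g hg).mul (hRel g hg)
    rw [hc.gi g hg] at h1
    exact inv_eq_of_mul_eq_one_right (h1.unique hc.span Rel.one)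
  set Γ : Set W := {w | ∃ g ∈ c.G, w = wd cs (fw g.1)} with hΓ
  set P : Subgroup W := Subgroup.closure Γ with hP
  -- the elements of `P`
  have hP1 : ∀ w ∈ P, ∃ σ ∈ c.L, Rel cs h c.T w σ := by
    intro w hw
    induction hw using Subgroup.closure_induction_left with
    | one => exact ⟨_, range_mem_allProds _ _, Rel.one⟩
    | mul_left x hx y hy ih =>
      obtain ⟨g, hg, rfl⟩ := hx
      obtain ⟨σ, hσ, hr⟩ := ih
      exact ⟨_, hc.Lg g hg σ hσ, (hRel g hg).mul hr⟩
    | inv_mul_cancel x hx y hy ih =>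
      obtain ⟨g, hg, rfl⟩ := hx
      obtain ⟨σ, hσ, hr⟩ := ih
      rw [hinv g hg]
      exact ⟨_, hc.Lg g hg σ hσ, (hRel g hg).mul hr⟩
  -- all permutations occur
  have hH : ∀ w : List ℕ, (∀ g ∈ w, g < c.G.length) →
      ∃ v ∈ P, Rel cs h c.T v (hperm c.T.length (c.G.map Prod.snd) w) := by
    intro w
    induction w with
    | nil => exact fun _ => ⟨1, one_mem _, Rel.one⟩
    | cons g w ih =>
      intro hw
      obtain ⟨v, hv, hr⟩ := ih fun a ha => hw a (List.mem_cons_of_mem _ ha)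
      have hg := hw g List.mem_cons_self
      have hm := List.getElem_mem hg
      refine ⟨wd cs (fw (c.G[g]).1) * v, mul_mem (Subgroup.subset_closure ⟨_, hm, rfl⟩) hv, ?_⟩
      have h1 : (c.G.map Prod.snd).getD g [] = (c.G[g]).2 := by
        rw [List.getD_eq_getElem _ _ (by rwa [List.length_map]), List.getElem_map]
      rw [hperm, h1]
      exact (hRel _ hm).mul hr
  have hP2 : ∀ σ ∈ c.L, ∃ w ∈ P, Rel cs h c.T w σ := by
    have key : ∀ Hs : List (List ℕ), (∀ π ∈ Hs, ∃ v ∈ P, Rel cs h c.T v π) →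
        ∀ σ ∈ allProds c.T.length Hs, ∃ w ∈ P, Rel cs h c.T w σ := by
      intro Hs
      induction Hs with
      | nil =>
        intro _ σ hσ
        rw [allProds, List.mem_singleton] at hσ
        subst hσ
        exact ⟨1, one_mem _, Rel.one⟩
      | cons π t ih =>
        intro hπ σ hσ
        rw [allProds, List.mem_append] at hσ
        have ih' := ih fun π' h' => hπ π' (List.mem_cons_of_mem _ h')
        rcases hσ with hσ | hσ
        · exact ih' σ hσ
        · obtain ⟨τ, hτ, rfl⟩ := List.mem_map.1 hσ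
          obtain ⟨w, hw, hr⟩ := ih' τ hτ
          obtain ⟨v, hv, hr'⟩ := hπ π List.mem_cons_self
          exact ⟨v * w, mul_mem hv hw, hr'.mul hr⟩
    refine key _ fun π hπ => ?_
    obtain ⟨w, hw, rfl⟩ := List.mem_map.1 hπ
    exact hH w (hc.Hlt w hw)
  have hget : ∀ a < k, a < c.T.length := fun a ha => lt_of_lt_of_le ha hc.kle
  have hgl : ∀ a < c.T.length, (c.T.getD a []).length = l := fun a ha =>
    hc.Tl _ (by rw [List.getD_eq_getElem _ _ ha]; exact List.getElem_mem _)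
  refine ⟨fun a => toV l (c.T.getD a []), P, Γ, ?_, ?_, ?_, ?_, ?_, rfl, ?_⟩
  · intro a
    obtain ⟨h1, h2⟩ := hc.fr a a.2
    show IsRoot cs h (toV l (c.T.getD a []))
    rw [← h2]
    exact isRoot cs h hA h1
  · exact fun a b hab => hO1 a a.2 b b.2 fun e => hab (Fin.ext e)
  · intro w hw a
    obtain ⟨σ, hσ, hr⟩ := hP1 w hw
    exact ⟨⟨σ.getD a 0, hc.Lk σ hσ a a.2⟩, Or.inl (hr.eq a (hget a a.2))⟩
  · intro w hw hfix
    obtain ⟨σ, hσ, hr⟩ := hP1 w hw
    have h1 : ∀ a < k, σ.getD a 0 = a := by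
      intro a ha
      have h2 := hr.eq a (hget a ha)
      have h3 := hc.Lk σ hσ a ha
      rcases hfix ⟨a, ha⟩ with h4 | h4
      · have h5 := toV_inj (hgl _ (hget _ h3)) (hgl _ (hget a ha)) (h2.symm.trans h4)
        exact getD_inj hc.Tn (hget _ h3) (hget a ha) h5
      · exfalso
        have h5 : toV l (c.T.getD (σ.getD a 0) []) = toV l ((c.T.getD a []).map fun x => -x) := by
          rw [toV_neg]; exact h2.symm.trans h4
        exact hc.neg _ h3 a ha (toV_inj (hgl _ (hget _ h3)) (by rw [List.length_map]; exact hgl _ (hget a ha)) h5)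
    have h2 := hc.Lf σ hσ h1
    subst h2
    exact hr.unique hc.span Rel.one
  · -- the order
    let f : P → {σ // σ ∈ c.L} := fun w =>
      ⟨Classical.choose (hP1 w w.2), (Classical.choose_spec (hP1 w w.2)).1⟩
    have hf : ∀ w : P, Rel cs h c.T (w : W) (f w).1 := fun w => (Classical.choose_spec (hP1 w w.2)).2
    have hbij : Function.Bijective f := by
      constructor
      · intro v w e
        have h1 := hf v
        rw [e] at h1
        exact Subtype.ext (h1.unique hc.span (hf w))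
      · rintro ⟨σ, hσ⟩
        obtain ⟨w, hw, hr⟩ := hP2 σ hσ
        exact ⟨⟨w, hw⟩, Subtype.ext ((hf ⟨w, hw⟩).perm_unique hc.Tn hc.Tl hr)⟩
    rw [Nat.card_congr (Equiv.ofBijective f hbij)]
    have h1 : Nat.card {σ // σ ∈ c.L} = c.L.toFinset.card := by
      have e : {σ // σ ∈ c.L} ≃ {σ // σ ∈ c.L.toFinset} := Equiv.subtypeEquivRight fun σ => List.mem_toFinset.symm
      rw [Nat.card_congr e, Nat.card_eq_fintype_card, Fintype.card_coe]
    rw [h1, List.toFinset_card_of_nodup hc.Ln, hc.Lc]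
  · rintro w ⟨g, hg, rfl⟩
    refine ⟨g.1.map fun p => (toV l (rootOf c.AL l p), wd cs (rw' p)), ?_, ?_, ?_⟩
    · intro p hp
      obtain ⟨q, hq, rfl⟩ := List.mem_map.1 hp
      exact isRefl cs h hA (hc.gl g hg q hq)
    · exact List.pairwise_map.2 (hO2 g hg)
    · rw [wd_fw, List.map_map]; rfl

end main

end Cfsg.Agent.ClosedExc.WFr

end

-- merged: Cfsg.Agent.ClosedExc.WOrth
section

/-!
# Frames in Weyl groups: orthogonality in the tables (helper52, S1252)
-/

set_option autoImplicit false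

namespace Cfsg.Agent.ClosedExc.WFr

open CoxeterSystem Cfsg.Agent.ChevalleyStructure.CoxeterGeom Cfsg.Agent.Tits.Roots Cfsg.Agent.ClosedExc.Frame
  Cfsg.Agent.Nodes.RGDChev Cfsg.Lie Cfsg.Agent.ChevalleyStructure.RootVec
  Cfsg.Agent.ChevalleyStructure.CoxeterGeomTypes

/-- The index of a vector in a table. -/
def ix (R : List (List ℤ × ℕ)) (x : List ℤ) : ℕ := ((R.find? fun p => decide (p.1 = x)).map Prod.snd).getD 0

/-- `x` is the root with index `r`. -/
def isIx (D : ChevalleyDatum) (l : ℕ) (x : List ℤ) (r : ℕ) : Bool :=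
  (List.range l).all fun i => decide (rt D r i = x.getD i 0)

/-- `x`, `y` are orthogonal, with commuting root groups. -/
def orthL (D : ChevalleyDatum) (l : ℕ) (R : List (List ℤ × ℕ)) (x y : List ℤ) : Bool :=
  isIx D l x (ix R x) && isIx D l y (ix R y) && orthB D (ix R x) (ix R y)

theorem toV_of_isIx {D : ChevalleyDatum} {l : ℕ} {x : List ℤ} {r : ℕ} (h : isIx D l x r = true) :
    toV l x = vec D l r := by
  funext i
  rw [isIx, List.all_eq_true] at h
  have := of_decide_eq_true (h i (List.mem_range.2 i.2))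
  rw [toV_apply, vec_apply, this]

theorem orth_of {D : ChevalleyDatum} {l : ℕ} {R : List (List ℤ × ℕ)} {x y : List ℤ}
    (h : orthL D l R x y = true) : Orth D l (toV l x) (toV l y) := by
  rw [orthL, Bool.and_eq_true, Bool.and_eq_true] at h
  exact ⟨_, _, h.2, toV_of_isIx h.1.1, toV_of_isIx h.1.2⟩

end Cfsg.Agent.ClosedExc.WFr

end

-- merged: Cfsg.Agent.ClosedExc.WE6
section

/-!
# The frame of type E6 (helper52, S1252)
-/

set_option autoImplicit false
set_option maxRecDepth 100000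

namespace Cfsg.Agent.ClosedExc.WFr

open CoxeterSystem Cfsg.Agent.ChevalleyStructure.CoxeterGeom Cfsg.Agent.Tits.Roots Cfsg.Agent.ClosedExc.Frame
  Cfsg.Agent.Nodes.RGDChev Cfsg.Lie Cfsg.Agent.ChevalleyStructure.CoxeterGeomTypes

/-- E6: the certificate. -/
def cE6 : Cert where
  AL := [[2, 0, -1, 0, 0, 0], [0, 2, 0, -1, 0, 0], [-1, 0, 2, -1, 0, 0], [0, -1, -1, 2, -1, 0], [0, 0, 0, -1, 2, -1], [0, 0, 0, 0, -1, 2]]
  T := [[0, 0, 0, 0, 0, 1], [0, 0, 0, 1, 0, 0], [1, 0, 0, 0, 0, 0], [1, 2, 2, 3, 2, 1], [-1, -1, -1, -1, 0, 0], [0, -1, 0, -1, 0, 0], [0, 0, 0, 0, 1, 0], [0, 0, 1, 1, 1, 0]]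
  G := [([([3], 2), ([2], 0)], [0, 2, 1, 3, 5, 4, 7, 6]),
    ([([3, 4, 2, 3], 1), ([4, 1, 3, 2], 0)], [3, 2, 1, 0, 6, 7, 4, 5]),
    ([([5, 4, 2, 3], 1), ([3, 4, 2, 3], 1)], [1, 0, 3, 2, 4, 7, 6, 5])]
  H := [[2], [1], [0]]
  FR := [([], 5), ([], 3), ([], 0), ([1, 3, 4, 5, 2, 3, 4, 1, 3, 2], 0)]
  n := 2
  Cf := [[0, 0, 2, 0, 0, 0, 0, 0], [0, -2, 0, 0, 0, -2, 0, 0], [0, 0, -2, 0, -2, 2, 0, 0], [0, 2, 0, 0, 0, 0, 0, 0], [-1, -1, 1, 1, 2, 0, 0, 0], [2, 0, 0, 0, 0, 0, 0, 0]]

/-- The indices of the roots. -/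
def rE6 : List (List ℤ × ℕ) := [([0, 0, 0, 0, 0, 1], 36), ([0, 0, 0, 1, 0, 0], 39), ([0, 0, 1, 1, 0, 0], 43), ([0, 1, 1, 1, 1, 1], 52), ([0, 1, 1, 2, 1, 0], 53), ([1, 0, 0, 0, 0, 0], 56), ([1, 0, 1, 0, 0, 0], 57), ([1, 1, 1, 1, 1, 0], 62), ([1, 2, 2, 3, 2, 1], 71)]

theorem tabE6 : IsTab (cartanOf chevE6 6) cE6.AL where
  len := by decide +kernel
  len' := by decide +kernel
  eq := by decide +kernel

theorem okE6 : Ok 6 4 8 cE6 where
  Tl := by decide +kernel
  Tn := by decide +kernel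
  kle := by decide +kernel
  gl := by decide +kernel
  gp := by decide +kernel
  ga := by decide +kernel
  gi := by decide +kernel
  span := by unfold Spans; decide +kernel
  Hlt := by decide +kernel
  Ln := by decide +kernel
  Lc := by decide +kernel
  Lg := by decide +kernel
  Lk := by decide +kernel
  Lf := by decide +kernel
  neg := by decide +kernel
  fr := by decide +kernel

theorem orth1E6 : ∀ a < 4, ∀ b < 4, a ≠ b → orthL chevE6 6 rE6 (cE6.T.getD a []) (cE6.T.getD b []) = true := by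
  decide +kernel

theorem orth2E6 : ∀ g ∈ cE6.G, g.1.Pairwise fun p q =>
    orthL chevE6 6 rE6 (rootOf cE6.AL 6 p) (rootOf cE6.AL 6 q) = true := by
  decide +kernel

/-- **The frame of type E6.** -/
theorem wE6 {M : CoxeterMatrix (Fin 6)} (hp : IsType chevE6 6 M) {W : Type*} [Group W]
    (cs : CoxeterSystem M W) : WFrame cs hp.isCartan (Orth chevE6 6) 4 8 :=
  wframe cs hp.isCartan tabE6 okE6 (fun a ha b hb hab => orth_of (orth1E6 a ha b hb hab))
    fun g hg => (orth2E6 g hg).imp fun h => orth_of h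

end Cfsg.Agent.ClosedExc.WFr

end

-- merged: Cfsg.Agent.ClosedExc.WE7
section

/-!
# The frame of type E7 (helper52, S1252)
-/

set_option autoImplicit false
set_option maxRecDepth 100000

namespace Cfsg.Agent.ClosedExc.WFr

open CoxeterSystem Cfsg.Agent.ChevalleyStructure.CoxeterGeom Cfsg.Agent.Tits.Roots Cfsg.Agent.ClosedExc.Frame
  Cfsg.Agent.Nodes.RGDChev Cfsg.Lie Cfsg.Agent.ChevalleyStructure.CoxeterGeomTypes

/-- E7: the certificate. -/
def cE7 : Cert where
  AL := [[2, 0, -1, 0, 0, 0, 0], [0, 2, 0, -1, 0, 0, 0], [-1, 0, 2, -1, 0, 0, 0], [0, -1, -1, 2, -1, 0, 0], [0, 0, 0, -1, 2, -1, 0], [0, 0, 0, 0, -1, 2, -1], [0, 0, 0, 0, 0, -1, 2]]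
  T := [[0, 0, 0, 0, 0, 0, 1], [0, 0, 0, 0, 1, 0, 0], [0, 0, 1, 0, 0, 0, 0], [0, 1, 0, 0, 0, 0, 0], [0, 1, 1, 2, 1, 0, 0], [0, 1, 1, 2, 2, 2, 1], [2, 2, 3, 4, 3, 2, 1]]
  G := [([([6], 5), ([5], 4)], [1, 0, 2, 3, 5, 4, 6]),
    ([([5], 4), ([5, 3, 4, 2, 3], 1)], [5, 4, 2, 3, 1, 0, 6]),
    ([([3], 2), ([3], 1)], [0, 4, 3, 2, 1, 5, 6])]
  H := [[2], [1], [0]]
  FR := [([], 6), ([], 4), ([], 2), ([], 1), ([3, 4, 2, 3], 1), ([5, 6, 4, 5, 3, 4, 2, 3], 1), ([0, 2, 3, 4, 5, 6, 1, 3, 4, 5, 2, 3, 4, 1, 3, 2], 0)]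
  n := 2
  Cf := [[0, 0, -1, 0, -1, -1, 1], [0, 0, 0, 2, 0, 0, 0], [0, 0, 2, 0, 0, 0, 0], [0, -1, -1, -1, 1, 0, 0], [0, 2, 0, 0, 0, 0, 0], [-1, -1, 0, 0, -1, 1, 0], [2, 0, 0, 0, 0, 0, 0]]

/-- The indices of the roots. -/
def rE7 : List (List ℤ × ℕ) := [([0, 0, 0, 0, 0, 0, 1], 63), ([0, 0, 0, 0, 0, 1, 1], 65), ([0, 0, 0, 0, 1, 0, 0], 66), ([0, 0, 0, 0, 1, 1, 0], 67), ([0, 0, 1, 0, 0, 0, 0], 73), ([0, 0, 1, 1, 0, 0, 0], 74), ([0, 1, 0, 0, 0, 0, 0], 78), ([0, 1, 0, 1, 0, 0, 0], 79), ([0, 1, 1, 2, 1, 0, 0], 87), ([0, 1, 1, 2, 1, 1, 0], 88), ([0, 1, 1, 2, 2, 2, 1], 92), ([2, 2, 3, 4, 3, 2, 1], 125)]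

theorem tabE7 : IsTab (cartanOf chevE7 7) cE7.AL where
  len := by decide +kernel
  len' := by decide +kernel
  eq := by decide +kernel

theorem okE7 : Ok 7 7 8 cE7 where
  Tl := by decide +kernel
  Tn := by decide +kernel
  kle := by decide +kernel
  gl := by decide +kernel
  gp := by decide +kernel
  ga := by decide +kernel
  gi := by decide +kernel
  span := by unfold Spans; decide +kernel
  Hlt := by decide +kernel
  Ln := by decide +kernel
  Lc := by decide +kernel
  Lg := by decide +kernel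
  Lk := by decide +kernel
  Lf := by decide +kernel
  neg := by decide +kernel
  fr := by decide +kernel

theorem orth1E7 : ∀ a < 7, ∀ b < 7, a ≠ b → orthL chevE7 7 rE7 (cE7.T.getD a []) (cE7.T.getD b []) = true := by
  decide +kernel

theorem orth2E7 : ∀ g ∈ cE7.G, g.1.Pairwise fun p q =>
    orthL chevE7 7 rE7 (rootOf cE7.AL 7 p) (rootOf cE7.AL 7 q) = true := by
  decide +kernel

/-- **The frame of type E7.** -/
theorem wE7 {M : CoxeterMatrix (Fin 7)} (hp : IsType chevE7 7 M) {W : Type*} [Group W]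
    (cs : CoxeterSystem M W) : WFrame cs hp.isCartan (Orth chevE7 7) 7 8 :=
  wframe cs hp.isCartan tabE7 okE7 (fun a ha b hb hab => orth_of (orth1E7 a ha b hb hab))
    fun g hg => (orth2E7 g hg).imp fun h => orth_of h

end Cfsg.Agent.ClosedExc.WFr

end

-- merged: Cfsg.Agent.ClosedExc.WE8
section

/-!
# The frame of type E8 (helper52, S1252)
-/

set_option autoImplicit false
set_option maxRecDepth 100000

namespace Cfsg.Agent.ClosedExc.WFr

open CoxeterSystem Cfsg.Agent.ChevalleyStructure.CoxeterGeom Cfsg.Agent.Tits.Roots Cfsg.Agent.ClosedExc.Frame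
  Cfsg.Agent.Nodes.RGDChev Cfsg.Lie Cfsg.Agent.ChevalleyStructure.CoxeterGeomTypes

/-- E8: the certificate. -/
def cE8 : Cert where
  AL := [[2, 0, -1, 0, 0, 0, 0, 0], [0, 2, 0, -1, 0, 0, 0, 0], [-1, 0, 2, -1, 0, 0, 0, 0], [0, -1, -1, 2, -1, 0, 0, 0], [0, 0, 0, -1, 2, -1, 0, 0], [0, 0, 0, 0, -1, 2, -1, 0], [0, 0, 0, 0, 0, -1, 2, -1], [0, 0, 0, 0, 0, 0, -1, 2]]
  T := [[0, 0, 0, 0, 0, 0, 0, 1], [0, 0, 0, 0, 0, 1, 0, 0], [0, 0, 0, 1, 0, 0, 0, 0], [1, 0, 0, 0, 0, 0, 0, 0], [1, 2, 2, 3, 2, 1, 0, 0], [1, 2, 2, 3, 2, 2, 2, 1], [1, 2, 2, 4, 4, 3, 2, 1], [2, 2, 4, 5, 4, 3, 2, 1]]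
  G := [([([5], 4), ([4], 3)], [0, 2, 1, 3, 4, 6, 5, 7]),
    ([([7], 6), ([6], 5), ([3], 2), ([2], 0)], [1, 0, 3, 2, 5, 4, 7, 6]),
    ([([7], 6), ([6, 1, 3, 4, 5, 2, 3, 4, 1, 3, 2], 0)], [4, 5, 2, 3, 0, 1, 6, 7])]
  H := [[1], [1, 0, 1], [1, 0, 2, 0, 1], [2], [2, 0, 2], [0]]
  FR := [([], 7), ([], 5), ([], 3), ([], 0), ([1, 3, 4, 5, 2, 3, 4, 1, 3, 2], 0), ([6, 7, 5, 6, 1, 3, 4, 5, 2, 3, 4, 1, 3, 2], 0), ([4, 5, 6, 7, 3, 4, 5, 6, 1, 3, 4, 5, 2, 3, 4, 1, 3, 2], 0), ([2, 3, 4, 5, 6, 7, 0, 2, 3, 4, 5, 6, 1, 3, 4, 5, 2, 3, 4, 1, 3, 2], 0)]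
  n := 2
  Cf := [[0, 0, 0, 2, 0, 0, 0, 0], [0, 0, -1, 0, 1, 1, 0, -1], [0, 0, -1, -1, 0, 0, -1, 1], [0, 0, 2, 0, 0, 0, 0, 0], [0, -1, -1, 0, 0, -1, 1, 0], [0, 2, 0, 0, 0, 0, 0, 0], [-1, -1, 0, 0, -1, 1, 0, 0], [2, 0, 0, 0, 0, 0, 0, 0]]

/-- The indices of the roots. -/
def rE8 : List (List ℤ × ℕ) := [([0, 0, 0, 0, 0, 0, 0, 1], 120), ([0, 0, 0, 0, 0, 0, 1, 1], 122), ([0, 0, 0, 0, 0, 1, 0, 0], 123), ([0, 0, 0, 0, 0, 1, 1, 0], 124), ([0, 0, 0, 0, 1, 1, 0, 0], 127), ([0, 0, 0, 1, 0, 0, 0, 0], 130), ([0, 0, 0, 1, 1, 0, 0, 0], 131), ([0, 0, 1, 1, 0, 0, 0, 0], 136), ([1, 0, 0, 0, 0, 0, 0, 0], 162), ([1, 0, 1, 0, 0, 0, 0, 0], 163), ([1, 2, 2, 3, 2, 1, 0, 0], 204), ([1, 2, 2, 3, 2, 1, 1, 0], 205), ([1, 2, 2, 3, 2, 2, 2, 1], 209), ([1, 2, 2, 4, 4, 3, 2, 1], 218), ([2, 2, 4, 5, 4, 3, 2, 1], 232)]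

theorem tabE8 : IsTab (cartanOf chevE8 8) cE8.AL where
  len := by decide +kernel
  len' := by decide +kernel
  eq := by decide +kernel

theorem okE8 : Ok 8 8 64 cE8 where
  Tl := by decide +kernel
  Tn := by decide +kernel
  kle := by decide +kernel
  gl := by decide +kernel
  gp := by decide +kernel
  ga := by decide +kernel
  gi := by decide +kernel
  span := by unfold Spans; decide +kernel
  Hlt := by decide +kernel
  Ln := by decide +kernel
  Lc := by decide +kernel
  Lg := by decide +kernel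
  Lk := by decide +kernel
  Lf := by decide +kernel
  neg := by decide +kernel
  fr := by decide +kernel

theorem orth1E8 : ∀ a < 8, ∀ b < 8, a ≠ b → orthL chevE8 8 rE8 (cE8.T.getD a []) (cE8.T.getD b []) = true := by
  decide +kernel

theorem orth2E8 : ∀ g ∈ cE8.G, g.1.Pairwise fun p q =>
    orthL chevE8 8 rE8 (rootOf cE8.AL 8 p) (rootOf cE8.AL 8 q) = true := by
  decide +kernel

/-- **The frame of type E8.** -/
theorem wE8 {M : CoxeterMatrix (Fin 8)} (hp : IsType chevE8 8 M) {W : Type*} [Group W]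
    (cs : CoxeterSystem M W) : WFrame cs hp.isCartan (Orth chevE8 8) 8 64 :=
  wframe cs hp.isCartan tabE8 okE8 (fun a ha b hb hab => orth_of (orth1E8 a ha b hb hab))
    fun g hg => (orth2E8 g hg).imp fun h => orth_of h

end Cfsg.Agent.ClosedExc.WFr

end

-- merged: Cfsg.Agent.ClosedExc.WF4
section

/-!
# The frame of type F4 (helper52, S1252)
-/

set_option autoImplicit false
set_option maxRecDepth 100000

namespace Cfsg.Agent.ClosedExc.WFr

open CoxeterSystem Cfsg.Agent.ChevalleyStructure.CoxeterGeom Cfsg.Agent.Tits.Roots Cfsg.Agent.ClosedExc.Frame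
  Cfsg.Agent.Nodes.RGDChev Cfsg.Lie Cfsg.Agent.ChevalleyStructure.CoxeterGeomTypes

/-- F4: the certificate. -/
def cF4 : Cert where
  AL := [[2, -1, 0, 0], [-1, 2, -2, 0], [0, -1, 2, -1], [0, 0, -1, 2]]
  T := [[0, 0, 0, 1], [0, 2, 2, 1], [2, 2, 2, 1], [2, 4, 2, 1]]
  G := [([([], 1)], [0, 1, 3, 2]),
    ([([2], 1)], [1, 0, 2, 3]),
    ([([], 2), ([0, 1], 2)], [2, 3, 0, 1])]
  H := [[2], [1], [0]]
  FR := [([], 3), ([2, 3, 1], 2), ([2, 3, 0, 1], 2), ([1, 2, 3, 0, 1], 2)]
  n := 2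
  Cf := [[0, -1, 1, 0], [0, 0, -1, 1], [-1, 1, 1, -1], [2, 0, 0, 0]]

/-- The indices of the roots. -/
def rF4 : List (List ℤ × ℕ) := [([0, 0, 0, 1], 24), ([0, 0, 1, 0], 25), ([0, 1, 0, 0], 27), ([0, 1, 1, 0], 28), ([0, 2, 2, 1], 32), ([2, 2, 1, 0], 41), ([2, 2, 2, 1], 43), ([2, 4, 2, 1], 45)]

theorem tabF4 : IsTab (cartanOf chevF4 4) cF4.AL where
  len := by decide +kernel
  len' := by decide +kernel
  eq := by decide +kernel

theorem okF4 : Ok 4 4 8 cF4 where
  Tl := by decide +kernel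
  Tn := by decide +kernel
  kle := by decide +kernel
  gl := by decide +kernel
  gp := by decide +kernel
  ga := by decide +kernel
  gi := by decide +kernel
  span := by unfold Spans; decide +kernel
  Hlt := by decide +kernel
  Ln := by decide +kernel
  Lc := by decide +kernel
  Lg := by decide +kernel
  Lk := by decide +kernel
  Lf := by decide +kernel
  neg := by decide +kernel
  fr := by decide +kernel

theorem orth1F4 : ∀ a < 4, ∀ b < 4, a ≠ b → orthL chevF4 4 rF4 (cF4.T.getD a []) (cF4.T.getD b []) = true := by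
  decide +kernel

theorem orth2F4 : ∀ g ∈ cF4.G, g.1.Pairwise fun p q =>
    orthL chevF4 4 rF4 (rootOf cF4.AL 4 p) (rootOf cF4.AL 4 q) = true := by
  decide +kernel

/-- **The frame of type F4.** -/
theorem wF4 {M : CoxeterMatrix (Fin 4)} (hp : IsType chevF4 4 M) {W : Type*} [Group W]
    (cs : CoxeterSystem M W) : WFrame cs hp.isCartan (Orth chevF4 4) 4 8 :=
  wframe cs hp.isCartan tabF4 okF4 (fun a ha b hb hab => orth_of (orth1F4 a ha b hb hab))
    fun g hg => (orth2F4 g hg).imp fun h => orth_of h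

end Cfsg.Agent.ClosedExc.WFr

end

-- merged: Cfsg.Agent.ClosedExc.Rows
section

/-!
# The rows of the exceptional groups of Lie type in odd characteristic, in the format of `ClosedRed.LieRows` (helper50)

`g2`, `f4`, `e6`, `e7`, `e8`, `twD4` (`²E₆(q)`: `ClosedTw/Row.lean`, helper75); frames in the Weyl groups: helper52.
-/

set_option autoImplicit false

namespace Cfsg.Agent.ClosedExc.Rows

open Cfsg Cfsg.Lie Cfsg.Agent.ClosedExc.Families Cfsg.Agent.ClosedExc.Frame
  Cfsg.Agent.ChevalleyStructure.CoxeterGeom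
open Cfsg.Agent.ClosedTwo (ClosedRow)

universe u

/-- simple groups: the centre may be assumed to be trivial -/
theorem closedRow_of_cen {G : Type u} [Group G] [Finite G] [IsSimpleGroup G]
    (h : (∀ z : G, (∀ y, z * y = y * z) → z = 1) → ClosedRow G) : ClosedRow G := by
  rcases (inferInstance : (Subgroup.center G).Normal).eq_bot_or_eq_top with h1 | h1
  · refine h fun z hz => ?_
    have h2 : z ∈ Subgroup.center G := Subgroup.mem_center_iff.2 fun y => (hz y).symm
    rw [h1, Subgroup.mem_bot] at h2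
    exact h2
  · intro S A hA
    have hn : A.Normal := by
      refine ⟨fun n hn g => ?_⟩
      have h2 : n ∈ Subgroup.center G := by rw [h1]; exact Subgroup.mem_top n
      rw [Subgroup.mem_center_iff.1 h2 g, mul_inv_cancel_right]
      exact hn
    rcases hn.eq_bot_or_eq_top with h2 | h2
    · exact Or.inl h2
    · right
      apply le_antisymm hA.1
      rw [h2]
      exact le_top

theorem odd_card {r : ℕ} (hr : r.Prime) (hr2 : r ≠ 2) (F : Type) [Field F] [Fintype F] [CharP F r] :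
    Odd (Fintype.card F) := by
  have : Fact r.Prime := ⟨hr⟩
  obtain ⟨n, -, hn⟩ := FiniteField.card F r
  rw [hn]
  exact (hr.odd_of_ne_two hr2).pow

/-- transport along an isomorphism -/
theorem transport {G : Type u} [Group G] [Finite G] [IsSimpleGroup G] {H : Type} [Group H]
    (e : Nonempty (G ≃* H)) (h : (∀ z : H, (∀ y, z * y = y * z) → z = 1) → ClosedRow H) : ClosedRow G := by
  obtain ⟨e⟩ := e
  have hfin : Finite H := Finite.of_equiv G e.toEquiv
  refine closedRow_of_cen fun hcen => Cfsg.Agent.ClosedTwo.ClosedRow.congr e.symm (h fun z hz => ?_)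
  have h1 := hcen (e.symm z) fun y => by
    apply e.injective
    rw [map_mul, map_mul, e.apply_symm_apply]
    exact hz (e y)
  rw [← e.apply_symm_apply z, h1, map_one]

variable {G : Type u} [Group G] [Finite G] [IsSimpleGroup G] {r : ℕ} (hr : r.Prime) (hr2 : r ≠ 2)

include hr hr2

theorem g2 (F : Type) [Field F] [Fintype F] [CharP F r] (e : Nonempty (G ≃* chevG2.group F)) : ClosedRow G :=
  transport e fun hcen => row_G2 F (odd_card hr hr2 F) hcen

theorem f4_of {O : (Fin 4 → ℤ) → (Fin 4 → ℤ) → Prop} (hO : ∀ x y, O x y → Orth chevF4 4 x y)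
    (hw : WFrame CoxeterMatrix.F₄.toCoxeterSystem isType_F4.isCartan O 4 8)
    (F : Type) [Field F] [Fintype F] [CharP F r] (e : Nonempty (G ≃* chevF4.group F)) : ClosedRow G :=
  transport e fun hcen => row_F4 F (odd_card hr hr2 F) hcen _ hO hw

theorem e6_of (hw : WFrame CoxeterMatrix.E₆.toCoxeterSystem isType_E6.isCartan (Orth chevE6 6) 4 8)
    (F : Type) [Field F] [Fintype F] [CharP F r] (e : Nonempty (G ≃* chevE6.group F)) : ClosedRow G :=
  transport e fun hcen => row_E6 F (odd_card hr hr2 F) hcen _ hw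

theorem e7_of (hw : WFrame CoxeterMatrix.E₇.toCoxeterSystem isType_E7.isCartan (Orth chevE7 7) 7 8)
    (F : Type) [Field F] [Fintype F] [CharP F r] (e : Nonempty (G ≃* chevE7.group F)) : ClosedRow G :=
  transport e fun hcen => row_E7 F (odd_card hr hr2 F) hcen _ hw

theorem e8_of (hw : WFrame CoxeterMatrix.E₈.toCoxeterSystem isType_E8.isCartan (Orth chevE8 8) 8 64)
    (F : Type) [Field F] [Fintype F] [CharP F r] (e : Nonempty (G ≃* chevE8.group F)) : ClosedRow G :=
  transport e fun hcen => row_E8 F (odd_card hr hr2 F) hcen _ hw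

theorem f4 (F : Type) [Field F] [Fintype F] [CharP F r] (e : Nonempty (G ≃* chevF4.group F)) : ClosedRow G :=
  f4_of hr hr2 (fun _ _ h => h) (WFr.wF4 isType_F4 _) F e

theorem e6 (F : Type) [Field F] [Fintype F] [CharP F r] (e : Nonempty (G ≃* chevE6.group F)) : ClosedRow G :=
  e6_of hr hr2 (WFr.wE6 isType_E6 _) F e

theorem e7 (F : Type) [Field F] [Fintype F] [CharP F r] (e : Nonempty (G ≃* chevE7.group F)) : ClosedRow G :=
  e7_of hr hr2 (WFr.wE7 isType_E7 _) F e

theorem e8 (F : Type) [Field F] [Fintype F] [CharP F r] (e : Nonempty (G ≃* chevE8.group F)) : ClosedRow G :=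
  e8_of hr hr2 (WFr.wE8 isType_E8 _) F e

/-- the number `q` is odd -/
theorem odd_q {q k : ℕ} (K : Type) [Field K] [Fintype K] [CharP K r] (hK : Fintype.card K = q ^ k) (hk : k ≠ 0) :
    Odd q := by
  have h1 := odd_card hr hr2 K
  rw [hK] at h1
  exact (Nat.odd_pow_iff hk).1 h1

theorem twD4 (K : Type) [Field K] [Fintype K] [CharP K r] (q : ℕ) (hq : IsPrimePow q)
    (hK : Fintype.card K = q ^ 3) (e : Nonempty (G ≃* twistedD4 K q)) : ClosedRow G :=
  transport e fun hcen => TwD4.row_twD4 K hq hK (odd_q hr hr2 K hK (by norm_num)) hcen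

end Cfsg.Agent.ClosedExc.Rows

end
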