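import Mathlib
import Cfsg.Agent.Lib.SL2Mat

/-!
# Elements of 2-power order in `SL(2,q)`, `q` odd (helper50, S1252)

* `conj_sq` : all `v` with `v * v = -1` are conjugate;
* `exists_inverting` : an element of 2-power order different from `1`, `-1` is inverted by some `y` with `y * y = -1`;
* `exists_pow_sq` : and has a power `v` with `v * v = -1`;
* `eq_of_central` : an element commuting with everything up to sign is `1` or `-1`.
-/

set_option autoImplicit false
set_option linter.unusedSectionVars false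

namespace Cfsg.Agent.ClosedExc.SL

open Matrix Cfsg.Agent.Lib.SL2Mat

variable {F : Type*} [Field F]

local notation "SL2" => Matrix.SpecialLinearGroup (Fin 2) F

theorem ent_neg (x : SL2) (i j : Fin 2) : ent (-x) i j = -ent x i j := rfl

/-- trace zero -/
theorem sq_iff (h2 : (2 : F) ≠ 0) (v : SL2) : v * v = -1 ↔ ent v 0 0 + ent v 1 1 = 0 := by
  have hd := det_eq v
  constructor
  · intro h
    have h00 : ent (v * v) 0 0 = -1 := by rw [h, ent_neg, ent_one_00]
    have h01 : ent (v * v) 0 1 = 0 := by rw [h, ent_neg, ent_one_01, neg_zero]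
    have h10 : ent (v * v) 1 0 = 0 := by rw [h, ent_neg, ent_one_10, neg_zero]
    have h11 : ent (v * v) 1 1 = -1 := by rw [h, ent_neg, ent_one_11]
    rw [ent_mul] at h00 h01 h10 h11
    by_contra ht
    have e1 : ent v 0 1 = 0 := by
      have : ent v 0 1 * (ent v 0 0 + ent v 1 1) = 0 := by linear_combination h01
      exact (mul_eq_zero.1 this).resolve_right ht
    have e2 : ent v 1 0 = 0 := by
      have : ent v 1 0 * (ent v 0 0 + ent v 1 1) = 0 := by linear_combination h10
      exact (mul_eq_zero.1 this).resolve_right ht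
    rw [e1, e2] at h00 h11
    rw [e1, e2] at hd
    have e3 : (ent v 0 0 + ent v 1 1) * (ent v 0 0 + ent v 1 1) = 0 := by
      linear_combination h00 + h11 + 2 * hd
    exact ht (mul_self_eq_zero.1 e3)
  · intro ht
    have e : ent v 1 1 = - ent v 0 0 := by linear_combination ht
    refine ext_ent ?_ ?_ ?_ ?_ <;> rw [ent_mul, ent_neg]
    · rw [ent_one_00]; rw [e] at hd; linear_combination -hd
    · rw [ent_one_01, e]; ring
    · rw [ent_one_10, e]; ring
    · rw [ent_one_11]; rw [e] at hd ⊢; linear_combination -hd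

section fin

variable [Fintype F] (hF : Odd (Fintype.card F))

include hF

theorem two_ne : (2 : F) ≠ 0 := by
  intro h
  obtain ⟨k, hk⟩ := hF
  have h1 : ((Fintype.card F : ℕ) : F) = 0 := by
    exact FiniteField.cast_card_eq_zero F
  rw [hk] at h1
  push_cast at h1
  rw [h] at h1
  simp at h1

/-- `a X² + b Y² = c` is solvable -/
theorem exists_quad (a b c : F) (ha : a ≠ 0) (hb : b ≠ 0) : ∃ x y : F, a * x ^ 2 + b * y ^ 2 = c := by
  obtain ⟨x, y, h⟩ := FiniteField.exists_root_sum_quadratic (R := F)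
    (f := Polynomial.C a * Polynomial.X ^ 2) (g := Polynomial.C b * Polynomial.X ^ 2 - Polynomial.C c)
    (Polynomial.degree_C_mul_X_pow 2 ha)
    (by
      rw [Polynomial.degree_sub_eq_left_of_degree_lt, Polynomial.degree_C_mul_X_pow 2 hb]
      · rfl
      · rw [Polynomial.degree_C_mul_X_pow 2 hb]
        exact lt_of_le_of_lt Polynomial.degree_C_le (by norm_num))
    (Nat.odd_iff.1 hF)
  refine ⟨x, y, ?_⟩
  simp only [Polynomial.eval_mul, Polynomial.eval_C, Polynomial.eval_pow, Polynomial.eval_X,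
    Polynomial.eval_sub] at h
  linear_combination h

/-- all elements with square `-1` are conjugate to the standard one -/
theorem conj_std {v : SL2} (hv : v * v = -1) : ∃ g : SL2, v * g = g * wm (-1 : F) (by simp) := by
  have h2 := two_ne hF
  have ht := (sq_iff h2 v).1 hv
  have hd := det_eq v
  have e : ent v 1 1 = - ent v 0 0 := by linear_combination ht
  -- a vector x with det (x | v x) = 1
  have key : ∃ x y : F, x * (ent v 1 0 * x + ent v 1 1 * y) - (ent v 0 0 * x + ent v 0 1 * y) * y = 1 := by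
    by_cases hc : ent v 1 0 = 0
    · by_cases hb : ent v 0 1 = 0
      · rw [hc, hb, e] at hd ⊢
        have ha : ent v 0 0 ≠ 0 := by
          rintro h; rw [h] at hd; simp at hd
        refine ⟨1, -1 / (2 * ent v 0 0), ?_⟩
        field_simp
        ring
      · obtain ⟨X, Y, h⟩ := exists_quad hF (-1 : F) (-1) (ent v 0 1) (by simp) (by simp)
        -- -b Q = (b y + a x)² + x² (-a² - bc) ; Q = 1
        refine ⟨X, (Y - ent v 0 0 * X) / ent v 0 1, ?_⟩
        rw [e] at hd ⊢
        rw [hc] at hd ⊢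
        field_simp
        have hd' : ent v 0 0 * ent v 0 0 = -1 := by linear_combination -hd
        linear_combination h + X ^ 2 * hd'
    · obtain ⟨X, Y, h⟩ := exists_quad hF (1 : F) 1 (ent v 1 0) (by simp) (by simp)
      refine ⟨(X + ent v 0 0 * Y) / ent v 1 0, Y, ?_⟩
      rw [e] at hd ⊢
      field_simp
      linear_combination h + Y ^ 2 * hd
  obtain ⟨x, y, hxy⟩ := key
  refine ⟨mk x (ent v 0 0 * x + ent v 0 1 * y) y (ent v 1 0 * x + ent v 1 1 * y) (by linear_combination hxy), ?_⟩
  have hvv00 : ent v 0 0 * ent v 0 0 + ent v 0 1 * ent v 1 0 = -1 := by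
    rw [e] at hd; linear_combination -hd
  refine ext_ent ?_ ?_ ?_ ?_ <;> simp only [ent_mul, mk_00, mk_01, mk_10, mk_11, wm_00, wm_01, wm_10, wm_11]
  · simp
  · rw [e]; linear_combination x * hvv00
  · simp
  · rw [e]; linear_combination y * hvv00

theorem conj_sq {v w : SL2} (hv : v * v = -1) (hw : w * w = -1) : ∃ g : SL2, g * v * g⁻¹ = w := by
  obtain ⟨a, ha⟩ := conj_std hF hv
  obtain ⟨b, hb⟩ := conj_std hF hw
  refine ⟨b * a⁻¹, ?_⟩
  have e1 : a⁻¹ * v * a = wm (-1 : F) (by simp) := by rw [mul_assoc, ha, inv_mul_cancel_left]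
  have e2 : w = b * wm (-1 : F) (by simp) * b⁻¹ := by rw [← hb, mul_inv_cancel_right]
  rw [e2, ← e1]
  group

/-- an element with trace `2` -/
theorem pow_of_trace {w : SL2} (ht : ent w 0 0 + ent w 1 1 = 2) (n : ℕ) :
    ent (w ^ n) 0 0 = 1 + n * (ent w 0 0 - 1) ∧ ent (w ^ n) 0 1 = n * ent w 0 1 ∧
      ent (w ^ n) 1 0 = n * ent w 1 0 ∧ ent (w ^ n) 1 1 = 1 + n * (ent w 1 1 - 1) := by
  have hd := det_eq w
  have e : ent w 1 1 = 2 - ent w 0 0 := by linear_combination ht
  rw [e] at hd
  induction n with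
  | zero => simp
  | succ n ih =>
    obtain ⟨h1, h2, h3, h4⟩ := ih
    rw [e] at h4
    refine ⟨?_, ?_, ?_, ?_⟩ <;> rw [pow_succ, ent_mul]
    · rw [h1, h2]; push_cast; linear_combination -(n : F) * hd
    · rw [h1, h2, e]; push_cast; ring
    · rw [h3, h4]; push_cast; ring
    · rw [h3, h4, e]; push_cast; linear_combination -(n : F) * hd

theorem pow_card_of_trace {w : SL2} (ht : ent w 0 0 + ent w 1 1 = 2) : w ^ Fintype.card F = 1 := by
  obtain ⟨h1, h2, h3, h4⟩ := pow_of_trace hF ht (Fintype.card F)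
  have h0 : ((Fintype.card F : ℕ) : F) = 0 := FiniteField.cast_card_eq_zero F
  rw [h0] at h1 h2 h3 h4
  refine ext_ent ?_ ?_ ?_ ?_
  · rw [h1, ent_one_00]; ring
  · rw [h2, ent_one_01]; ring
  · rw [h3, ent_one_10]; ring
  · rw [h4, ent_one_11]; ring

theorem eq_of_sq {w : SL2} (h : w * w = 1) : w = 1 ∨ w = -1 := by
  have h2 := two_ne hF
  have hd := det_eq w
  have h00 : ent (w * w) 0 0 = 1 := by rw [h, ent_one_00]
  have h01 : ent (w * w) 0 1 = 0 := by rw [h, ent_one_01]
  have h10 : ent (w * w) 1 0 = 0 := by rw [h, ent_one_10]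
  have h11 : ent (w * w) 1 1 = 1 := by rw [h, ent_one_11]
  rw [ent_mul] at h00 h01 h10 h11
  have ht : ent w 0 0 + ent w 1 1 ≠ 0 := by
    intro ht
    have := (sq_iff h2 w).2 ht
    rw [h] at this
    have h3 : ent (1 : SL2) 0 0 = ent (-1 : SL2) 0 0 := congrArg (fun x => ent x 0 0) this
    rw [ent_neg, ent_one_00] at h3
    exact h2 (by linear_combination h3)
  have e1 : ent w 0 1 = 0 := by
    have : ent w 0 1 * (ent w 0 0 + ent w 1 1) = 0 := by linear_combination h01
    exact (mul_eq_zero.1 this).resolve_right ht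
  have e2 : ent w 1 0 = 0 := by
    have : ent w 1 0 * (ent w 0 0 + ent w 1 1) = 0 := by linear_combination h10
    exact (mul_eq_zero.1 this).resolve_right ht
  rw [e1] at h00 hd
  have e3 : ent w 0 0 = ent w 1 1 := by
    have e4 : (ent w 0 0 - ent w 1 1) * (ent w 0 0 + ent w 1 1) = 0 := by
      rw [e2] at h00 h11; rw [e1] at h11; linear_combination h00 - h11
    have := (mul_eq_zero.1 e4).resolve_right ht
    linear_combination this
  have e5 : (ent w 0 0 - 1) * (ent w 0 0 + 1) = 0 := by linear_combination h00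
  rcases mul_eq_zero.1 e5 with h5 | h5
  · left
    refine ext_ent ?_ e1 e2 ?_
    · rw [ent_one_00]; linear_combination h5
    · rw [ent_one_11, ← e3]; linear_combination h5
  · right
    refine ext_ent ?_ ?_ ?_ ?_ <;> rw [ent_neg]
    · rw [ent_one_00]; linear_combination h5
    · rw [ent_one_01, e1, neg_zero]
    · rw [ent_one_10, e2, neg_zero]
    · rw [ent_one_11, ← e3]; linear_combination h5

/-- the trace of an element of 2-power order -/
theorem trace_ne {w : SL2} {k : ℕ} (hw : w ^ 2 ^ k = 1) (h1 : w ≠ 1) (h2 : w ≠ -1) :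
    (ent w 0 0 + ent w 1 1) ^ 2 ≠ 4 := by
  intro h
  have hcop : Nat.Coprime (Fintype.card F) (2 ^ k) := Nat.Coprime.pow_right k (Nat.coprime_two_right.2 hF)
  have h3 : (ent w 0 0 + ent w 1 1 - 2) * (ent w 0 0 + ent w 1 1 + 2) = 0 := by linear_combination h
  rcases mul_eq_zero.1 h3 with h3 | h3
  · have h4 := pow_card_of_trace hF (w := w) (by linear_combination h3)
    have h5 := pow_gcd_eq_one.2 ⟨h4, hw⟩
    rw [Nat.Coprime] at hcop
    rw [hcop, pow_one] at h5
    exact h1 h5
  · have h4 := pow_card_of_trace hF (w := -w) (by rw [ent_neg, ent_neg]; linear_combination -h3)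
    have h5 : w ^ Fintype.card F = -1 := by
      rw [hF.neg_pow] at h4
      rw [← h4, neg_neg]
    have h6 : w ^ (Fintype.card F * 2) = 1 := by rw [pow_mul, h5]; simp
    have h7 : w ^ (2 ^ k * 2) = 1 := by rw [pow_mul, hw, one_pow]
    have h8 := pow_gcd_eq_one.2 ⟨h6, h7⟩
    rw [Nat.gcd_mul_right] at h8
    rw [Nat.Coprime] at hcop
    rw [hcop, one_mul, pow_two] at h8
    rcases eq_of_sq hF h8 with h9 | h9
    · exact h1 h9
    · exact h2 h9

/-- **An element of 2-power order is inverted by an element of square `-1`.** -/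
theorem exists_inverting {w : SL2} {k : ℕ} (hw : w ^ 2 ^ k = 1) (h1 : w ≠ 1) (h2 : w ≠ -1) :
    ∃ y : SL2, y * y = -1 ∧ (y * w) * (y * w) = -1 := by
  have h20 := two_ne hF
  have ht := trace_ne hF hw h1 h2
  have hd := det_eq w
  suffices h : ∃ x m n : F, -x ^ 2 - m * n = 1 ∧
      x * (ent w 0 0 - ent w 1 1) + m * ent w 1 0 + n * ent w 0 1 = 0 by
    obtain ⟨x, m, n, e1, e2⟩ := h
    refine ⟨mk x m n (-x) (by linear_combination e1), (sq_iff h20 _).2 ?_, (sq_iff h20 _).2 ?_⟩
    · rw [mk_00, mk_11]; ring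
    · rw [ent_mul, ent_mul, mk_00, mk_01, mk_10, mk_11]
      linear_combination e2
  have hδ : (ent w 0 0 - ent w 1 1) ^ 2 + 4 * ent w 0 1 * ent w 1 0 ≠ 0 := by
    intro h
    apply ht
    linear_combination h + 4 * hd
  by_cases hc : ent w 1 0 = 0
  · rw [hc] at hδ
    have ha : ent w 0 0 - ent w 1 1 ≠ 0 := by
      intro h; rw [h] at hδ; simp at hδ
    by_cases hb : ent w 0 1 = 0
    · refine ⟨0, 1, -1, by ring, ?_⟩
      rw [hb, hc]; ring
    · refine ⟨1, 2 * ent w 0 1 / (ent w 0 0 - ent w 1 1), -(ent w 0 0 - ent w 1 1) / ent w 0 1, ?_, ?_⟩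
      · field_simp; ring
      · rw [hc]; field_simp; ring
  · obtain ⟨X, n, h⟩ := exists_quad hF (1 : F) (-((ent w 0 0 - ent w 1 1) ^ 2 + 4 * ent w 0 1 * ent w 1 0))
      (-4 * ent w 1 0 ^ 2) one_ne_zero (neg_ne_zero.2 hδ)
    refine ⟨(X + (ent w 0 0 - ent w 1 1) * n) / (2 * ent w 1 0),
      -((X + (ent w 0 0 - ent w 1 1) * n) / (2 * ent w 1 0) * (ent w 0 0 - ent w 1 1) + n * ent w 0 1) / ent w 1 0,
      n, ?_, ?_⟩
    · field_simp
      linear_combination -h
    · field_simp
      ring

omit hF in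
/-- inversion -/
theorem inv_of_inverting {y w : SL2} (hy : y * y = -1) (h : (y * w) * (y * w) = -1) : y * w * y⁻¹ = w⁻¹ := by
  have hyi : y⁻¹ = -y := inv_eq_of_mul_eq_one_right (by rw [mul_neg, hy, neg_neg])
  refine eq_inv_of_mul_eq_one_left ?_
  rw [hyi, mul_neg, neg_mul]
  rw [show y * w * y * w = (y * w) * (y * w) by group, h, neg_neg]

/-- an element of 2-power order different from `1`, `-1` has a power of square `-1` -/
theorem exists_pow_sq {w : SL2} {k : ℕ} (hw : w ^ 2 ^ k = 1) (h1 : w ≠ 1) (h2 : w ≠ -1) :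
    ∃ n : ℕ, w ^ n * w ^ n = -1 := by
  induction k generalizing w with
  | zero => exact absurd (by simpa using hw) h1
  | succ k ih =>
    have h3 : (w ^ 2) ^ 2 ^ k = 1 := by rw [← pow_mul, ← pow_succ', hw]
    by_cases h4 : w ^ 2 = 1
    · rcases eq_of_sq hF (by rw [← pow_two]; exact h4) with h | h
      · exact absurd h h1
      · exact absurd h h2
    by_cases h5 : w ^ 2 = -1
    · exact ⟨1, by rw [pow_one, ← pow_two]; exact h5⟩
    obtain ⟨n, hn⟩ := ih h3 h4 h5
    exact ⟨2 * n, by rwa [pow_mul]⟩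

/-- for every `v` of square `-1` there is `u` of square `-1` such that `u v⁻¹` has square `-1` and `u` inverts `v` -/
theorem exists_quat {v : SL2} (hv : v * v = -1) :
    ∃ u : SL2, u * u = -1 ∧ (u * v) * (u * v) = -1 ∧ (v * u⁻¹) * (v * u⁻¹) = -1 ∧ u * v * u⁻¹ = v⁻¹ := by
  have h20 := two_ne hF
  have hne : ((-1 : SL2)) ≠ 1 := by
    intro h
    have : ent (-1 : SL2) 0 0 = ent (1 : SL2) 0 0 := by rw [h]
    rw [ent_neg, ent_one_00] at this
    exact h20 (by linear_combination -this)
  have h1 : v ≠ 1 := by rintro rfl; rw [mul_one] at hv; exact hne hv.symm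
  have h2 : v ≠ -1 := by
    rintro rfl
    rw [neg_mul_neg, mul_one] at hv; exact hne hv.symm
  have h4 : v ^ 2 ^ 2 = 1 := by
    rw [show (2 : ℕ) ^ 2 = 2 * 2 by norm_num, pow_mul, pow_two, pow_two, hv]; simp
  obtain ⟨u, hu, huv⟩ := exists_inverting hF h4 h1 h2
  have hinv := inv_of_inverting hu huv
  refine ⟨u, hu, huv, ?_, hinv⟩
  have hui : u⁻¹ = -u := inv_eq_of_mul_eq_one_right (by rw [mul_neg, hu, neg_neg])
  have hvi : v⁻¹ = -v := inv_eq_of_mul_eq_one_right (by rw [mul_neg, hv, neg_neg])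
  rw [hvi, hui, mul_neg, neg_inj] at hinv
  -- u v u = v
  rw [hui, mul_neg, neg_mul_neg]
  rw [show v * u * (v * u) = v * (u * v * u) by group, hinv, hv]

/-- an element commuting with everything up to sign -/
theorem eq_of_central {v : SL2} (h : ∀ u : SL2, v * u = u * v ∨ v * u = -(u * v)) : v = 1 ∨ v = -1 := by
  have h20 := two_ne hF
  have hu : v * up (1 : F) = up (1 : F) * v := by
    rcases h (up 1) with h1 | h1
    · exact h1
    · exfalso
      have e1 : ent (v * up (1 : F)) 0 0 = - ent (up (1 : F) * v) 0 0 := by rw [h1, ent_neg]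
      have e2 : ent (v * up (1 : F)) 1 0 = - ent (up (1 : F) * v) 1 0 := by rw [h1, ent_neg]
      have e3 : ent (v * up (1 : F)) 1 1 = - ent (up (1 : F) * v) 1 1 := by rw [h1, ent_neg]
      have e4 : ent (v * up (1 : F)) 0 1 = - ent (up (1 : F) * v) 0 1 := by rw [h1, ent_neg]
      simp only [ent_mul, up_00, up_01, up_10, up_11] at e1 e2 e3 e4
      have f1 : ent v 1 0 = 0 := by
        have : 2 * ent v 1 0 = 0 := by linear_combination e2
        exact (mul_eq_zero.1 this).resolve_left h20
      rw [f1] at e1 e3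
      have f2 : ent v 0 0 = 0 := by
        have : 2 * ent v 0 0 = 0 := by linear_combination e1
        exact (mul_eq_zero.1 this).resolve_left h20
      have := det_eq v
      rw [f1, f2] at this
      simp at this
  have hl : v * lo (1 : F) = lo (1 : F) * v := by
    rcases h (lo 1) with h1 | h1
    · exact h1
    · exfalso
      have e1 : ent (v * lo (1 : F)) 0 0 = - ent (lo (1 : F) * v) 0 0 := by rw [h1, ent_neg]
      have e2 : ent (v * lo (1 : F)) 0 1 = - ent (lo (1 : F) * v) 0 1 := by rw [h1, ent_neg]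
      simp only [ent_mul, lo_00, lo_01, lo_10, lo_11] at e1 e2
      have f1 : ent v 0 1 = 0 := by
        have : 2 * ent v 0 1 = 0 := by linear_combination e2
        exact (mul_eq_zero.1 this).resolve_left h20
      rw [f1] at e1
      have f2 : ent v 0 0 = 0 := by
        have : 2 * ent v 0 0 = 0 := by linear_combination e1
        exact (mul_eq_zero.1 this).resolve_left h20
      have := det_eq v
      rw [f1, f2] at this
      simp at this
  have e1 : ent (v * up (1 : F)) 0 0 = ent (up (1 : F) * v) 0 0 := by rw [hu]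
  have e2 : ent (v * up (1 : F)) 0 1 = ent (up (1 : F) * v) 0 1 := by rw [hu]
  have e3 : ent (v * lo (1 : F)) 0 0 = ent (lo (1 : F) * v) 0 0 := by rw [hl]
  simp only [ent_mul, up_00, up_01, up_10, up_11, lo_00, lo_01, lo_10, lo_11] at e1 e2 e3
  have f1 : ent v 1 0 = 0 := by linear_combination -e1
  have f2 : ent v 0 1 = 0 := by linear_combination e3
  have f3 : ent v 0 0 = ent v 1 1 := by linear_combination e2
  refine eq_of_sq hF ?_
  have hd := det_eq v
  rw [f1, f2, ← f3] at hd
  refine ext_ent ?_ ?_ ?_ ?_ <;> rw [ent_mul]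
  · rw [f1, f2, ent_one_00]; linear_combination hd
  · rw [f2, ent_one_01]; ring
  · rw [f1, ent_one_10]; ring
  · rw [f1, f2, ← f3, ent_one_11]; linear_combination hd

end fin

end Cfsg.Agent.ClosedExc.SL
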